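import Cfsg.Agent.H878.KerBase
import Cfsg.Agent.S2100
import Cfsg.Agent.S2101
import Cfsg.Agent.S2102
import Cfsg.Agent.S2103
import Cfsg.Agent.S2104
import Cfsg.Agent.S2105
import Cfsg.Agent.S2106
import Cfsg.Agent.S2107
import Cfsg.Agent.S2108
import Cfsg.Agent.S2109
import Cfsg.Agent.S2110
import Cfsg.Agent.S2111
import Cfsg.Agent.S2112
import Cfsg.Agent.S2113
import Cfsg.Agent.S2114
import Cfsg.Agent.S2115
import Cfsg.Agent.OrdDiv.Table

/-!
# `Away r` for the exceptional groups of Lie type (helper878)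
-/

set_option autoImplicit false

namespace Cfsg.Agent.H878

open Cfsg

universe u v

theorem three_dvd_gcd {k : ℕ} {r : ℕ} (hr : r.Prime) (h : r ∣ Nat.gcd 3 k) : r = 3 ∧ 3 ∣ k := by
  have h1 : r ∣ 3 := h.trans (Nat.gcd_dvd_left _ _)
  have h2 := (Nat.prime_dvd_prime_iff_eq hr Nat.prime_three).1 h1
  subst h2
  exact ⟨rfl, h.trans (Nat.gcd_dvd_right _ _)⟩

/-- The exceptional groups whose multiplier may be divisible by the odd prime `r`. -/
theorem away_exc {T : Type v} [Group T] (h : IsExceptionalLieType T) {r : ℕ} (hr : r.Prime) (hodd : Odd r)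
    (h38 : r = 3 → 3 ^ 8 ∣ Nat.card T) : Away.{u} r T ∨
    (r = 3 ∧ ∃ (F : Type) (_ : Field F) (_ : Fintype F), 3 ∣ Fintype.card F - 1 ∧
      Nonempty (T ≃* ↥(Lie.chevE6.group F))) ∨
    (r = 3 ∧ ∃ (K : Type) (_ : Field K) (_ : Fintype K) (q : ℕ), IsPrimePow q ∧ Fintype.card K = q ^ 2 ∧ 3 ∣ q + 1 ∧
      Nonempty (T ≃* ↥(Lie.twistedE6 K q))) := by
  rcases h with h | h | h | h | h | h | h | h | h | h | h
  · left
    obtain ⟨F, _, _, hF, e⟩ := h
    by_cases h5 : 5 ≤ Fintype.card F
    · exact (away_cyc hr hodd (S2100.result h5) (by decide)).of_nonempty e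
    · rcases (show Fintype.card F = 3 ∨ Fintype.card F = 4 by omega) with h | h
      · by_cases hr3 : r = 3
        · exfalso
          have h1 := h38 hr3
          have h2 : Nat.card T = 3 ^ 6 * (3 ^ 2 - 1) * (3 ^ 6 - 1) := by
            rw [Nat.card_congr e.some.toEquiv, (OrdDiv.table.{0}).g2 F, h]
          rw [h2] at h1
          revert h1; decide
        · exact (away_cyc12 hr hodd hr3 (S2101.result h) (by decide)).of_nonempty e
      · exact (away_cyc hr hodd (S2102.result h) (by decide)).of_nonempty e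
  · left
    obtain ⟨F, _, _, e⟩ := h
    by_cases h5 : 3 ≤ Fintype.card F
    · exact (away_cyc hr hodd (S2103.result h5) (by decide)).of_nonempty e
    · have h1 : 1 < Fintype.card F := Fintype.one_lt_card
      exact (away_cyc hr hodd (S2104.result (show Fintype.card F = 2 by omega)) (by decide)).of_nonempty e
  · obtain ⟨F, _, _, e⟩ := h
    by_cases hd : r ∣ Nat.gcd 3 (Fintype.card F - 1)
    · right; left
      obtain ⟨h3, h4⟩ := three_dvd_gcd hr hd
      exact ⟨h3, F, _, _, h4, e⟩
    · left
      exact (away_cyc' (S2105.result rfl) hd).of_nonempty e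
  · left
    obtain ⟨F, _, _, e⟩ := h
    exact (away_cyc hr hodd (S2106.result rfl) ((Nat.gcd_dvd_left 2 _).trans (by decide))).of_nonempty e
  · left
    obtain ⟨F, _, _, e⟩ := h
    exact (away_cyc hr hodd S2107.result (by decide)).of_nonempty e
  · obtain ⟨K, _, _, q, hq, hK, e⟩ := h
    by_cases hd : r = 3 ∧ 3 ∣ q + 1
    · right; right
      exact ⟨hd.1, K, _, _, q, hq, hK, hd.2, e⟩
    · left
      by_cases h2 : q = 2
      · subst h2
        have hr3 : r ≠ 3 := fun h => hd ⟨h, by decide⟩
        refine Away.of_nonempty ⟨6, ?_, not_dvd_six hr hodd hr3 (by decide)⟩ e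
        refine kerExp_of_mult (S2109.result hK) ?_
        have : ∀ a : ZMod 3 × ZMod 2 × ZMod 2, 6 • a = 0 := by decide
        exact this
      · refine (away_cyc' (S2108.result hq hK h2) ?_).of_nonempty e
        intro h3
        exact hd (three_dvd_gcd hr h3)
  · left
    obtain ⟨K, _, _, q, hq, hK, e⟩ := h
    exact (away_cyc hr hodd (S2110.result hq hK) (by decide)).of_nonempty e
  · left
    obtain ⟨F, _, _, m, hm, hF, e⟩ := h
    by_cases h2 : m = 1
    · subst h2
      refine Away.of_nonempty ⟨2, ?_, not_dvd_two hr hodd (by decide)⟩ e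
      refine kerExp_of_mult (S2112.result hF) ?_
      have : ∀ a : ZMod 2 × ZMod 2, 2 • a = 0 := by decide
      exact this
    · exact (away_cyc hr hodd (S2111.result (show 2 ≤ m by omega) hF) (by decide)).of_nonempty e
  · left
    obtain ⟨F, _, _, m, hm, hF, e⟩ := h
    exact (away_cyc hr hodd (S2113.result hm hF) (by decide)).of_nonempty e
  · left
    obtain ⟨F, _, _, m, hm, hF, e⟩ := h
    exact (away_cyc hr hodd (S2114.result hm hF) (by decide)).of_nonempty e
  · left
    exact (away_cyc hr hodd S2115.result (by decide)).of_nonempty h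

end Cfsg.Agent.H878
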