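import Cfsg.Agent.H878.KerBase
import Cfsg.Agent.OrdDiv.Table
import Cfsg.Agent.S2034
import Cfsg.Agent.S2035
import Cfsg.Agent.S2036
import Cfsg.Agent.S2037
import Cfsg.Agent.S2038
import Cfsg.Agent.S2039
import Cfsg.Agent.S2040
import Cfsg.Agent.S2041
import Cfsg.Agent.S2042
import Cfsg.Agent.S2043
import Cfsg.Agent.S2044
import Cfsg.Agent.S2045
import Cfsg.Agent.S2046
import Cfsg.Agent.S2047
import Cfsg.Agent.S2048
import Cfsg.Agent.S2049
import Cfsg.Agent.S2050
import Cfsg.Agent.S2051
import Cfsg.Agent.S2052
import Cfsg.Agent.S2053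
import Cfsg.Agent.S2054
import Cfsg.Agent.S2055
import Cfsg.Agent.S2056
import Cfsg.Agent.S2057
import Cfsg.Agent.S2058
import Cfsg.Agent.S2059

/-!
# `Away r` for the sporadic groups (helper878)
-/

set_option autoImplicit false

namespace Cfsg.Agent.H878

open Cfsg

universe u v

/-- The sporadic groups of order divisible by `3 ^ 8` whose multiplier is divisible by an odd prime. -/
theorem away_spor {T : Type v} [Group T] (h : IsSporadicGroup T) {r : ℕ} (hr : r.Prime) (hodd : Odd r)
    (h38 : r = 3 → 3 ^ 8 ∣ Nat.card T) : Away.{u} r T ∨ (r = 3 ∧ Spor.IsoFi22 T) ∨ (r = 3 ∧ Spor.IsoFi24' T) := by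
  rcases h with h | h | h | h | h | h | h | h | h | h | h | h | h | h | h | h | h | h | h | h | h | h | h | h | h | h
  · exact Or.inl ((away_cyc hr hodd S2034.result (by decide)).of_nonempty h)
  · exact Or.inl ((away_cyc hr hodd S2035.result (by decide)).of_nonempty h)
  · -- M22
    left
    by_cases hr3 : r = 3
    · exfalso
      have h1 := OrdDiv.table.{v}.spor T (.m22, 443520) (by decide) h
      have h2 := h38 hr3
      rw [h1] at h2
      revert h2
      decide
    · exact (away_cyc12 hr hodd hr3 S2036.result (by decide)).of_nonempty h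
  · exact Or.inl ((away_cyc hr hodd S2037.result (by decide)).of_nonempty h)
  · exact Or.inl ((away_cyc hr hodd S2038.result (by decide)).of_nonempty h)
  · exact Or.inl ((away_cyc hr hodd S2039.result (by decide)).of_nonempty h)
  · exact Or.inl ((away_cyc hr hodd S2040.result (by decide)).of_nonempty h)
  · -- J3
    left
    by_cases hr3 : r = 3
    · exfalso
      have h1 := OrdDiv.table.{v}.spor T (.j3, 50232960) (by decide) h
      have h2 := h38 hr3
      rw [h1] at h2
      revert h2
      decide
    · obtain ⟨F, _, _, ω, hF, hω, e⟩ := h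
      exact (away_cyc12 hr hodd hr3 (S2041.result hF ω hω) (by decide)).of_nonempty e
  · exact Or.inl ((away_cyc hr hodd S2042.result (by decide)).of_nonempty h)
  · exact Or.inl ((away_cyc hr hodd S2043.result (by decide)).of_nonempty h)
  · exact Or.inl ((away_cyc hr hodd S2044.result (by decide)).of_nonempty h)
  · exact Or.inl ((away_cyc hr hodd S2045.result (by decide)).of_nonempty h)
  · -- McL
    left
    by_cases hr3 : r = 3
    · exfalso
      have h1 := OrdDiv.table.{v}.spor T (.mcl, 898128000) (by decide) h
      have h2 := h38 hr3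
      rw [h1] at h2
      revert h2
      decide
    · exact (away_cyc12 hr hodd hr3 S2047.result (by decide)).of_nonempty h
  · exact Or.inl ((away_cyc hr hodd S2046.result (by decide)).of_nonempty h)
  · -- Suz
    left
    by_cases hr3 : r = 3
    · exfalso
      have h1 := OrdDiv.table.{v}.spor T (.suz, 448345497600) (by decide) h
      have h2 := h38 hr3
      rw [h1] at h2
      revert h2
      decide
    · exact (away_cyc12 hr hodd hr3 S2048.result (by decide)).of_nonempty h
  · exact Or.inl ((away_cyc hr hodd S2049.result (by decide)).of_nonempty h)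
  · exact Or.inl ((away_cyc hr hodd S2051.result (by decide)).of_nonempty h)
  · -- O'N
    left
    by_cases hr3 : r = 3
    · exfalso
      have h1 := OrdDiv.table.{v}.spor T (.on, 460815505920) (by decide) h
      have h2 := h38 hr3
      rw [h1] at h2
      revert h2
      decide
    · exact (away_cyc12 hr hodd hr3 S2052.result (by decide)).of_nonempty h
  · exact Or.inl ((away_cyc hr hodd S2050.result (by decide)).of_nonempty h)
  · by_cases hr3 : r = 3
    · exact Or.inr (Or.inl ⟨hr3, h⟩)
    · exact Or.inl ((away_cyc12 hr hodd hr3 S2053.result (by decide)).of_nonempty h)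
  · exact Or.inl ((away_cyc hr hodd S2054.result (by decide)).of_nonempty h)
  · by_cases hr3 : r = 3
    · exact Or.inr (Or.inr ⟨hr3, h⟩)
    · exact Or.inl ((away_cyc12 hr hodd hr3 S2055.result (by decide)).of_nonempty h)
  · exact Or.inl ((away_cyc hr hodd S2056.result (by decide)).of_nonempty h)
  · exact Or.inl ((away_cyc hr hodd S2057.result (by decide)).of_nonempty h)
  · exact Or.inl ((away_cyc hr hodd S2058.result (by decide)).of_nonempty h)
  · exact Or.inl ((away_cyc hr hodd S2059.result (by decide)).of_nonempty h)

end Cfsg.Agent.H878
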