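import Cfsg.Agent.H878.KerClass
import Cfsg.Agent.H878.KerExc
import Cfsg.Agent.H878.KerSpor

/-!
# The known simple groups with a multiplier divisible by an odd prime (helper878)
-/

set_option autoImplicit false

namespace Cfsg.Agent.H878

open Cfsg

universe u v

/-- A known non-abelian simple group `T` (of order divisible by `3 ^ 8` if `r = 3`, by `r ^ 3` if `r ≥ 5`) with a
perfect central extension whose kernel has an element of order `r`, `r` an odd prime. -/
theorem known_away {T : Type v} [Group T] (h : IsKnownSimple' T) (hna : ¬ IsMulCommutative T)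
    {r : ℕ} (hr : r.Prime) (hodd : Odd r) (h38 : r = 3 → 3 ^ 8 ∣ Nat.card T) (h5 : 5 ≤ r → r ^ 3 ∣ Nat.card T) :
    Away.{u} r T ∨
    (∃ (F : Type) (_ : Field F) (_ : Fintype F) (n : ℕ), 2 ≤ n ∧ r ∣ n ∧ r ∣ Fintype.card F - 1 ∧
      Nonempty (T ≃* Matrix.ProjectiveSpecialLinearGroup (Fin n) F)) ∨
    (∃ (F : Type) (_ : Field F) (_ : Fintype F) (n q : ℕ), Fintype.card F = q ^ 2 ∧ 3 ≤ n ∧ r ∣ n ∧ r ∣ q + 1 ∧
      ¬ (n = 3 ∧ q = 2) ∧ Nonempty (T ≃* PSU n F q)) ∨
    (r = 3 ∧ ∃ (F : Type) (_ : Field F) (_ : Fintype F), Fintype.card F = 3 ∧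
      Nonempty (T ≃* POmega F (quadFormOdd 3 F))) ∨
    (r = 3 ∧ ∃ (F : Type) (_ : Field F) (_ : Fintype F), 3 ∣ Fintype.card F - 1 ∧
      Nonempty (T ≃* ↥(Lie.chevE6.group F))) ∨
    (r = 3 ∧ ∃ (K : Type) (_ : Field K) (_ : Fintype K) (q : ℕ), IsPrimePow q ∧ Fintype.card K = q ^ 2 ∧ 3 ∣ q + 1 ∧
      Nonempty (T ≃* ↥(Lie.twistedE6 K q))) ∨
    (r = 3 ∧ Spor.IsoFi22 T) ∨ (r = 3 ∧ Spor.IsoFi24' T) := by
  rcases h with h | h | h | h | h | h | h | h | h | h
  · exfalso
    apply hna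
    have h1 : Fact (Nat.card T).Prime := ⟨h⟩
    have h2 : IsCyclic T := isCyclic_of_prime_card (p := Nat.card T) rfl
    exact IsCyclic.isMulCommutative
  · obtain ⟨n, hn, ⟨e⟩⟩ := h
    left
    exact (away_alt hr hodd hn (fun h3 => by rw [← Nat.card_congr e.toEquiv]; exact h38 h3)).congr e
  · rcases away_psl.{u} h hr hodd h38 h5 with h | h
    · exact Or.inl h
    · exact Or.inr (Or.inl h)
  · exact Or.inl (away_psp h hr hodd)
  · rcases away_psu.{u} h hr hodd h38 h5 with h | h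
    · exact Or.inl h
    · exact Or.inr (Or.inr (Or.inl h))
  · rcases away_oodd.{u} h hr hodd with h | h
    · exact Or.inl h
    · exact Or.inr (Or.inr (Or.inr (Or.inl h)))
  · exact Or.inl (away_oplus h hr hodd)
  · exact Or.inl (away_ominus h hr hodd)
  · rcases away_exc.{u} h hr hodd h38 with h | h | h
    · exact Or.inl h
    · exact Or.inr (Or.inr (Or.inr (Or.inr (Or.inl h))))
    · exact Or.inr (Or.inr (Or.inr (Or.inr (Or.inr (Or.inl h)))))
  · rcases away_spor.{u} h hr hodd h38 with h | h | h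
    · exact Or.inl h
    · exact Or.inr (Or.inr (Or.inr (Or.inr (Or.inr (Or.inr (Or.inl h))))))
    · exact Or.inr (Or.inr (Or.inr (Or.inr (Or.inr (Or.inr (Or.inr h))))))

end Cfsg.Agent.H878
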