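import Cfsg.Agent.H878.CSixLarge
import Cfsg.Agent.H886.Sq.Main

/-!
# Class 6 in dimension `≥ 13`: the theorems for `SL` and `SU` (helper878)
-/

set_option autoImplicit false

namespace Cfsg.Agent.H878

open Cfsg Cfsg.Geo Matrix Cfsg.Agent.H920
open scoped MatrixGroups

universe u

theorem degBound {ι : Type} [Fintype ι] [DecidableEq ι] [Nonempty ι] {F : Type u} [Field F] (h2 : (2 : F) ≠ 0) :
    DegBound ι F := by
  refine ⟨?_, ?_⟩
  · intro P K _ _ l hl hodd h4 E
    exact Cfsg.Agent.H886.Sq.pomega_plus_deg hl hodd h4 h2 P E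
  · intro P K _ _ l a b hl hodd h4 hab E
    obtain ⟨m, rfl⟩ : ∃ m, l = m + 1 := ⟨l - 1, by omega⟩
    have heven : Even m := by
      rcases Nat.even_or_odd m with h | h
      · exact h
      · exfalso
        have := h.add_one
        exact (Nat.not_even_iff_odd.2 hodd) this
    have h := Cfsg.Agent.H886.Sq.pomega_minus_deg hab (by omega : 4 ≤ m) heven h4 h2 P E
    omega

theorem two_ne_of_minimal {F : Type u} [Field F] [Fintype F] {z p e : ℕ} (hp : 2 ≠ p)
    (h : IsMinimalFieldFor z p e F) : (2 : F) ≠ 0 := by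
  obtain ⟨hpp, hchar, -⟩ := h
  intro h2
  have h3 : ((2 : ℕ) : F) = 0 := by exact_mod_cast h2
  rw [CharP.cast_eq_zero_iff F p] at h3
  exact hp ((Nat.prime_dvd_prime_iff_eq hpp Nat.prime_two).1 h3).symm

theorem s5640 {F : Type u} [Field F] [Fintype F] (n : ℕ) (hn : 13 ≤ n) (r : ℕ)
    (R : Subgroup (GL (Fin n) F)) (hR : IsLinearSymplecticTypeData r R) :
    IsMaximalIn (specialLinear (Fin n) F) (subgroupNormalizer R ⊓ specialLinear (Fin n) F) := by
  haveI : Nonempty (Fin n) := ⟨⟨0, by omega⟩⟩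
  refine c6_SL_large (fun h => ?_) hR (by rw [Fintype.card_fin]; exact hn)
  subst h
  obtain ⟨p, e, hp, hmin, -⟩ := hR.field
  exact degBound (two_ne_of_minimal hp hmin)

theorem s5661 {F : Type u} [Field F] [Fintype F] (n q : ℕ) (hF : Fintype.card F = q ^ 2) (hn : 13 ≤ n) (r : ℕ)
    (R : Subgroup (GL (Fin n) F)) (p e k : ℕ) (hR : IsSymplecticTypeGroup r R)
    (hirr : ActsAbsolutelyIrreducibly (matrixSet R)) (hRD : R ≤ GU n F q) (hrp : r ≠ p)
    (hmin : IsMinimalFieldFor (Nat.card (Subgroup.center R)) p e F)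
    (htype : (Odd r ∧ Nat.card (Subgroup.center R) = r ∧ 1 ≤ k ∧ Nat.card R = r ^ (1 + 2 * k)) ∨
      (r = 2 ∧ e = 2 ∧ Nat.card (Subgroup.center R) = 4 ∧ Nat.card R = 2 ^ (2 + 2 * k))) :
    IsMaximalIn (GU n F q ⊓ specialLinear (Fin n) F)
      (subgroupNormalizer R ⊓ (GU n F q ⊓ specialLinear (Fin n) F)) := by
  haveI : Nonempty (Fin n) := ⟨⟨0, by omega⟩⟩
  refine c6_SU_large (fun h => ?_) hF hn hR hirr hRD hmin htype
  subst h
  exact degBound (two_ne_of_minimal hrp hmin)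

end Cfsg.Agent.H878
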