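import Cfsg.Agent.H878.OddD
import Cfsg.Agent.Schreier.Assembly

/-!
# Class 6, `r ≥ 5` (helper878, on helper920's framework)
-/

set_option autoImplicit false

namespace Cfsg.Agent.H878

open Cfsg Cfsg.Geo Matrix Cfsg.Agent.H920
open scoped MatrixGroups

universe u

theorem schAll (ι : Type) [Fintype ι] [DecidableEq ι] (F : Type u) [Field F] [Finite F] : SchAll ι F := by
  intro P hP hna
  have := hP
  exact Schreier.Assembly.known (SQ P) hna S0000.result

/-- **Class 6 in `SL`, `r ≥ 5`.** -/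
theorem c6_SL_five {ι : Type} [Fintype ι] [DecidableEq ι] {F : Type u} [Field F] [Fintype F] {r : ℕ}
    {R : Subgroup (GL ι F)} (hr5 : 5 ≤ r) (hR : IsLinearSymplecticTypeData r R) (h5 : 5 ≤ Fintype.card ι) :
    IsMaximalIn (specialLinear ι F) (subgroupNormalizer R ⊓ specialLinear ι F) :=
  maximal_SL hR h5 (schAll ι F) (fun k C Y X P hX hO _ => D_linear_five hr5 hR k C Y X P hX hO)

/-- **Class 6 in `SU`, `r ≥ 5`.** -/
theorem c6_SU_five {F : Type u} [Field F] [Fintype F] {n q r k : ℕ} {R : Subgroup (GL (Fin n) F)} (hr5 : 5 ≤ r)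
    (hF : Fintype.card F = q ^ 2) (h5 : 5 ≤ n) (hR : IsSymplecticTypeGroup r R)
    (hirr : ActsAbsolutelyIrreducibly (matrixSet R)) (hRD : R ≤ GU n F q) {p e : ℕ}
    (hmin : IsMinimalFieldFor (Nat.card (Subgroup.center R)) p e F) (htype : IsType r k R) :
    IsMaximalIn (GU n F q ⊓ specialLinear (Fin n) F)
      (subgroupNormalizer R ⊓ (GU n F q ⊓ specialLinear (Fin n) F)) :=
  maximal_SU hF h5 hR hirr hRD hmin htype (schAll (Fin n) F)
    (fun C Y X P hX hO => D_unitary_five hr5 hF hmin C Y X P hX hO)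

end Cfsg.Agent.H878
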