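import Cfsg.Agent.H920.CsFrame
import Cfsg.Agent.H920.CsMem
import Cfsg.Agent.H878.SData

/-!
# From the coordinates of helper920 to the frames of this folder, `r` odd (helper878)
-/

set_option autoImplicit false

namespace Cfsg.Agent.H878

open Cfsg Cfsg.Geo Matrix Cfsg.Agent.ClassicalGeometry.SympBasic Cfsg.Agent.H920
open scoped MatrixGroups

variable {ι : Type} [Fintype ι] [DecidableEq ι] {F : Type*} [Field F] {R : Subgroup (GL ι F)} {r k : ℕ}

/-- An element inducing a symplectic matrix acts on the frame. -/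
theorem acts_of_ind [hr : Fact r.Prime] (C : Coord R r k) {s : Vec r k → R} (hs : ∀ v, C.φ (s v) = v)
    {g : GL ι F} {A : Matrix (Fin k ⊕ Fin k) (Fin k ⊕ Fin k) (ZMod r)} (hg : C.Ind g A)
    {γ : Vec r k ≃ₗ[ZMod r] Vec r k} (hγ : ∀ v, γ v = A *ᵥ v) :
    Acts (fun v => (s v : GL ι F)) g γ := by
  rw [acts_iff]
  intro w
  obtain ⟨y', h1, h2⟩ := hg (s w)
  rw [hs] at h2
  obtain ⟨c, hc0, hc⟩ := C.exists_smul (x := s (γ w)) (y := y') (by rw [hs, h2, hγ])
  refine ⟨c, hc0, ?_⟩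
  rw [← Units.val_mul, ← Units.val_mul, h1]
  exact hc

/-- The bridge: a core in the sense of helper920 contains `NT1`. -/
theorem NT1_le_of_core [hr : Fact r.Prime] [Nonempty ι] (C : Coord R r k) {Y : Subgroup (GL ι F)} (hY : C.Core Y)
    (hRY : R ≤ Y) {s : Vec r k → R} (hs : ∀ v, C.φ (s v) = v)
    (h : Frame C.χ (sympBilin k (ZMod r)) (fun v => (s v : GL ι F))) : NT1 h ≤ Y := by
  have key : ∀ g ∈ NT h, ∃ y ∈ Y, ∃ z ∈ scalars ι F, g = z * y := by
    rintro g ⟨γ, hγ, hg⟩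
    set A := LinearMap.toMatrix' (γ : Vec r k →ₗ[ZMod r] Vec r k) with hA
    have hAv : ∀ v, γ v = A *ᵥ v := by
      intro v
      rw [hA, ← Matrix.toLin'_apply, Matrix.toLin'_toMatrix']
      rfl
    have hAs : A ∈ Matrix.symplecticGroup (Fin k) (ZMod r) := by
      rw [mem_symplecticGroup_iff]
      intro u v
      rw [← hAv, ← hAv]
      exact b_TG _ _ hγ u v
    obtain ⟨y, hy, hyA⟩ := hY.ind A hAs
    have hya := acts_of_ind C hs hyA hAv
    have h1 : Acts (fun v => (s v : GL ι F)) (g * y⁻¹) (1 : Vec r k ≃ₗ[ZMod r] Vec r k) := by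
      have := hg.mul hya.inv
      rwa [mul_inv_cancel] at this
    obtain ⟨u, c, hc0, hc⟩ := h.eq_smul_X_of_acts_one h1
    refine ⟨(s u : GL ι F) * y, Y.mul_mem (hRY (s u).2) hy, g * y⁻¹ * (s u : GL ι F)⁻¹, ?_, by group⟩
    apply H920.mem_scalars_of_val (c := c)
    rw [Units.val_mul, hc, Matrix.smul_mul, ← Units.val_mul, mul_inv_cancel, Units.val_one]
  change ⁅NT h, NT h⁆ ≤ Y
  rw [Subgroup.commutator_le]
  intro a ha c hc
  obtain ⟨y, hy, z, hz, rfl⟩ := key a ha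
  obtain ⟨y', hy', z', hz', rfl⟩ := key c hc
  have hz1 : ∀ x : GL ι F, z * x = x * z := fun x => H920.scalars_comm hz x
  have hz2 : ∀ x : GL ι F, z' * x = x * z' := fun x => H920.scalars_comm hz' x
  have h1 : z * y * (z' * y') * (z * y)⁻¹ * (z' * y')⁻¹ = y * y' * y⁻¹ * y'⁻¹ := by
    rw [_root_.mul_inv_rev, _root_.mul_inv_rev]
    calc z * y * (z' * y') * (y⁻¹ * z⁻¹) * (y'⁻¹ * z'⁻¹)
        = z * (y * z' * y' * y⁻¹) * z⁻¹ * y'⁻¹ * z'⁻¹ := by group
      _ = y * z' * y' * y⁻¹ * y'⁻¹ * z'⁻¹ := by rw [hz1]; group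
      _ = y * (z' * (y' * y⁻¹ * y'⁻¹)) * z'⁻¹ := by group
      _ = y * y' * y⁻¹ * y'⁻¹ := by rw [hz2]; group
  rw [commutatorElement_def, h1, ← commutatorElement_def]
  exact (Subgroup.commutator_le.1 hY.perfect.le) y hy y' hy'

/-- **The bridge**, `r` odd. -/
theorem exists_bridge [Finite F] [Nonempty ι] (hodd : Odd r) (hR : IsSymplecticTypeGroup r R)
    (habs : ActsAbsolutelyIrreducibly (matrixSet R)) (ht : IsType r k R) (h5 : 5 ≤ r ^ k) {C : Coord R r k}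
    {Y : Subgroup (GL ι F)} (hY : C.Core Y) :
    haveI : Fact r.Prime := ⟨hR.prime⟩
    ∃ (X : Vec r k → GL ι F) (h : Frame C.χ (sympBilin k (ZMod r)) X), Normed r X ∧ NT1 h ≤ Y := by
  have hfin : Finite (GL ι F) := inferInstance
  have hp : Fact r.Prime := ⟨hR.prime⟩
  have hfull : ∀ v, ∃ x : R, C.φ x = v ∧ x ^ r = 1 := by
    intro v
    obtain ⟨x, rfl⟩ := C.surj v
    obtain ⟨z, hz, h⟩ := full_of_type hR habs ht x
    refine ⟨z * x, ?_, h⟩
    rw [C.map_mul, (C.ker_iff z).2 (mem_scalars_of_mem_center habs hz), zero_add]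
  choose s hs hs' using hfull
  have h := C.frame habs hs
  refine ⟨_, h, Or.inl ⟨hodd, fun v => ?_⟩, NT1_le_of_core C hY (hY.le_core hR habs ht h5) hs h⟩
  rw [← Units.val_pow_eq_pow_val, ← Subgroup.coe_pow, hs', Subgroup.coe_one, Units.val_one]

end Cfsg.Agent.H878
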