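import Cfsg.Agent.H878.OddOver
import Cfsg.Agent.S0000

/-!
# The overgroups in the case of simple quotient, `r` odd (helper878)

`D_linear`, `D_unitary` : the hypotheses `hD` of `H920.maximal_SL`, `H920.maximal_SU`, up to the three exceptional
candidates for `r = 3`.
-/

set_option autoImplicit false

namespace Cfsg.Agent.H878

open Cfsg Cfsg.Geo Matrix Cfsg.Agent.H920
open scoped MatrixGroups

universe u

theorem known {ι : Type} [Fintype ι] [DecidableEq ι] {F : Type u} [Field F] [Finite F] (P : Subgroup (GL ι F))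
    (hP : IsSimpleGroup (SQ P)) : IsKnownSimple' (SQ P) :=
  S0000.result

section linear

variable {ι : Type} [Fintype ι] [DecidableEq ι] {F : Type u} [Field F] [Fintype F] {R : Subgroup (GL ι F)} {r k : ℕ}

theorem D_linear_of (hodd : Odd r) (hR : IsLinearSymplecticTypeData r R) {C : Coord R r k}
    {Y X P : Subgroup (GL ι F)} (hX : X ≤ specialLinear ι F) (hO : IsOver C Y X P) (hexc : r = 3 → ¬ Exc (SQ P)) :
    specialLinear ι F ≤ P := by
  have hr : r.Prime := hO.hR.prime
  obtain ⟨p, e, hrp, hmin, hcase⟩ := hR.field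
  obtain ⟨he, hZ⟩ : Odd e ∧ Nat.card (Subgroup.center R) = r := by
    rcases hcase with h | h | h
    · exact ⟨h.2.1, h.2.2.1⟩
    · rw [h.1] at hodd; exact absurd hodd (by decide)
    · rw [h.1] at hodd; exact absurd hodd (by decide)
  rw [hZ] at hmin
  have hPS : P ≤ specialLinear ι F := hO.isCore.le.trans hX
  obtain ⟨hout, -⟩ := outcome hodd hO hPS hmin.2.1 (known P hO.isCore.simple)
  rcases hout with h | h | h | h | h
  · obtain ⟨K, _, _, d, hK, hnd, hrK, E⟩ := h
    exact (psl_linear hr hmin he.pos hO.card_eq hO.five hO.isCore.perfect hPS hK hnd hrK E).ge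
  · obtain ⟨K, _, _, d, q, hKq, hK, hnd, hrK, E⟩ := h
    exact (psu_linear hr hodd hmin he hK hKq hrK).elim
  · exact absurd (Or.inl h.2) (hexc h.1)
  · exact absurd (Or.inr (Or.inl h.2)) (hexc h.1)
  · exact absurd (Or.inr (Or.inr h.2)) (hexc h.1)

/-- **(D), `r ≥ 5`, linear.** -/
theorem D_linear_five (h5 : 5 ≤ r) (hR : IsLinearSymplecticTypeData r R) (k : ℕ) (C : Coord R r k)
    (Y X P : Subgroup (GL ι F)) (hX : X ≤ specialLinear ι F) (hO : IsOver C Y X P) : specialLinear ι F ≤ P :=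
  D_linear_of (hO.hR.prime.odd_of_ne_two (by omega)) hR hX hO (by omega)

end linear

section unitary

variable {F : Type u} [Field F] [Fintype F] {n q : ℕ} {R : Subgroup (GL (Fin n) F)} {r k : ℕ}

theorem D_unitary_of (hodd : Odd r) (hF : Fintype.card F = q ^ 2) {p e : ℕ}
    (hmin : IsMinimalFieldFor (Nat.card (Subgroup.center R)) p e F) {C : Coord R r k}
    {Y X P : Subgroup (GL (Fin n) F)} (hX : X ≤ GU n F q ⊓ specialLinear (Fin n) F) (hO : IsOver C Y X P)
    (hexc : r = 3 → ¬ Exc (SQ P)) :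
    GU n F q ⊓ specialLinear (Fin n) F ≤ P := by
  have hr : r.Prime := hO.hR.prime
  have hZ : Nat.card (Subgroup.center R) = r := by
    rcases hO.type with h | h
    · exact h.2.1
    · rw [h.1] at hodd; exact absurd hodd (by decide)
  rw [hZ] at hmin
  have hn : n = r ^ k := by have := hO.card_eq; rwa [Fintype.card_fin] at this
  have h5 : 5 ≤ n := by rw [hn]; exact hO.five
  have hPS : P ≤ GU n F q ⊓ specialLinear (Fin n) F := hO.isCore.le.trans hX
  obtain ⟨hout, -⟩ := outcome hodd hO (hPS.trans inf_le_right) hmin.2.1 (known P hO.isCore.simple)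
  rcases hout with h | h | h | h | h
  · obtain ⟨K, _, _, d, hK, hnd, hrK, E⟩ := h
    exact (psl_unitary hr hmin hF h5 hPS hK (hn ▸ hnd) hrK E).elim
  · obtain ⟨K, _, _, d, q', hKq, hK, hnd, hrK, E⟩ := h
    exact (psu_unitary hr hmin hF h5 hO.isCore.perfect hPS hK hKq (hn ▸ hnd) hrK E).ge
  · exact absurd (Or.inl h.2) (hexc h.1)
  · exact absurd (Or.inr (Or.inl h.2)) (hexc h.1)
  · exact absurd (Or.inr (Or.inr h.2)) (hexc h.1)

/-- **(D), `r ≥ 5`, unitary.** -/
theorem D_unitary_five (h5 : 5 ≤ r) (hF : Fintype.card F = q ^ 2) {p e : ℕ}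
    (hmin : IsMinimalFieldFor (Nat.card (Subgroup.center R)) p e F) (C : Coord R r k)
    (Y X P : Subgroup (GL (Fin n) F)) (hX : X ≤ GU n F q ⊓ specialLinear (Fin n) F) (hO : IsOver C Y X P) :
    GU n F q ⊓ specialLinear (Fin n) F ≤ P :=
  D_unitary_of (hO.hR.prime.odd_of_ne_two (by omega)) hF hmin hX hO (by omega)

end unitary

end Cfsg.Agent.H878
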