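import Cfsg.Agent.H878.OddCases
import Cfsg.Agent.H878.Ends
import Cfsg.Agent.H905.SLBasic
import Cfsg.Agent.NotCT.Orders

/-!
# The end of the argument for `r` odd: `PSL` and `PSU` (helper878)
-/

set_option autoImplicit false

namespace Cfsg.Agent.H878

open Cfsg Cfsg.Geo Matrix
open scoped MatrixGroups

universe u

section general

variable {ι : Type} [Fintype ι] [DecidableEq ι] {F : Type*} [Field F]

theorem card_sq_sl' [Fintype F] {n : ℕ} (hn : Fintype.card ι = n) :
    Nat.card (SQ (specialLinear ι F)) = Nat.card (ProjectiveSpecialLinearGroup (Fin n) F) := by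
  let E := Fintype.equivFinOfCardEq hn
  let R : GL ι F ≃* GL (Fin n) F := H7.ESixRep.reind hn F
  have hR : ∀ g : GL ι F, ((R g : GL (Fin n) F) : Matrix (Fin n) (Fin n) F) = Matrix.reindex E E (g : Matrix ι ι F) :=
    fun g => rfl
  have hdet : ∀ g : GL ι F, R g ∈ specialLinear (Fin n) F ↔ g ∈ specialLinear ι F := by
    intro g
    rw [specialLinear, MonoidHom.mem_ker, specialLinear, MonoidHom.mem_ker, ← Units.val_inj, ← Units.val_inj]
    rw [Matrix.GeneralLinearGroup.val_det_apply, Matrix.GeneralLinearGroup.val_det_apply, hR, Matrix.det_reindex_self]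
  have hsc : ∀ g : GL ι F, R g ∈ scalars (Fin n) F ↔ g ∈ scalars ι F := by
    intro g
    rw [mem_scalars_iff, mem_scalars_iff]
    apply exists_congr
    intro c
    rw [hR]
    constructor
    · intro h
      have h1 := congrArg (Matrix.reindex E.symm E.symm) h
      rw [← Matrix.reindex_symm, Equiv.symm_apply_apply] at h1
      rw [h1]
      ext i j
      simp [Matrix.one_apply]
    · intro h
      rw [h]
      ext i j
      simp [Matrix.one_apply]
  refine card_sq_of_hom (H := SpecialLinearGroup (Fin n) F)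
    (R.symm.toMonoidHom.comp SpecialLinearGroup.toGL)
    (R.symm.injective.comp SpecialLinearGroup.toGL_injective) ?_ ?_
  · ext g
    rw [← hdet, range_toGL]
    constructor
    · rintro ⟨x, hx⟩
      exact ⟨x, by
        change R.symm (SpecialLinearGroup.toGL x) = g
        rw [hx, MulEquiv.symm_apply_apply]⟩
    · rintro ⟨x, hx⟩
      refine ⟨x, ?_⟩
      rw [← hx]
      change _ = R (R.symm (SpecialLinearGroup.toGL x))
      rw [MulEquiv.apply_symm_apply]
  · intro z
    rw [← hsc]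
    change _ ↔ R (R.symm (SpecialLinearGroup.toGL z)) ∈ _
    rw [MulEquiv.apply_symm_apply, ← center_iff_scalars]
    exact (Matrix.SpecialLinearGroup.toGL_mem_center_iff z).symm

theorem card_psl_eq {F K : Type*} [Field F] [Fintype F] [Field K] [Fintype K]
    (h : Fintype.card F = Fintype.card K) {n : ℕ} (hn : 2 ≤ n) :
    Nat.card (ProjectiveSpecialLinearGroup (Fin n) F) = Nat.card (ProjectiveSpecialLinearGroup (Fin n) K) := by
  have h1 := S0243.result (F := F) rfl n hn
  have h2 := S0243.result (F := K) rfl n hn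
  rw [← h] at h2
  rw [← h2] at h1
  have hc : 1 < Fintype.card F := Fintype.one_lt_card
  have hpos : 0 < Nat.gcd n (Fintype.card F - 1) := Nat.gcd_pos_of_pos_left _ (by omega)
  exact Nat.eq_of_mul_eq_mul_left (by omega) (Nat.eq_of_mul_eq_mul_left hpos h1)

theorem card_psu_eq {F K : Type*} [Field F] [Fintype F] [Field K] [Fintype K] {q : ℕ}
    (hF : Fintype.card F = q ^ 2) (hK : Fintype.card K = q ^ 2) {n : ℕ} (hn : 2 ≤ n) :
    Nat.card (PSU n F q) = Nat.card (PSU n K q) := by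
  have h1 := S0280.result hF n hn
  have h2 := S0280.result hK n hn
  rw [← h2] at h1
  have hpos : 0 < Nat.gcd n (q + 1) := Nat.gcd_pos_of_pos_left _ (by omega)
  exact Nat.eq_of_mul_eq_mul_left (by omega) (Nat.eq_of_mul_eq_mul_left hpos h1)

end general

section fields

/-- The order of a field of characteristic `p`. -/
theorem exists_card {K : Type*} [Field K] [Fintype K] {p : ℕ} (hK : CharP K p) :
    ∃ f : ℕ, 0 < f ∧ Fintype.card K = p ^ f ∧ p.Prime := by
  have h := hK
  obtain ⟨f, hp, hf⟩ := FiniteField.card K p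
  exact ⟨f, f.pos, hf, hp⟩

theorem exists_card_sq {K : Type*} [Field K] [Fintype K] {p q : ℕ} (hK : CharP K p)
    (hq : Fintype.card K = q ^ 2) : ∃ f : ℕ, 0 < f ∧ q = p ^ f ∧ p.Prime ∧ Fintype.card K = p ^ (2 * f) := by
  obtain ⟨g, hg, hc, hp⟩ := exists_card hK
  have h1 : q ∣ p ^ g := by rw [← hc, hq]; exact Dvd.intro_left _ (by rw [sq])
  obtain ⟨f, -, hf⟩ := (Nat.dvd_prime_pow hp).1 h1
  have h2 : p ^ (2 * f) = p ^ g := by rw [← hc, hq, hf, ← pow_mul, mul_comm]
  have h3 : 2 * f = g := Nat.pow_right_injective hp.two_le h2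
  exact ⟨f, by omega, hf, hp, by rw [hc, h3]⟩

end fields

section main

variable {ι : Type} [Fintype ι] [DecidableEq ι] {F : Type*} [Field F] [Fintype F] {r : ℕ}

/-- The linear groups inside `SL`. -/
theorem psl_linear (hr : r.Prime) {p e n d : ℕ} (hmin : IsMinimalFieldFor r p e F) (he : 0 < e)
    (hcard : Fintype.card ι = n) (h5 : 5 ≤ n) {P : Subgroup (GL ι F)} (hPP : ⁅P, P⁆ = P)
    (hPS : P ≤ specialLinear ι F) {K : Type*} [Field K] [Fintype K] (hK : CharP K p) (hnd : n ≤ d)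
    (hrK : r ∣ Fintype.card K - 1) (E : Nonempty (SQ P ≃* ProjectiveSpecialLinearGroup (Fin d) K)) :
    P = specialLinear ι F := by
  obtain ⟨E⟩ := E
  obtain ⟨hp, hF, hcF, hdvd, hm⟩ := hmin
  obtain ⟨f, hf, hcK, -⟩ := exists_card hK
  have hef : e ≤ f := by
    rw [hcK] at hrK
    exact Nat.le_of_dvd hf (dvd_of_min hr hp he hdvd hm hrK)
  have h1 : Nat.card (ProjectiveSpecialLinearGroup (Fin d) K) ∣ Nat.card (ProjectiveSpecialLinearGroup (Fin n) F) := by
    rw [← Nat.card_congr E.toEquiv, ← card_sq_sl' hcard]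
    exact card_sq_dvd hPS
  have h2 : p ^ (f * (d * (d - 1) / 2)) ∣ p ^ (e * (n * (n - 1) / 2)) := by
    rw [pow_mul p e, ← hcF, ← ppart_psl hp rfl (by rw [hcF]; exact dvd_pow_self p he.ne') (by omega)]
    refine dvd_trans ?_ h1
    rw [ppart_psl hp rfl (by rw [hcK]; exact dvd_pow_self p hf.ne') (by omega), hcK, ← pow_mul]
  have h3 : f * (d * (d - 1) / 2) ≤ e * (n * (n - 1) / 2) := (Nat.pow_dvd_pow_iff_le_right hp.one_lt).1 h2
  obtain ⟨rfl, rfl⟩ := num_eq (show 1 ≤ e from he) hef (by omega) hnd h3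
  refine eq_of_card hPS (H905.sl_perfect (by omega)) hPP (le_of_eq ?_)
  rw [card_sq_sl' hcard, Nat.card_congr E.toEquiv]
  exact card_psl_eq (hcF.trans hcK.symm) (by omega)

/-- The unitary groups do not occur in `SL`. -/
theorem psu_linear (hr : r.Prime) (hodd : Odd r) {p e q : ℕ} (hmin : IsMinimalFieldFor r p e F) (he : Odd e)
    {K : Type*} [Field K] [Fintype K] (hK : CharP K p) (hKq : Fintype.card K = q ^ 2) (hrK : r ∣ q + 1) : False := by
  obtain ⟨hp, hF, hcF, hdvd, hm⟩ := hmin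
  obtain ⟨f, hf, hq, -, hcK⟩ := exists_card_sq hK hKq
  rw [hq] at hrK
  exact not_dvd_pow_add_one hr hodd hp he hdvd hm hrK

end main

section unitary

variable {F : Type*} [Field F] [Fintype F] {r : ℕ}

/-- The data of the field in the unitary case. -/
theorem field_unitary {p e q : ℕ} (hmin : IsMinimalFieldFor r p e F) (hFq : Fintype.card F = q ^ 2) :
    ∃ a, 0 < a ∧ e = 2 * a ∧ q = p ^ a := by
  obtain ⟨hp, hF, hcF, hdvd, hm⟩ := hmin
  obtain ⟨a, ha, hq, -, hc⟩ := exists_card_sq hF hFq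
  exact ⟨a, ha, Nat.pow_right_injective hp.two_le (hcF.symm.trans hc), hq⟩

theorem psl_unitary (hr : r.Prime) {p e n d q : ℕ} (hmin : IsMinimalFieldFor r p e F)
    (hFq : Fintype.card F = q ^ 2) (h5 : 5 ≤ n) {P : Subgroup (GL (Fin n) F)}
    (hPS : P ≤ GU n F q ⊓ specialLinear (Fin n) F) {K : Type*} [Field K] [Fintype K] (hK : CharP K p) (hnd : n ≤ d)
    (hrK : r ∣ Fintype.card K - 1) (E : Nonempty (SQ P ≃* ProjectiveSpecialLinearGroup (Fin d) K)) : False := by
  obtain ⟨E⟩ := E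
  obtain ⟨a, ha, he, hq⟩ := field_unitary hmin hFq
  obtain ⟨hp, hF, hcF, hdvd, hm⟩ := hmin
  obtain ⟨f, hf, hcK, -⟩ := exists_card hK
  have hef : e ≤ f := by
    rw [hcK] at hrK
    exact Nat.le_of_dvd hf (dvd_of_min hr hp (by omega) hdvd hm hrK)
  have h1 : Nat.card (ProjectiveSpecialLinearGroup (Fin d) K) ∣ Nat.card (PSU n F q) := by
    rw [← Nat.card_congr E.toEquiv, ← card_sq_su hFq (by omega)]
    exact card_sq_dvd hPS
  have h2 : p ^ (f * (d * (d - 1) / 2)) ∣ p ^ (a * (n * (n - 1) / 2)) := by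
    rw [pow_mul p a, ← hq, ← ppart_psu hp hFq (by rw [hq]; exact dvd_pow_self p ha.ne') (by omega)]
    refine dvd_trans ?_ h1
    rw [ppart_psl hp rfl (by rw [hcK]; exact dvd_pow_self p hf.ne') (by omega), hcK, ← pow_mul]
  have h3 : f * (d * (d - 1) / 2) ≤ a * (n * (n - 1) / 2) := (Nat.pow_dvd_pow_iff_le_right hp.one_lt).1 h2
  have h4 := num_eq (show 1 ≤ a from ha) (show a ≤ f by omega) (by omega) hnd h3
  omega

theorem psu_unitary (hr : r.Prime) {p e n d q q' : ℕ} (hmin : IsMinimalFieldFor r p e F)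
    (hFq : Fintype.card F = q ^ 2) (h5 : 5 ≤ n) {P : Subgroup (GL (Fin n) F)} (hPP : ⁅P, P⁆ = P)
    (hPS : P ≤ GU n F q ⊓ specialLinear (Fin n) F) {K : Type*} [Field K] [Fintype K] (hK : CharP K p)
    (hKq : Fintype.card K = q' ^ 2) (hnd : n ≤ d)
    (hrK : r ∣ q' + 1) (E : Nonempty (SQ P ≃* PSU d K q')) : P = GU n F q ⊓ specialLinear (Fin n) F := by
  obtain ⟨E⟩ := E
  obtain ⟨a, ha, he, hq⟩ := field_unitary hmin hFq
  obtain ⟨hp, hF, hcF, hdvd, hm⟩ := hmin
  obtain ⟨f, hf, hq', -, hcK⟩ := exists_card_sq hK hKq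
  have hef : a ≤ f := by
    have h1 : r ∣ p ^ (2 * f) - 1 := by
      have h3 : p ^ (2 * f) - 1 = (p ^ f + 1) * (p ^ f - 1) := by
        rw [two_mul, pow_add, ← Nat.sq_sub_sq (p ^ f) 1]
        rw [sq, one_pow]
      rw [h3, ← hq']
      exact hrK.mul_right _
    have h2 := Nat.le_of_dvd (by omega) (dvd_of_min hr hp (by omega) hdvd hm h1)
    omega
  have h1 : Nat.card (PSU d K q') ∣ Nat.card (PSU n F q) := by
    rw [← Nat.card_congr E.toEquiv, ← card_sq_su hFq (by omega)]
    exact card_sq_dvd hPS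
  have h2 : p ^ (f * (d * (d - 1) / 2)) ∣ p ^ (a * (n * (n - 1) / 2)) := by
    rw [pow_mul p a, ← hq, ← ppart_psu hp hFq (by rw [hq]; exact dvd_pow_self p ha.ne') (by omega)]
    refine dvd_trans ?_ h1
    rw [ppart_psu hp hKq (by rw [hq']; exact dvd_pow_self p hf.ne') (by omega), hq', ← pow_mul]
  have h3 : f * (d * (d - 1) / 2) ≤ a * (n * (n - 1) / 2) := (Nat.pow_dvd_pow_iff_le_right hp.one_lt).1 h2
  obtain ⟨rfl, rfl⟩ := num_eq (show 1 ≤ a from ha) hef (by omega) hnd h3
  have hqq : q = q' := by rw [hq, hq']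
  subst hqq
  refine eq_of_card hPS (su_perfect hFq (by omega)) hPP (le_of_eq ?_)
  rw [card_sq_su hFq (by omega), Nat.card_congr E.toEquiv]
  exact card_psu_eq hFq hKq (by omega)

end unitary

end Cfsg.Agent.H878
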