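import Cfsg.Agent.H878.TwoCases
import Cfsg.Agent.H878.OddMain
import Cfsg.Agent.H878.BridgeTwo
import Cfsg.Agent.H920.CsFinal
import Cfsg.Agent.H878.OddD

/-!
# The end of the argument for `r = 2`, `|Z(R)| = 4` (helper878)
-/

set_option autoImplicit false

namespace Cfsg.Agent.H878

open Cfsg Cfsg.Geo Matrix Cfsg.Agent.H920
open scoped MatrixGroups

universe u

section ends

theorem psl_in_sl {ι : Type} [Fintype ι] [DecidableEq ι] {F : Type*} [Field F] [Fintype F] {p e n d : ℕ}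
    (hp : p.Prime) (hcF : Fintype.card F = p ^ e) (he : 0 < e)
    (hcard : Fintype.card ι = n) (h5 : 5 ≤ n) {P : Subgroup (GL ι F)} (hPP : ⁅P, P⁆ = P)
    (hPS : P ≤ specialLinear ι F) {K : Type*} [Field K] [Fintype K] {f : ℕ} (hcK : Fintype.card K = p ^ f)
    (hnd : n ≤ d) (hef : e ≤ f) (E : Nonempty (SQ P ≃* ProjectiveSpecialLinearGroup (Fin d) K)) :
    P = specialLinear ι F := by
  obtain ⟨E⟩ := E
  have hf : 0 < f := by omega
  have h1 : Nat.card (ProjectiveSpecialLinearGroup (Fin d) K) ∣ Nat.card (ProjectiveSpecialLinearGroup (Fin n) F) := by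
    rw [← Nat.card_congr E.toEquiv, ← card_sq_sl' hcard]
    exact card_sq_dvd hPS
  have h2 : p ^ (f * (d * (d - 1) / 2)) ∣ p ^ (e * (n * (n - 1) / 2)) := by
    rw [pow_mul p e, ← hcF, ← ppart_psl hp rfl (by rw [hcF]; exact dvd_pow_self p he.ne') (by omega)]
    refine dvd_trans ?_ h1
    rw [ppart_psl hp rfl (by rw [hcK]; exact dvd_pow_self p hf.ne') (by omega), hcK, ← pow_mul]
  have h3 : f * (d * (d - 1) / 2) ≤ e * (n * (n - 1) / 2) := (Nat.pow_dvd_pow_iff_le_right hp.one_lt).1 h2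
  obtain ⟨rfl, rfl⟩ := num_eq (show 1 ≤ e from he) hef (by omega) hnd h3
  refine eq_of_card hPS (H905.sl_perfect (by omega)) hPP (le_of_eq ?_)
  rw [card_sq_sl' hcard, Nat.card_congr E.toEquiv]
  exact card_psl_eq (hcF.trans hcK.symm) (by omega)

theorem psl_in_su {F : Type*} [Field F] [Fintype F] {p a n d q : ℕ} (hp : p.Prime) (ha : 0 < a) (hq : q = p ^ a)
    (hFq : Fintype.card F = q ^ 2) (h5 : 5 ≤ n) {P : Subgroup (GL (Fin n) F)}
    (hPS : P ≤ GU n F q ⊓ specialLinear (Fin n) F) {K : Type*} [Field K] [Fintype K] {f : ℕ}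
    (hcK : Fintype.card K = p ^ f) (hnd : n ≤ d) (hef : a < f)
    (E : Nonempty (SQ P ≃* ProjectiveSpecialLinearGroup (Fin d) K)) : False := by
  obtain ⟨E⟩ := E
  have hf : 0 < f := by omega
  have h1 : Nat.card (ProjectiveSpecialLinearGroup (Fin d) K) ∣ Nat.card (PSU n F q) := by
    rw [← Nat.card_congr E.toEquiv, ← card_sq_su hFq (by omega)]
    exact card_sq_dvd hPS
  have h2 : p ^ (f * (d * (d - 1) / 2)) ∣ p ^ (a * (n * (n - 1) / 2)) := by
    rw [pow_mul p a, ← hq, ← ppart_psu hp hFq (by rw [hq]; exact dvd_pow_self p ha.ne') (by omega)]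
    refine dvd_trans ?_ h1
    rw [ppart_psl hp rfl (by rw [hcK]; exact dvd_pow_self p hf.ne') (by omega), hcK, ← pow_mul]
  have h3 : f * (d * (d - 1) / 2) ≤ a * (n * (n - 1) / 2) := (Nat.pow_dvd_pow_iff_le_right hp.one_lt).1 h2
  have h4 := num_eq (show 1 ≤ a from ha) (show a ≤ f by omega) (by omega) hnd h3
  omega

theorem psu_in_su {F : Type*} [Field F] [Fintype F] {p a n d q q' : ℕ} (hp : p.Prime) (ha : 0 < a) (hq : q = p ^ a)
    (hFq : Fintype.card F = q ^ 2) (h5 : 5 ≤ n) {P : Subgroup (GL (Fin n) F)} (hPP : ⁅P, P⁆ = P)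
    (hPS : P ≤ GU n F q ⊓ specialLinear (Fin n) F) {K : Type*} [Field K] [Fintype K] {f : ℕ} (hq' : q' = p ^ f)
    (hKq : Fintype.card K = q' ^ 2) (hnd : n ≤ d) (hef : a ≤ f) (E : Nonempty (SQ P ≃* PSU d K q')) :
    P = GU n F q ⊓ specialLinear (Fin n) F := by
  obtain ⟨E⟩ := E
  have hf : 0 < f := by omega
  have h1 : Nat.card (PSU d K q') ∣ Nat.card (PSU n F q) := by
    rw [← Nat.card_congr E.toEquiv, ← card_sq_su hFq (by omega)]
    exact card_sq_dvd hPS
  have h2 : p ^ (f * (d * (d - 1) / 2)) ∣ p ^ (a * (n * (n - 1) / 2)) := by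
    rw [pow_mul p a, ← hq, ← ppart_psu hp hFq (by rw [hq]; exact dvd_pow_self p ha.ne') (by omega)]
    refine dvd_trans ?_ h1
    rw [ppart_psu hp hKq (by rw [hq']; exact dvd_pow_self p hf.ne') (by omega), hq', ← pow_mul]
  have h3 : f * (d * (d - 1) / 2) ≤ a * (n * (n - 1) / 2) := (Nat.pow_dvd_pow_iff_le_right hp.one_lt).1 h2
  obtain ⟨rfl, rfl⟩ := num_eq (show 1 ≤ a from ha) hef (by omega) hnd h3
  have hqq : q = q' := by rw [hq, hq']
  subst hqq
  refine eq_of_card hPS (su_perfect hFq (by omega)) hPP (le_of_eq ?_)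
  rw [card_sq_su hFq (by omega), Nat.card_congr E.toEquiv]
  exact card_psu_eq hFq hKq (by omega)

end ends

section mod4

theorem pow_mod_four {p f : ℕ} (h : p % 4 = 1) : p ^ f % 4 = 1 := by
  rw [Nat.pow_mod, h, one_pow]; rfl

/-- `p ≡ 3 (mod 4)`, `4 ∣ p ^ f - 1`: `f` is even. -/
theorem two_le_of_mod {p f : ℕ} (h : p % 4 = 3) (hf : 0 < f) (h4 : 4 ∣ p ^ f - 1) : 1 < f := by
  by_contra hle
  have h1 : f = 1 := by omega
  rw [h1, pow_one] at h4
  omega

end mod4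

section overg

variable {ι : Type} [Fintype ι] [DecidableEq ι] {F : Type u} [Field F] {R : Subgroup (GL ι F)} {k : ℕ}

/-- All data for an overgroup, `r = 2`, `|Z(R)| = 4`. -/
theorem outcome_two [Finite F] {p : ℕ} (hk : 4 ≤ k) {C : Coord R 2 k} {Y X P : Subgroup (GL ι F)}
    (hO : IsOver C Y X P) (hPS : P ≤ specialLinear ι F) (hpF : CharP F p) : TwoOut (2 ^ k) p (SQ P) := by
  have hι : Nonempty ι := by
    apply Fintype.card_pos_iff.1
    rw [hO.card_eq]
    have := hO.five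
    omega
  obtain ⟨X', h, hn, hY⟩ := exists_bridge_all hO.hR hO.habs hO.type hO.five hO.core
  exact two_cases hk hO.card_eq hpF finrank_vec h hn (hY.trans hO.le) hO.isCore.perfect hPS
    (known P hO.isCore.simple) hO.isCore.nonabelian

/-- The orthogonal groups to be excluded. -/
def DExc (n : ℕ) (T : Type*) [Group T] : Prop :=
    (∃ (K : Type) (_ : Field K) (_ : Fintype K) (l : ℕ), 5 ≤ l ∧ Odd l ∧ 4 ∣ Fintype.card K - 1 ∧ n ≤ 2 * l ∧
      Nonempty (T ≃* POmega K (quadFormPlus l K))) ∨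
    (∃ (K : Type) (_ : Field K) (_ : Fintype K) (l : ℕ) (a b : K), 5 ≤ l ∧ Odd l ∧ 4 ∣ Fintype.card K + 1 ∧
      n ≤ 2 * l ∧ (∀ z₁ z₂ : K, z₁ ^ 2 + a * z₁ * z₂ + b * z₂ ^ 2 = 0 → z₁ = 0 ∧ z₂ = 0) ∧
      Nonempty (T ≃* POmega K (quadFormMinus (l - 1) K a b)))

theorem D_linear_two_of [Fintype F] (hk : 4 ≤ k) (hR : IsLinearSymplecticTypeData 2 R) {C : Coord R 2 k}
    {Y X P : Subgroup (GL ι F)} (hX : X ≤ specialLinear ι F) (hO : IsOver C Y X P)
    (hexc : ¬ DExc (2 ^ k) (SQ P)) : specialLinear ι F ≤ P := by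
  obtain ⟨p, e, hrp, hmin, hcase⟩ := hR.field
  have h16 : 16 ≤ 2 ^ k := by
    have : 2 ^ 4 ≤ 2 ^ k := Nat.pow_le_pow_right (by norm_num) hk
    omega
  obtain ⟨he, hZ⟩ : e = 1 ∧ Nat.card (Subgroup.center R) = 4 := by
    rcases hcase with h | h | h
    · exact absurd h.1 (by decide)
    · exact ⟨h.2.1, h.2.2.1⟩
    · have := hO.card_eq
      omega
  rw [hZ] at hmin
  subst he
  obtain ⟨hp, hF, hcF, hdvd, -⟩ := hmin
  rw [pow_one] at hdvd
  have hp1 : p % 4 = 1 := by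
    have := hp.two_le
    omega
  have hPS : P ≤ specialLinear ι F := hO.isCore.le.trans hX
  rcases outcome_two hk hO hPS hF with h | h | h
  · obtain ⟨K, _, _, d, hK, hnd, hrK, E⟩ := h
    obtain ⟨f, hf, hcK, -⟩ := exists_card hK
    exact (psl_in_sl hp hcF one_pos hO.card_eq (by omega) hO.isCore.perfect hPS hcK hnd hf E).ge
  · exfalso
    obtain ⟨K, _, _, d, q, hKq, hK, hnd, hrK, E⟩ := h
    obtain ⟨f, hf, hq, -, hcK⟩ := exists_card_sq hK hKq
    have h1 := pow_mod_four (f := f) hp1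
    rw [hq] at hrK
    omega
  · exact absurd h hexc

end overg

section overg

variable {F : Type u} [Field F] [Fintype F] {n q k : ℕ} {R : Subgroup (GL (Fin n) F)}

theorem D_unitary_two_of (hk : 4 ≤ k) (hF : Fintype.card F = q ^ 2) {p : ℕ}
    (hmin : IsMinimalFieldFor 4 p 2 F) {C : Coord R 2 k}
    {Y X P : Subgroup (GL (Fin n) F)} (hX : X ≤ GU n F q ⊓ specialLinear (Fin n) F) (hO : IsOver C Y X P)
    (hexc : ¬ DExc (2 ^ k) (SQ P)) : GU n F q ⊓ specialLinear (Fin n) F ≤ P := by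
  have h16 : 16 ≤ 2 ^ k := by
    have : 2 ^ 4 ≤ 2 ^ k := Nat.pow_le_pow_right (by norm_num) hk
    omega
  have hn : n = 2 ^ k := by have := hO.card_eq; rwa [Fintype.card_fin] at this
  obtain ⟨hp, hF', hcF, hdvd, hm⟩ := hmin
  have hq : q = p ^ 1 := by
    rw [pow_one]
    have h1 : q ^ 2 = p ^ 2 := hF.symm.trans hcF
    exact Nat.pow_left_injective (by norm_num) h1
  have hp3 : p % 4 = 3 := by
    have h1 := hm 1 (by norm_num) (by norm_num)
    rw [pow_one] at h1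
    have h2 := hp.two_le
    have h3 : 1 ≤ p ^ 2 := Nat.one_le_pow _ _ hp.pos
    have h4 : p ^ 2 % 4 = 1 := by omega
    rw [Nat.pow_mod] at h4
    have h5 : p % 4 = 0 ∨ p % 4 = 1 ∨ p % 4 = 2 ∨ p % 4 = 3 := by omega
    rcases h5 with h5 | h5 | h5 | h5
    · rw [h5] at h4; norm_num at h4
    · omega
    · rw [h5] at h4; norm_num at h4
    · exact h5
  have hPS : P ≤ GU n F q ⊓ specialLinear (Fin n) F := hO.isCore.le.trans hX
  rcases outcome_two hk hO (hPS.trans inf_le_right) hF' with h | h | h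
  · exfalso
    obtain ⟨K, _, _, d, hK, hnd, hrK, E⟩ := h
    obtain ⟨f, hf, hcK, -⟩ := exists_card hK
    rw [hcK] at hrK
    exact psl_in_su hp one_pos hq hF (by omega) hPS hcK (by omega) (two_le_of_mod hp3 hf hrK) E
  · obtain ⟨K, _, _, d, q', hKq, hK, hnd, hrK, E⟩ := h
    obtain ⟨f, hf, hq', -, hcK⟩ := exists_card_sq hK hKq
    exact (psu_in_su hp one_pos hq hF (by omega) hO.isCore.perfect hPS hq' hKq (by omega) hf E).ge
  · exact absurd h hexc

end overg

end Cfsg.Agent.H878
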