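import Cfsg.Agent.H878.ExcKill
import Cfsg.Agent.H878.TwoMain
import Cfsg.Agent.H878.CSix

/-!
# Class 6 in dimension `≥ 13` (helper878, on helper920's framework)
-/

set_option autoImplicit false

namespace Cfsg.Agent.H878

open Cfsg Cfsg.Geo Matrix Cfsg.Agent.H920
open scoped MatrixGroups

universe u

/-- The degree bounds for the orthogonal groups with a multiplier of order 4. -/
def DegBound (ι : Type) [Fintype ι] [DecidableEq ι] (F : Type u) [Field F] : Prop :=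
  (∀ (P : Subgroup (GL ι F)) (K : Type) (_ : Field K) (_ : Fintype K) (l : ℕ), 5 ≤ l → Odd l →
    4 ∣ Fintype.card K - 1 → Nonempty (SQ P ≃* POmega K (quadFormPlus l K)) → 2 * l ≤ Fintype.card ι) ∧
  (∀ (P : Subgroup (GL ι F)) (K : Type) (_ : Field K) (_ : Fintype K) (l : ℕ) (a b : K), 5 ≤ l → Odd l →
    4 ∣ Fintype.card K + 1 → (∀ z₁ z₂ : K, z₁ ^ 2 + a * z₁ * z₂ + b * z₂ ^ 2 = 0 → z₁ = 0 ∧ z₂ = 0) →
    Nonempty (SQ P ≃* POmega K (quadFormMinus (l - 1) K a b)) → 2 * l ≤ Fintype.card ι)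

theorem not_dExc {ι : Type} [Fintype ι] [DecidableEq ι] {F : Type u} [Field F] {k : ℕ} (hk : 4 ≤ k)
    (hcard : Fintype.card ι = 2 ^ k) (hdeg : DegBound ι F) (P : Subgroup (GL ι F)) : ¬ DExc (2 ^ k) (SQ P) := by
  have hk2 : 2 ^ k = 2 * (2 * 2 ^ (k - 2)) := by
    obtain ⟨j, rfl⟩ : ∃ j, k = j + 2 := ⟨k - 2, by omega⟩
    rw [Nat.add_sub_cancel]; ring
  rintro (⟨K, _, _, l, hl5, hl, h4, hle, E⟩ | ⟨K, _, _, l, a, b, hl5, hl, h4, hle, hab, E⟩)
  · have h1 := hdeg.1 P K _ _ l hl5 hl h4 E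
    obtain ⟨j, hj⟩ := hl
    rw [hcard] at h1
    omega
  · have h1 := hdeg.2 P K _ _ l a b hl5 hl h4 hab E
    obtain ⟨j, hj⟩ := hl
    rw [hcard] at h1
    omega

theorem four_le_of_card {k : ℕ} (h : 13 ≤ 2 ^ k) : 4 ≤ k := by
  by_contra hlt
  have h1 : 2 ^ k ≤ 2 ^ 3 := Nat.pow_le_pow_right (by norm_num) (by omega)
  omega

/-- **Class 6 in `SL`, `n ≥ 13`.** -/
theorem c6_SL_large {ι : Type} [Fintype ι] [DecidableEq ι] {F : Type u} [Field F] [Fintype F] {r : ℕ}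
    {R : Subgroup (GL ι F)} (hdeg : r = 2 → DegBound ι F) (hR : IsLinearSymplecticTypeData r R)
    (h13 : 13 ≤ Fintype.card ι) :
    IsMaximalIn (specialLinear ι F) (subgroupNormalizer R ⊓ specialLinear ι F) := by
  refine maximal_SL hR (by omega) (schAll ι F) ?_
  intro k C Y X P hX hO _
  rcases hR.symplecticType.prime.eq_two_or_odd' with h2 | hodd
  · subst h2
    have hk : 4 ≤ k := four_le_of_card (by rw [← hO.card_eq]; exact h13)
    exact D_linear_two_of hk hR hX hO (not_dExc hk hO.card_eq (hdeg rfl) P)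
  · exact D_linear_odd hodd h13 hR k C Y X P hX hO

/-- **Class 6 in `SU`, `n ≥ 13`.** -/
theorem c6_SU_large {F : Type u} [Field F] [Fintype F] {n q r k : ℕ} {R : Subgroup (GL (Fin n) F)}
    (hdeg : r = 2 → DegBound (Fin n) F) (hF : Fintype.card F = q ^ 2) (h13 : 13 ≤ n)
    (hR : IsSymplecticTypeGroup r R)
    (hirr : ActsAbsolutelyIrreducibly (matrixSet R)) (hRD : R ≤ GU n F q) {p e : ℕ}
    (hmin : IsMinimalFieldFor (Nat.card (Subgroup.center R)) p e F)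
    (htype : (Odd r ∧ Nat.card (Subgroup.center R) = r ∧ 1 ≤ k ∧ Nat.card R = r ^ (1 + 2 * k)) ∨
      (r = 2 ∧ e = 2 ∧ Nat.card (Subgroup.center R) = 4 ∧ Nat.card R = 2 ^ (2 + 2 * k))) :
    IsMaximalIn (GU n F q ⊓ specialLinear (Fin n) F)
      (subgroupNormalizer R ⊓ (GU n F q ⊓ specialLinear (Fin n) F)) := by
  rcases htype with ⟨hodd, hZ, hk1, hc⟩ | ⟨h2, he, hZ, hc⟩
  · exact maximal_SU hF (by omega) hR hirr hRD hmin (Or.inl ⟨hodd, hZ, hc⟩) (schAll (Fin n) F)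
      (D_unitary_odd hodd h13 hF hmin)
  · subst h2
    subst he
    refine maximal_SU hF (by omega) hR hirr hRD hmin (Or.inr ⟨rfl, hZ, hc⟩) (schAll (Fin n) F) ?_
    intro C Y X P hX hO
    have hcard := hO.card_eq
    have hk : 4 ≤ k := four_le_of_card (by rw [← hcard, Fintype.card_fin]; exact h13)
    rw [hZ] at hmin
    exact D_unitary_two_of hk hF hmin hX hO (not_dExc hk hcard (hdeg rfl) P)

end Cfsg.Agent.H878
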