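import Cfsg.Agent.H878.RData
import Cfsg.Agent.H919.AschSplit

/-!
# The overgroups of `NT1` (helper878)

`core_cases`: an overgroup of `NT1` normalises the Heisenberg group modulo scalars, or has a quasisimple core.
-/

set_option autoImplicit false
set_option linter.unusedSimpArgs false
set_option linter.unusedSectionVars false

namespace Cfsg.Agent.H878

open Cfsg Cfsg.Geo Matrix
open scoped MatrixGroups

variable {ι : Type} [Fintype ι] [DecidableEq ι] {F : Type*} [Field F]
  {r : ℕ} [hr : Fact r.Prime] {V : Type*} [AddCommGroup V] [Module (ZMod r) V] [Finite V]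
  {ψ : AddChar (ZMod r) F} {b : V →ₗ[ZMod r] V →ₗ[ZMod r] ZMod r} {X : V → GL ι F}

/-- `K` normalises the Heisenberg group modulo scalars. -/
def NormsX (K : Subgroup (GL ι F)) (X : V → GL ι F) : Prop :=
  ∀ g ∈ K, ∀ w : V, ∃ u, ∃ c : F, c ≠ 0 ∧
    (g : Matrix ι ι F) * (X w : Matrix ι ι F) * ((g⁻¹ : GL ι F) : Matrix ι ι F) = c • (X u : Matrix ι ι F)

theorem r_dvd_card [Nontrivial V] (h : Frame ψ b X) : r ∣ Fintype.card ι := by
  obtain ⟨v, hv⟩ := exists_ne (0 : V)
  obtain ⟨w, hw⟩ : ∃ w, b v w ≠ 0 := by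
    by_contra hcon
    push Not at hcon
    exact hv (h.nondeg v hcon)
  have h1 := congrArg Matrix.det (h.comm v w)
  rw [Matrix.det_smul, Matrix.det_mul, Matrix.det_mul, mul_comm (Matrix.det (X w : Matrix ι ι F))] at h1
  have h2 : (X v : Matrix ι ι F).det * (X w : Matrix ι ι F).det ≠ 0 :=
    mul_ne_zero ((Matrix.isUnit_iff_isUnit_det _).1 (X v).isUnit).ne_zero
      ((Matrix.isUnit_iff_isUnit_det _).1 (X w).isUnit).ne_zero
  have h3 : ψ (b v w) ^ Fintype.card ι = 1 := by
    have h4 : (ψ (b v w) ^ Fintype.card ι - 1) * ((X v : Matrix ι ι F).det * (X w : Matrix ι ι F).det) = 0 := by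
      rw [sub_mul, one_mul, ← h1, sub_self]
    rcases mul_eq_zero.1 h4 with h5 | h5
    · exact sub_eq_zero.1 h5
    · exact absurd h5 h2
  rw [← AddChar.map_nsmul_eq_pow] at h3
  have h4 := h.inj _ h3
  rw [nsmul_eq_mul, mul_eq_zero] at h4
  rcases h4 with h4 | h4
  · exact (ZMod.natCast_eq_zero_iff _ _).1 h4
  · exact absurd h4 hw

theorem scal_conj {z : GL ι F} (hz : z ∈ scalars ι F) (x y : GL ι F) :
    (z * x) * y * (z * x)⁻¹ = x * y * x⁻¹ := by
  rw [_root_.mul_inv_rev, mul_assoc z x y, H920.scalars_comm hz (x * y), ← mul_assoc, mul_assoc (x * y * z),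
    ← H920.scalars_comm (inv_mem hz) x⁻¹, ← mul_assoc, mul_assoc (x * y), mul_inv_cancel, mul_one]

/-- The projective group. -/
abbrev PG (ι : Type) [Fintype ι] [DecidableEq ι] (F : Type*) [Field F] := GL ι F ⧸ scalars ι F

/-- The homomorphism from the symplectic space to the projective group. -/
noncomputable def projX [Nonempty ι] (h : Frame ψ b X) : Multiplicative V →* PG ι F where
  toFun v := (X v.toAdd : PG ι F)
  map_one' := by
    rw [toAdd_one]
    obtain ⟨c, hc0, hc⟩ := h.X_zero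
    exact (QuotientGroup.eq_one_iff _).2 (H920.mem_scalars_of_val hc)
  map_mul' v w := by
    rw [← QuotientGroup.mk_mul, toAdd_mul, QuotientGroup.eq]
    obtain ⟨c, hc0, hc⟩ := h.mul_ne v.toAdd w.toAdd
    apply H920.mem_scalars_of_val (c := c)
    rw [Units.val_mul, Units.val_mul, hc, Matrix.mul_smul, ← Units.val_mul, inv_mul_cancel, Units.val_one]

theorem projX_apply [Nonempty ι] (h : Frame ψ b X) (v : Multiplicative V) :
    projX h v = (X v.toAdd : PG ι F) := rfl

theorem raw_six [Finite F] [Nonempty ι] [Nontrivial V] (h : Frame ψ b X) (hn : Normed r X)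
    (hperf : commutator (TG b h.alt) = ⊤) {K N : Subgroup (GL ι F)} (hK : NT1 h ≤ K)
    (hNn : ∀ g ∈ K, ∀ x ∈ N, g * x * g⁻¹ ∈ N) (hNs : ¬ N ≤ scalars ι F)
    (hcomm : ∀ x ∈ N, ∀ y ∈ N, x * y * x⁻¹ * y⁻¹ ∈ scalars ι F) : NormsX K X := by
  classical
  have habs : ActsAbsolutelyIrreducibly (matrixSet N) :=
    (span_of_normal h hn hperf hK hNn).resolve_left hNs
  set π : GL ι F →* PG ι F := QuotientGroup.mk' (scalars ι F) with hπ
  have hcard : Nat.card (N.map π) = Fintype.card ι ^ 2 := by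
    rw [← H920.card_quotient_scalars habs hcomm, ← Subgroup.relIndex_ker, hπ, QuotientGroup.ker_mk']
    rfl
  -- `X v` in terms of `K`
  have hXK : ∀ v : V, ∃ g ∈ K, ∃ c : F, c ≠ 0 ∧ (g : Matrix ι ι F) = c • (X v : Matrix ι ι F) := by
    intro v
    obtain ⟨g, hg, c, hc0, hc⟩ := X_mem_NT1 h hn v
    exact ⟨g, hK hg, c, hc0, hc⟩
  have hXN : ∀ v : V, ∀ x ∈ N, X v * x * (X v)⁻¹ ∈ N := by
    intro v x hx
    obtain ⟨g, hg, c, hc0, hc⟩ := hXK v
    have h1 : g * (X v)⁻¹ ∈ scalars ι F := by
      apply H920.mem_scalars_of_val (c := c)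
      rw [Units.val_mul, hc, Matrix.smul_mul, ← Units.val_mul, mul_inv_cancel, Units.val_one]
    set s := g * (X v)⁻¹ with hs
    have h2 : g = s * X v := by rw [hs]; group
    rw [← scal_conj h1 (X v) x, ← h2]
    exact hNn g hg x hx
  -- the action
  let act : MulAction (Multiplicative V) (N.map π) :=
    { smul := fun v x => ⟨projX h v * x * (projX h v)⁻¹, by
        obtain ⟨x, y, hy, rfl⟩ := x
        refine ⟨X v.toAdd * y * (X v.toAdd)⁻¹, hXN _ y hy, ?_⟩
        rw [map_mul, map_mul, map_inv]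
        rfl⟩
      one_smul := fun x => Subtype.ext (by
        change projX h 1 * (x : PG ι F) * (projX h 1)⁻¹ = x
        rw [map_one, one_mul, inv_one, mul_one])
      mul_smul := fun v w x => Subtype.ext (by
        change projX h (v * w) * (x : PG ι F) * (projX h (v * w))⁻¹ =
          projX h v * (projX h w * (x : PG ι F) * (projX h w)⁻¹) * (projX h v)⁻¹
        rw [map_mul]
        group) }
  have hpg : IsPGroup r (Multiplicative V) := by
    apply IsPGroup.of_card (n := Module.finrank (ZMod r) V)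
    change Nat.card V = _
    rw [Module.natCard_eq_pow_finrank (K := ZMod r), Nat.card_zmod]
  have hfin : Finite (N.map π) := by
    apply Nat.finite_of_card_ne_zero
    rw [hcard]
    exact pow_ne_zero _ Fintype.card_ne_zero
  have hdvd : r ∣ Nat.card (N.map π) := by
    rw [hcard]
    exact dvd_pow (r_dvd_card h) two_ne_zero
  have hone : (1 : N.map π) ∈ MulAction.fixedPoints (Multiplicative V) (N.map π) := by
    intro v
    apply Subtype.ext
    change projX h v * (1 : PG ι F) * (projX h v)⁻¹ = 1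
    rw [mul_one, mul_inv_cancel]
  obtain ⟨⟨_, x, hx, rfl⟩, hfix, hne⟩ :=
    hpg.exists_fixed_point_of_prime_dvd_card_of_fixed_point (N.map π) hdvd hone
  -- `x` is a multiple of some `X u`
  have hxs : x ∉ scalars ι F := by
    intro hxs
    apply hne
    apply Subtype.ext
    exact ((QuotientGroup.eq_one_iff _).2 hxs).symm
  have hcomX : ∀ y : GL ι F, (∀ v : V, X v * y * (X v)⁻¹ * y⁻¹ ∈ scalars ι F) →
      ∃ (u : V) (c : F), c ≠ 0 ∧ (y : Matrix ι ι F) = c • (X u : Matrix ι ι F) := by
    intro y hy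
    obtain ⟨u, c, hc⟩ := h.eq_smul_X_of_comm (g := y) (by
      intro v
      obtain ⟨c, hc⟩ := (mem_scalars_iff _).1 (hy v)
      refine ⟨c, ?_⟩
      have h1 : X v * y * (X v)⁻¹ = (X v * y * (X v)⁻¹ * y⁻¹) * y := by group
      have h2 := congrArg Units.val h1
      rw [Units.val_mul (X v * y * (X v)⁻¹ * y⁻¹) y, hc, Matrix.smul_mul, one_mul] at h2
      exact h2)
    refine ⟨u, c, ?_, hc⟩
    rintro rfl
    rw [zero_smul] at hc
    exact y.ne_zero hc
  obtain ⟨u, c, hc0, hc⟩ := hcomX x (by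
    intro v
    have h1 := congrArg Subtype.val (hfix (Multiplicative.ofAdd v))
    change projX h (Multiplicative.ofAdd v) * (π x) * (projX h (Multiplicative.ofAdd v))⁻¹ = π x at h1
    have h2 : π (X v * x * (X v)⁻¹ * x⁻¹) = 1 := by
      rw [map_mul, map_mul, map_mul, map_inv, map_inv]
      change projX h (Multiplicative.ofAdd v) * (π x) * (projX h (Multiplicative.ofAdd v))⁻¹ * _ = 1
      rw [h1, mul_inv_cancel]
    exact (QuotientGroup.eq_one_iff _).1 h2)
  have hu0 : u ≠ 0 := by
    rintro rfl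
    obtain ⟨d, hd0, hd⟩ := h.X_zero
    apply hxs
    apply H920.mem_scalars_of_val (c := c * d)
    rw [hc, hd, smul_smul]
  -- all `X v` lie in `N` up to scalars
  have hall : ∀ v : V, ∃ y ∈ N, ∃ c : F, c ≠ 0 ∧ (y : Matrix ι ι F) = c • (X v : Matrix ι ι F) := by
    intro v
    by_cases hv : v = 0
    · subst hv
      obtain ⟨d, hd0, hd⟩ := h.X_zero
      refine ⟨1, one_mem _, d⁻¹, inv_ne_zero hd0, ?_⟩
      rw [hd, smul_smul, inv_mul_cancel₀ hd0, one_smul, Units.val_one]
    · obtain ⟨g, hg, γ, hγ, hγu⟩ := exists_NT1_map h hn hperf hu0 hv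
      obtain ⟨d, hd0, hd⟩ := acts_iff.1 hγ u
      refine ⟨g * x * g⁻¹, hNn g (hK hg) x hx, c * d, mul_ne_zero hc0 hd0, ?_⟩
      rw [Units.val_mul, Units.val_mul, hc, Matrix.mul_smul, Matrix.smul_mul, hd, smul_smul, hγu]
  intro g hg w
  obtain ⟨y, hy, d, hd0, hd⟩ := hall w
  obtain ⟨u', c', hc'0, hc'⟩ := hcomX (g * y * g⁻¹) (by
    intro v
    obtain ⟨y', hy', e, he0, he⟩ := hall v
    have h1 := hcomm y' hy' (g * y * g⁻¹) (hNn g hg y hy)
    have h2 : y' * (X v)⁻¹ ∈ scalars ι F := by
      apply H920.mem_scalars_of_val (c := e)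
      rw [Units.val_mul, he, Matrix.smul_mul, ← Units.val_mul, mul_inv_cancel, Units.val_one]
    set s := y' * (X v)⁻¹ with hs
    have h3 : X v = s⁻¹ * y' := by rw [hs]; group
    have h4 := inv_mem h2
    rw [h3, scal_conj h4]
    exact h1)
  refine ⟨u', d⁻¹ * c', mul_ne_zero (inv_ne_zero hd0) hc'0, ?_⟩
  have h1 : (X w : Matrix ι ι F) = d⁻¹ • (y : Matrix ι ι F) := by
    rw [hd, smul_smul, inv_mul_cancel₀ hd0, one_smul]
  rw [h1, Matrix.mul_smul, Matrix.smul_mul, ← Units.val_mul, ← Units.val_mul, hc', smul_smul]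

theorem wreath_false [Nonempty ι] (h : Frame ψ b X) (hn : Normed r X)
    (hperf : commutator (TG b h.alt) = ⊤) {K : Subgroup (GL ι F)} (hK : NT1 h ≤ K)
    {m t : ℕ} {e : ι ≃ (Fin t → Fin m)} {P : GL ι F} {E : Fin t → Subgroup (GL ι F)}
    (hW : H919.WreathData K m t e P E) : False := by
  classical
  -- the sum of the enveloping algebras
  set T : Submodule F (Matrix ι ι F) := ⨆ i, Subalgebra.toSubmodule (Algebra.adjoin F (matrixSet (E i))) with hT
  have hle : ∀ i, Subalgebra.toSubmodule (Algebra.adjoin F (matrixSet (E i))) ≤ T := fun i =>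
    le_iSup (fun i => Subalgebra.toSubmodule (Algebra.adjoin F (matrixSet (E i)))) i
  have h2t := hW.two_le_t
  have h2m := hW.two_le_m
  let i₀ : Fin t := ⟨0, by omega⟩
  -- invariance
  have hinv : ∀ g ∈ K, ∀ M ∈ T, (g : Matrix ι ι F) * M * ((g⁻¹ : GL ι F) : Matrix ι ι F) ∈ T := by
    intro g hg
    obtain ⟨σ, hσ⟩ := hW.permuted g hg
    let L : Matrix ι ι F →ₗ[F] Matrix ι ι F :=
      { toFun := fun M => (g : Matrix ι ι F) * M * ((g⁻¹ : GL ι F) : Matrix ι ι F)
        map_add' := fun a c => by rw [mul_add, add_mul]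
        map_smul' := fun c a => by rw [Matrix.mul_smul, Matrix.smul_mul, RingHom.id_apply] }
    suffices hTL : T ≤ T.comap L from fun M hM => hTL hM
    rw [hT, iSup_le_iff]
    intro i M hM
    rw [Submodule.mem_comap, ← hT]
    apply hle (σ i)
    rw [Subalgebra.mem_toSubmodule] at hM ⊢
    change (g : Matrix ι ι F) * M * ((g⁻¹ : GL ι F) : Matrix ι ι F) ∈ _
    induction hM using Algebra.adjoin_induction with
    | mem y hy =>
      obtain ⟨y, hy, rfl⟩ := hy
      apply Algebra.subset_adjoin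
      refine ⟨g * y * g⁻¹, ?_, by simp only [Units.val_mul]⟩
      rw [← hσ i]
      exact ⟨y, hy, rfl⟩
    | algebraMap c =>
      rw [Algebra.algebraMap_eq_smul_one, Matrix.mul_smul, Matrix.smul_mul, mul_one, ← Units.val_mul,
        mul_inv_cancel, Units.val_one]
      exact Subalgebra.smul_mem _ (one_mem _) c
    | add a c _ _ ha hc =>
      rw [mul_add, add_mul]
      exact Subalgebra.add_mem _ ha hc
    | mul a c _ _ ha hc =>
      have : (g : Matrix ι ι F) * (a * c) * ((g⁻¹ : GL ι F) : Matrix ι ι F) =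
          ((g : Matrix ι ι F) * a * ((g⁻¹ : GL ι F) : Matrix ι ι F)) *
          ((g : Matrix ι ι F) * c * ((g⁻¹ : GL ι F) : Matrix ι ι F)) := by
        calc _ = (g : Matrix ι ι F) * a * (((g⁻¹ : GL ι F) : Matrix ι ι F) * (g : Matrix ι ι F)) * c *
              ((g⁻¹ : GL ι F) : Matrix ι ι F) := by
              rw [← Units.val_mul g⁻¹, inv_mul_cancel, Units.val_one, mul_one]; simp only [mul_assoc]
          _ = _ := by simp only [mul_assoc]
      rw [this]
      exact Subalgebra.mul_mem _ ha hc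
  -- everything lies in `T`
  have hone : (1 : Matrix ι ι F) ∈ T := hle i₀ ((Subalgebra.mem_toSubmodule _).2 (one_mem _))
  obtain ⟨x, hx, hxs⟩ : ∃ x ∈ E i₀, x ∉ scalars ι F := by
    have := hW.not_scalar i₀
    rw [SetLike.not_le_iff_exists] at this
    exact this
  have hxT : (x : Matrix ι ι F) ∈ T :=
    hle i₀ ((Subalgebra.mem_toSubmodule _).2 (Algebra.subset_adjoin ⟨x, hx, rfl⟩))
  have htop : T = ⊤ := by
    rw [eq_top_iff]
    intro M _
    have h1 := h.mem_span M
    have h2 : Submodule.span F (Set.range fun v => (X v : Matrix ι ι F)) ≤ T := by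
      rw [Submodule.span_le]
      rintro _ ⟨v, rfl⟩
      change (X v : Matrix ι ι F) ∈ T
      by_cases hv : v = 0
      · subst hv
        obtain ⟨c, hc0, hc⟩ := h.X_zero
        rw [hc]
        exact T.smul_mem c hone
      · exact X_mem_of_invariant h hn hperf (fun g hg M hM => hinv g (hK hg) M hM) hxT
          (fun c hc => hxs (H920.mem_scalars_of_val hc)) hv
    exact h2 h1
  -- dimensions
  have hfr : ∀ i, Module.finrank F (Subalgebra.toSubmodule (Algebra.adjoin F (matrixSet (E i)))) ≤ m ^ 2 := by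
    intro i
    let L : Matrix (Fin m) (Fin m) F →ₗ[F] Matrix ι ι F :=
      { toFun := fun x => H919.frameMat e P (H919.slotMat i x)
        map_add' := fun a c => by
          rw [H919.slotMat_add]
          simp only [H919.frameMat, map_add, mul_add, add_mul]
        map_smul' := fun c a => by
          rw [H919.slotMat_smul]
          simp only [H919.frameMat, map_smul, Matrix.mul_smul, Matrix.smul_mul, RingHom.id_apply] }
    have h1 : Subalgebra.toSubmodule (Algebra.adjoin F (matrixSet (E i))) ≤ LinearMap.range L := by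
      intro Y hY
      obtain ⟨x, hx⟩ := (hW.env_iff i Y).1 hY
      exact ⟨x, hx.symm⟩
    refine (Submodule.finrank_mono h1).trans ((LinearMap.finrank_range_le L).trans ?_)
    rw [Module.finrank_matrix, Module.finrank_self, mul_one, Fintype.card_fin, sq]
  have hfT : Module.finrank F T ≤ t * m ^ 2 := by
    have h1 : Module.finrank F T ≤ ∑ i : Fin t, m ^ 2 := by
      have h3 : ∀ s : Finset (Fin t), Module.finrank F
          (⨆ i ∈ s, Subalgebra.toSubmodule (Algebra.adjoin F (matrixSet (E i))) : Submodule F (Matrix ι ι F)) ≤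
          ∑ i ∈ s, m ^ 2 := by
        intro s
        induction s using Finset.induction_on with
        | empty => simp
        | insert a s ha ih =>
          rw [Finset.iSup_insert, Finset.sum_insert ha]
          exact (Submodule.finrank_add_le_finrank_add_finrank _ _).trans (Nat.add_le_add (hfr a) ih)
      have h4 := h3 Finset.univ
      have h5 : (⨆ i ∈ (Finset.univ : Finset (Fin t)),
          Subalgebra.toSubmodule (Algebra.adjoin F (matrixSet (E i))) : Submodule F (Matrix ι ι F)) = T := by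
        rw [hT]
        exact iSup_congr fun i => iSup_pos (Finset.mem_univ i)
      rw [h5] at h4
      exact h4
    rwa [Finset.sum_const, Finset.card_univ, Fintype.card_fin, smul_eq_mul] at h1
  rw [htop, finrank_top, Module.finrank_matrix, Module.finrank_self, mul_one, Fintype.card_congr e,
    Fintype.card_fun, Fintype.card_fin, Fintype.card_fin] at hfT
  -- `m ^ (2 t) ≤ t m ^ 2` is impossible
  obtain ⟨s, rfl⟩ : ∃ s, t = s + 2 := ⟨t - 2, by omega⟩
  have h5 : m ^ (s + 2) * m ^ (s + 2) = m ^ (2 * s + 2) * m ^ 2 := by rw [← pow_add, ← pow_add]; congr 1; ring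
  rw [h5] at hfT
  have h6 : m ^ (2 * s + 2) ≤ s + 2 := Nat.le_of_mul_le_mul_right hfT (pow_pos (by omega) 2)
  have h7 : 2 ^ (2 * s + 2) ≤ m ^ (2 * s + 2) := Nat.pow_le_pow_left h2m _
  have h8 : 2 * s + 2 < 2 ^ (2 * s + 2) := Nat.lt_two_pow_self
  omega

/-- **The overgroups of `NT1`.** -/
theorem core_cases [Finite F] [Nonempty ι] [Nontrivial V] (h : Frame ψ b X) (hn : Normed r X)
    (hperf : commutator (TG b h.alt) = ⊤) {K : Subgroup (GL ι F)} (hK : NT1 h ≤ K) :
    NormsX K X ∨ ∃ P : Subgroup (GL ι F), H919.CoreNS K P := by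
  classical
  let _ : Fintype F := Fintype.ofFinite F
  have hirr : ActsAbsolutelyIrreducibly (matrixSet K) := by
    apply absIrr_of_X h
    intro v
    obtain ⟨g, hg, c, hc0, hc⟩ := X_mem_NT1 h hn v
    exact ⟨g, ⟨g, hK hg, rfl⟩, c, hc0, hc⟩
  have hcard : 2 ≤ Fintype.card ι := by
    have h1 : r ∣ Fintype.card ι := r_dvd_card h
    exact hr.out.two_le.trans (Nat.le_of_dvd Fintype.card_pos h1)
  rcases H919.C_split K hirr.1 hcard (fun N _ hNn => span_of_normal h hn hperf hK hNn) with
    ⟨N, hNK, hNn, hNs, hcomm⟩ | ⟨m, t, e, P, E, hW⟩ | ⟨P, hP⟩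
  · left
    exact raw_six h hn hperf hK hNn hNs hcomm
  · exact (wreath_false h hn hperf hK hW).elim
  · right
    exact ⟨P, hP⟩

end Cfsg.Agent.H878
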