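import Cfsg.Agent.H878.OddD
import Cfsg.Agent.H920.FiTwoMain

/-!
# The exceptional candidates are excluded in dimension `≥ 13` (helper878)
-/

set_option autoImplicit false

namespace Cfsg.Agent.H878

open Cfsg Cfsg.Geo Matrix Cfsg.Agent.H920
open scoped MatrixGroups

universe u

/-- In dimension `≥ 13` only `Fi₂₄'` remains, in dimension `27`. -/
theorem exc_of_large {ι : Type} [Fintype ι] [DecidableEq ι] {F : Type u} [Field F] {R : Subgroup (GL ι F)} {r k : ℕ}
    [Finite F] {p : ℕ} (hodd : Odd r) {C : Coord R r k} {Y X P : Subgroup (GL ι F)}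
    (hO : IsOver C Y X P) (hPS : P ≤ specialLinear ι F) (hpF : CharP F p) (h13 : 13 ≤ Fintype.card ι)
    (h3 : r = 3) (he : Exc (SQ P)) :
    Fintype.card ι = 27 ∧ Spor.IsoFi24' (SQ P) ∧ Nat.card (SQ P) = 1255205709190661721292800 := by
  obtain ⟨-, hk⟩ := outcome hodd hO hPS hpF (known P hO.isCore.simple)
  obtain ⟨hk2, h1, h2⟩ := hk h3
  have hc := hO.card_eq
  rw [h3] at hc
  rcases he with ⟨K, _, _, hK, ⟨e⟩⟩ | he | he
  · exfalso
    have h4 : Nat.card (SQ P) = 4585351680 := by rw [Nat.card_congr e.toEquiv, card_o73 hK]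
    have h5 := h1 (Or.inl h4)
    rw [h5] at hc
    omega
  · exfalso
    have h5 := h1 (Or.inr (NotCT.Orders.fi22 he))
    rw [h5] at hc
    omega
  · have h4 := NotCT.Orders.fi24 he
    refine ⟨?_, he, h4⟩
    rcases h2 h4 with h5 | h5
    · rw [h5] at hc
      omega
    · rw [h5] at hc
      omega

/-- `Fi₂₄'` has no projective representation of degree `27` in characteristic `≠ 2`, with kernel a `3`-group. -/
theorem fi24_large {ι : Type} [Fintype ι] [DecidableEq ι] {F : Type u} [Field F] [Finite F] {n : ℕ}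
    (hcard : Fintype.card ι = n) {P : Subgroup (GL ι F)} (hker : IsPGroup 3 ((scalars ι F).subgroupOf P))
    (hna : ¬ IsMulCommutative (SQ P)) (h2 : (2 : F) ≠ 0) (h : Spor.IsoFi24' (SQ P)) : 28 ≤ n := by
  have : Fact (Nat.Prime 3) := ⟨Nat.prime_three⟩
  obtain ⟨e⟩ := h
  have hnc : ∃ g h : Spor.Fi24', g * h ≠ h * g := by
    by_contra hcon
    push Not at hcon
    apply hna
    refine ⟨⟨fun a b => e.injective ?_⟩⟩
    rw [map_mul, map_mul, hcon]
  have h1 := (FiTwo.fi24_two hnc).bd (F := F) Nat.prime_two (by exact_mod_cast h2)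
  exact (H912.Bd.Bd.congr h1 e) n (pr_of hcard hker Nat.prime_two (by decide))

theorem char_two {F : Type u} [Field F] {p : ℕ} (hF : CharP F p) (hp : p.Prime) (h2 : (2 : F) = 0) : p = 2 := by
  have := hF
  have h3 : ((2 : ℕ) : F) = 0 := by exact_mod_cast h2
  exact (Nat.prime_dvd_prime_iff_eq hp Nat.prime_two).1 ((CharP.cast_eq_zero_iff F p 2).1 h3)

/-- **(D), `r` odd, linear, `n ≥ 13`.** -/
theorem D_linear_odd {ι : Type} [Fintype ι] [DecidableEq ι] {F : Type u} [Field F] [Fintype F]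
    {R : Subgroup (GL ι F)} {r : ℕ} (hodd : Odd r) (h13 : 13 ≤ Fintype.card ι) (hR : IsLinearSymplecticTypeData r R)
    (k : ℕ) (C : Coord R r k) (Y X P : Subgroup (GL ι F)) (hX : X ≤ specialLinear ι F) (hO : IsOver C Y X P) :
    specialLinear ι F ≤ P := by
  refine D_linear_of hodd hR hX hO ?_
  intro h3 hexc
  obtain ⟨p, e, hrp, hmin, hcase⟩ := hR.field
  obtain ⟨he, hZ⟩ : Odd e ∧ Nat.card (Subgroup.center R) = r := by
    rcases hcase with h | h | h
    · exact ⟨h.2.1, h.2.2.1⟩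
    · rw [h.1] at hodd; exact absurd hodd (by decide)
    · rw [h.1] at hodd; exact absurd hodd (by decide)
  rw [hZ, h3] at hmin
  obtain ⟨hp, hF, hcF, hdvd, hm⟩ := hmin
  have hPS : P ≤ specialLinear ι F := hO.isCore.le.trans hX
  obtain ⟨h27, hT, -⟩ := exc_of_large hodd hO hPS hF h13 h3 hexc
  have hr3 : Fact (Nat.Prime 3) := ⟨Nat.prime_three⟩
  have hker : IsPGroup 3 ((scalars ι F).subgroupOf P) := ker_isPGroup (k := 3) (by rw [h27]; rfl) hPS
  by_cases h2 : (2 : F) = 0
  · have hp2 := char_two hF hp h2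
    subst hp2
    have := e_eq_two hdvd hm he.pos
    rw [this] at he
    exact absurd he (by decide)
  · have := fi24_large h27 hker hO.isCore.nonabelian h2 hT
    omega

/-- **(D), `r` odd, unitary, `n ≥ 13`.** -/
theorem D_unitary_odd {F : Type u} [Field F] [Fintype F] {n q : ℕ} {R : Subgroup (GL (Fin n) F)} {r k : ℕ}
    (hodd : Odd r) (h13 : 13 ≤ n) (hFq : Fintype.card F = q ^ 2) {p e : ℕ}
    (hmin : IsMinimalFieldFor (Nat.card (Subgroup.center R)) p e F) (C : Coord R r k)
    (Y X P : Subgroup (GL (Fin n) F)) (hX : X ≤ GU n F q ⊓ specialLinear (Fin n) F) (hO : IsOver C Y X P) :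
    GU n F q ⊓ specialLinear (Fin n) F ≤ P := by
  refine D_unitary_of hodd hFq hmin hX hO ?_
  intro h3 hexc
  have hZ : Nat.card (Subgroup.center R) = r := by
    rcases hO.type with h | h
    · exact h.2.1
    · rw [h.1] at hodd; exact absurd hodd (by decide)
  rw [hZ, h3] at hmin
  obtain ⟨a, ha, hea, hqa⟩ := field_unitary hmin hFq
  obtain ⟨hp, hF, hcF, hdvd, hm⟩ := hmin
  have hPG : P ≤ GU n F q ⊓ specialLinear (Fin n) F := hO.isCore.le.trans hX
  have hPS : P ≤ specialLinear (Fin n) F := hPG.trans inf_le_right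
  obtain ⟨h27, hT, hcT⟩ := exc_of_large hodd hO hPS hF (by rw [Fintype.card_fin]; exact h13) h3 hexc
  have hr3 : Fact (Nat.Prime 3) := ⟨Nat.prime_three⟩
  have hker : IsPGroup 3 ((scalars (Fin n) F).subgroupOf P) := ker_isPGroup (k := 3) (by rw [h27]; rfl) hPS
  rw [Fintype.card_fin] at h27
  by_cases h2 : (2 : F) = 0
  · have hp2 := char_two hF hp h2
    subst hp2
    have he2 := e_eq_two hdvd hm (by omega)
    have ha1 : a = 1 := by omega
    rw [ha1, pow_one] at hqa
    subst hqa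
    apply not_dvd_psu hFq (Or.inr h27)
    rw [← card_sq_su hFq (by omega)]
    refine dvd_trans ?_ (card_sq_dvd hPG)
    rw [hcT]
    norm_num
  · have := fi24_large (Fintype.card_fin n) hker hO.isCore.nonabelian h2 hT
    omega

end Cfsg.Agent.H878
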