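import Cfsg.Agent.H878.ExcKill
import Cfsg.Agent.H920.PSLFour
import Cfsg.Agent.H878.CSix

/-!
# (D) and class 6 for `r` odd, all `n ≥ 5` (helper878)
-/

set_option autoImplicit false

namespace Cfsg.Agent.H878

open Cfsg Cfsg.Geo Matrix Cfsg.Agent.H920
open scoped MatrixGroups

universe u

/-- Only `Fi₂₄'` remains, in dimensions `9` and `27`. -/
theorem exc_fi24 {ι : Type} [Fintype ι] [DecidableEq ι] {F : Type u} [Field F] {R : Subgroup (GL ι F)} {r k : ℕ}
    [Finite F] {p : ℕ} (hodd : Odd r) {C : Coord R r k} {Y X P : Subgroup (GL ι F)}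
    (hO : IsOver C Y X P) (hPS : P ≤ specialLinear ι F) (hpF : CharP F p) (h3F : (3 : F) ≠ 0)
    (h3 : r = 3) (he : Exc (SQ P)) :
    (Fintype.card ι = 9 ∨ Fintype.card ι = 27) ∧ Spor.IsoFi24' (SQ P) ∧
      Nat.card (SQ P) = 1255205709190661721292800 := by
  obtain ⟨-, hk⟩ := outcome hodd hO hPS hpF (known P hO.isCore.simple)
  obtain ⟨hk2, h1, h2⟩ := hk h3
  have hc := hO.card_eq
  rw [h3] at hc
  have hfin : Finite P := inferInstance
  have hbd : ∀ h : ((∃ (K : Type) (_ : Field K) (_ : Fintype K), Fintype.card K = 3 ∧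
      Nonempty (SQ P ≃* POmega K (quadFormOdd 3 K))) ∨ Spor.IsoFi22 (SQ P)), 26 ≤ Fintype.card ι := by
    intro h
    refine exc_le (C := P) h3F (QuotientGroup.mk' ((scalars ι F).subgroupOf P))
      (QuotientGroup.mk'_surjective _) ?_ ((H7.ESixRep.reind rfl F).toMonoidHom.comp P.subtype)
      ((H7.ESixRep.reind rfl F).injective.comp P.subtype_injective) h
    rw [QuotientGroup.ker_mk']
    intro y hy
    rw [Subgroup.mem_center_iff]
    intro g
    rw [Subgroup.mem_subgroupOf] at hy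
    exact (Subtype.ext (H920.scalars_comm hy g)).symm
  rcases he with ⟨K, _, _, hK, ⟨e⟩⟩ | he | he
  · exfalso
    have h4 : Nat.card (SQ P) = 4585351680 := by rw [Nat.card_congr e.toEquiv, card_o73 hK]
    have h5 := h1 (Or.inl h4)
    have h6 := hbd (Or.inl ⟨K, _, _, hK, ⟨e⟩⟩)
    rw [h5] at hc
    omega
  · exfalso
    have h5 := h1 (Or.inr (NotCT.Orders.fi22 he))
    have h6 := hbd (Or.inr he)
    rw [h5] at hc
    omega
  · have h4 := NotCT.Orders.fi24 he
    refine ⟨?_, he, h4⟩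
    rcases h2 h4 with h5 | h5
    · rw [h5] at hc
      omega
    · rw [h5] at hc
      omega

theorem three_ne {F : Type u} [Field F] {p : ℕ} (hF : CharP F p) (hp : p.Prime) (h : p ≠ 3) : (3 : F) ≠ 0 := by
  intro h3
  have := hF
  have h3 : ((3 : ℕ) : F) = 0 := by exact_mod_cast h3
  exact h ((Nat.prime_dvd_prime_iff_eq hp Nat.prime_three).1 ((CharP.cast_eq_zero_iff F p 3).1 h3))

/-- `3 ∣ p ^ e - 1` implies `p ≠ 3`. -/
theorem ne_three_of_dvd {p e : ℕ} (he : 0 < e) (hp : p.Prime) (h : 3 ∣ p ^ e - 1) : p ≠ 3 := by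
  rintro rfl
  have h1 : 3 ∣ 3 ^ e := dvd_pow_self 3 he.ne'
  have h2 : 1 ≤ 3 ^ e := Nat.one_le_pow _ _ (by norm_num)
  omega

/-- **(D), `r` odd, linear.** -/
theorem D_linear_all {ι : Type} [Fintype ι] [DecidableEq ι] {F : Type u} [Field F] [Fintype F]
    {R : Subgroup (GL ι F)} {r : ℕ} (hodd : Odd r) (hR : IsLinearSymplecticTypeData r R)
    (k : ℕ) (C : Coord R r k) (Y X P : Subgroup (GL ι F)) (hX : X ≤ specialLinear ι F) (hO : IsOver C Y X P) :
    specialLinear ι F ≤ P := by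
  refine D_linear_of hodd hR hX hO ?_
  intro h3 hexc
  obtain ⟨p, e, hrp, hmin, hcase⟩ := hR.field
  obtain ⟨he, hZ⟩ : Odd e ∧ Nat.card (Subgroup.center R) = r := by
    rcases hcase with h | h | h
    · exact ⟨h.2.1, h.2.2.1⟩
    · rw [h.1] at hodd; exact absurd hodd (by decide)
    · rw [h.1] at hodd; exact absurd hodd (by decide)
  rw [hZ, h3] at hmin
  obtain ⟨hp, hF, hcF, hdvd, hm⟩ := hmin
  have hPS : P ≤ specialLinear ι F := hO.isCore.le.trans hX
  obtain ⟨h27, hT, -⟩ := exc_fi24 hodd hO hPS hF (three_ne hF hp (ne_three_of_dvd he.pos hp hdvd)) h3 hexc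
  have hr3 : Fact (Nat.Prime 3) := ⟨Nat.prime_three⟩
  have hker : IsPGroup 3 ((scalars ι F).subgroupOf P) := ker_isPGroup (k := k) (by rw [hO.card_eq, h3]) hPS
  by_cases h2 : (2 : F) = 0
  · have hp2 := char_two hF hp h2
    subst hp2
    have := e_eq_two hdvd hm he.pos
    rw [this] at he
    exact absurd he (by decide)
  · have := fi24_large rfl hker hO.isCore.nonabelian h2 hT
    omega

/-- **(D), `r` odd, unitary.** -/
theorem D_unitary_all {F : Type u} [Field F] [Fintype F] {n q : ℕ} {R : Subgroup (GL (Fin n) F)} {r k : ℕ}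
    (hodd : Odd r) (hFq : Fintype.card F = q ^ 2) {p e : ℕ}
    (hmin : IsMinimalFieldFor (Nat.card (Subgroup.center R)) p e F) (C : Coord R r k)
    (Y X P : Subgroup (GL (Fin n) F)) (hX : X ≤ GU n F q ⊓ specialLinear (Fin n) F) (hO : IsOver C Y X P) :
    GU n F q ⊓ specialLinear (Fin n) F ≤ P := by
  refine D_unitary_of hodd hFq hmin hX hO ?_
  intro h3 hexc
  have hZ : Nat.card (Subgroup.center R) = r := by
    rcases hO.type with h | h
    · exact h.2.1
    · rw [h.1] at hodd; exact absurd hodd (by decide)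
  rw [hZ, h3] at hmin
  obtain ⟨a, ha, hea, hqa⟩ := field_unitary hmin hFq
  obtain ⟨hp, hF, hcF, hdvd, hm⟩ := hmin
  have hPG : P ≤ GU n F q ⊓ specialLinear (Fin n) F := hO.isCore.le.trans hX
  have hPS : P ≤ specialLinear (Fin n) F := hPG.trans inf_le_right
  obtain ⟨h27, hT, hcT⟩ := exc_fi24 hodd hO hPS hF (three_ne hF hp (ne_three_of_dvd (by omega) hp hdvd)) h3 hexc
  have hr3 : Fact (Nat.Prime 3) := ⟨Nat.prime_three⟩
  have hker : IsPGroup 3 ((scalars (Fin n) F).subgroupOf P) := ker_isPGroup (k := k) (by rw [hO.card_eq, h3]) hPS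
  rw [Fintype.card_fin] at h27
  by_cases h2 : (2 : F) = 0
  · have hp2 := char_two hF hp h2
    subst hp2
    have he2 := e_eq_two hdvd hm (by omega)
    have ha1 : a = 1 := by omega
    rw [ha1, pow_one] at hqa
    subst hqa
    apply not_dvd_psu hFq h27
    rw [← card_sq_su hFq (by omega)]
    refine dvd_trans ?_ (card_sq_dvd hPG)
    rw [hcT]
    norm_num
  · have := fi24_large (Fintype.card_fin n) hker hO.isCore.nonabelian h2 hT
    omega

/-- **Class 6 in `SL`, `r` odd, `n ≥ 5`.** -/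
theorem c6_SL_odd {ι : Type} [Fintype ι] [DecidableEq ι] {F : Type u} [Field F] [Fintype F] {r : ℕ}
    {R : Subgroup (GL ι F)} (hodd : Odd r) (hR : IsLinearSymplecticTypeData r R) (h5 : 5 ≤ Fintype.card ι) :
    IsMaximalIn (specialLinear ι F) (subgroupNormalizer R ⊓ specialLinear ι F) :=
  maximal_SL hR h5 (schAll ι F) (fun k C Y X P hX hO _ => D_linear_all hodd hR k C Y X P hX hO)

/-- **Class 6 in `SU`, `r` odd, `n ≥ 5`.** -/
theorem c6_SU_odd {F : Type u} [Field F] [Fintype F] {n q r k : ℕ} {R : Subgroup (GL (Fin n) F)} (hodd : Odd r)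
    (hF : Fintype.card F = q ^ 2) (h5 : 5 ≤ n) (hR : IsSymplecticTypeGroup r R)
    (hirr : ActsAbsolutelyIrreducibly (matrixSet R)) (hRD : R ≤ GU n F q) {p e : ℕ}
    (hmin : IsMinimalFieldFor (Nat.card (Subgroup.center R)) p e F) (htype : IsType r k R) :
    IsMaximalIn (GU n F q ⊓ specialLinear (Fin n) F)
      (subgroupNormalizer R ⊓ (GU n F q ⊓ specialLinear (Fin n) F)) :=
  maximal_SU hF h5 hR hirr hRD hmin htype (schAll (Fin n) F)
    (fun C Y X P hX hO => D_unitary_all hodd hF hmin C Y X P hX hO)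

end Cfsg.Agent.H878
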