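import Cfsg.Agent.H878.Trans

/-!
# `GoodRank` from the dimension, and divisors of the order of the transvection group (helper878)
-/

set_option autoImplicit false
set_option linter.unusedSimpArgs false

namespace Cfsg.Agent.H878

variable {r : ℕ} [hr : Fact r.Prime] {V : Type*} [AddCommGroup V] [Module (ZMod r) V] [Finite V]
  (b : V →ₗ[ZMod r] V →ₗ[ZMod r] ZMod r) (hb : ∀ v, b v v = 0)

theorem finrank_ker_functional (f : V →ₗ[ZMod r] ZMod r) :
    Module.finrank (ZMod r) V ≤ Module.finrank (ZMod r) (LinearMap.ker f) + 1 := by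
  have h1 := LinearMap.finrank_range_add_finrank_ker f
  have h2 : Module.finrank (ZMod r) (LinearMap.range f) ≤ 1 := by
    have := Submodule.finrank_le (LinearMap.range f)
    rwa [Module.finrank_self] at this
  omega

theorem exists_notMem_of_finrank_lt {W W' : Submodule (ZMod r) V}
    (h : Module.finrank (ZMod r) W' < Module.finrank (ZMod r) W) : ∃ x ∈ W, x ∉ W' := by
  by_contra hcon
  push Not at hcon
  have := Submodule.finrank_mono (show W ≤ W' from hcon)
  omega

theorem exists_perp {x : V} (h : 4 ≤ Module.finrank (ZMod r) V) :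
    ∃ y, b x y = 0 ∧ y ∉ Submodule.span (ZMod r) {x} := by
  have h1 := finrank_ker_functional (b x)
  have h2 : Module.finrank (ZMod r) (Submodule.span (ZMod r) ({x} : Set V)) ≤ 1 :=
    (finrank_span_le_card ({x} : Set V)).trans (by simp)
  obtain ⟨y, hy, hy'⟩ := exists_notMem_of_finrank_lt (W := LinearMap.ker (b x))
    (W' := Submodule.span (ZMod r) ({x} : Set V)) (by omega)
  exact ⟨y, hy, hy'⟩

theorem exists_perp_two {x y : V} (h : 6 ≤ Module.finrank (ZMod r) V) :
    ∃ z, b x z = 0 ∧ b y z = 0 ∧ z ∉ Submodule.span (ZMod r) {x, y} := by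
  classical
  have h1 := finrank_ker_functional (b x)
  have h1' := finrank_ker_functional (b y)
  have h2 : Module.finrank (ZMod r) (Submodule.span (ZMod r) ({x, y} : Set V)) ≤ 2 := by
    have h3 := finrank_span_finset_le_card (R := ZMod r) ({x, y} : Finset V)
    rw [Set.finrank, Finset.coe_pair] at h3
    exact h3.trans Finset.card_le_two
  have h3 := Submodule.finrank_sup_add_finrank_inf_eq (LinearMap.ker (b x)) (LinearMap.ker (b y))
  have h4 := Submodule.finrank_le (LinearMap.ker (b x) ⊔ LinearMap.ker (b y))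
  obtain ⟨z, hz, hz'⟩ := exists_notMem_of_finrank_lt (W := LinearMap.ker (b x) ⊓ LinearMap.ker (b y))
    (W' := Submodule.span (ZMod r) ({x, y} : Set V)) (by omega)
  exact ⟨z, hz.1, hz.2, hz'⟩

/-- `GoodRank` from the dimension. -/
theorem goodRank_of_finrank (h : 5 ≤ r ∨ (r = 3 ∧ 4 ≤ Module.finrank (ZMod r) V) ∨
    (r = 2 ∧ 6 ≤ Module.finrank (ZMod r) V)) : GoodRank b := by
  rcases h with h | ⟨h3, h4⟩ | ⟨h2, h6⟩
  · exact Or.inl h
  · right; left
    refine ⟨h3, ?_⟩
    have hpos : 0 < Module.finrank (ZMod r) V := by omega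
    have hnt : Nontrivial V := Module.finrank_pos_iff.1 hpos
    obtain ⟨x, hx⟩ := exists_ne (0 : V)
    obtain ⟨y, hxy, hy⟩ := exists_perp b (x := x) h4
    have hmem : x ∈ Submodule.span (ZMod r) ({x} : Set V) := Submodule.mem_span_singleton_self x
    refine ⟨x, y, hx, ?_, ?_, ?_, hxy⟩
    · rintro rfl; exact hy (Submodule.zero_mem _)
    · intro h; apply hy
      have : y = -x := by rw [← sub_eq_zero, sub_neg_eq_add, add_comm]; exact h
      rw [this]; exact Submodule.neg_mem _ hmem
    · intro h; apply hy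
      rw [← sub_eq_zero.1 h]; exact hmem
  · right; right
    refine ⟨h2, ?_⟩
    have hpos : 0 < Module.finrank (ZMod r) V := by omega
    have hnt : Nontrivial V := Module.finrank_pos_iff.1 hpos
    obtain ⟨x, hx⟩ := exists_ne (0 : V)
    obtain ⟨y, hxy, hy⟩ := exists_perp b (x := x) (by omega)
    obtain ⟨z, hxz, hyz, hz⟩ := exists_perp_two b (x := x) (y := y) h6
    have hmem : x ∈ Submodule.span (ZMod r) ({x} : Set V) := Submodule.mem_span_singleton_self x
    have hmx : x ∈ Submodule.span (ZMod r) ({x, y} : Set V) := Submodule.subset_span (by simp)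
    have hmy : y ∈ Submodule.span (ZMod r) ({x, y} : Set V) := Submodule.subset_span (by simp)
    refine ⟨x, y, z, hx, ?_, ?_, ?_, ?_, ?_, ?_, hxy, hxz, hyz⟩
    · rintro rfl; exact hy (Submodule.zero_mem _)
    · rintro rfl; exact hz (Submodule.zero_mem _)
    · intro h; apply hy
      have : y = -x := by rw [← sub_eq_zero, sub_neg_eq_add, add_comm]; exact h
      rw [this]; exact Submodule.neg_mem _ hmem
    · intro h; apply hz
      have : z = -x := by rw [← sub_eq_zero, sub_neg_eq_add, add_comm]; exact h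
      rw [this]; exact Submodule.neg_mem _ hmx
    · intro h; apply hz
      have : z = -y := by rw [← sub_eq_zero, sub_neg_eq_add, add_comm]; exact h
      rw [this]; exact Submodule.neg_mem _ hmy
    · intro h; apply hz
      have : z = -(x + y) := by rw [← sub_eq_zero, sub_neg_eq_add, add_comm]; exact h
      rw [this]; exact Submodule.neg_mem _ (Submodule.add_mem _ hmx hmy)

/-- The hyperbolic pairs. -/
def HPair : Type _ := {p : V × V // b p.1 p.2 = 1}

theorem card_hpair (hnd : ∀ v, (∀ w, b v w = 0) → v = 0) :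
    Nat.card (HPair b) * r = (Nat.card V - 1) * Nat.card V := by
  classical
  let _ : Fintype V := Fintype.ofFinite V
  -- fibres
  have hfib : ∀ x : V, x ≠ 0 → Nat.card {y : V // b x y = 1} * r = Nat.card V := by
    intro x hx
    obtain ⟨z, hz⟩ : ∃ z, b x z ≠ 0 := by
      by_contra h; push Not at h; exact hx (hnd x h)
    set y₀ : V := (b x z)⁻¹ • z with hy₀
    have h1 : b x y₀ = 1 := by rw [hy₀, map_smul, smul_eq_mul, inv_mul_cancel₀ hz]
    let e : {y : V // b x y = 1} × ZMod r ≃ V :=
      { toFun := fun p => p.1.1 + (p.2 - 1) • y₀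
        invFun := fun v => ⟨⟨v + (1 - b x v) • y₀, by rw [map_add, map_smul, h1, smul_eq_mul]; ring⟩, b x v⟩
        left_inv := by
          rintro ⟨⟨y, hy⟩, c⟩
          have h2 : b x (y + (c - 1) • y₀) = c := by rw [map_add, map_smul, h1, hy, smul_eq_mul]; ring
          simp only [h2, Prod.mk.injEq, Subtype.mk.injEq, and_true]
          rw [add_assoc, ← add_smul]
          have : c - 1 + (1 - c) = 0 := by ring
          rw [this, zero_smul, add_zero]
        right_inv := by
          intro v
          simp only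
          rw [add_assoc, ← add_smul]
          have : 1 - b x v + (b x v - 1) = 0 := by ring
          rw [this, zero_smul, add_zero] }
    rw [← Nat.card_congr e, Nat.card_prod, Nat.card_zmod]
  let e2 : HPair b ≃ Σ x : {x : V // x ≠ 0}, {y : V // b x.1 y = 1} :=
    { toFun := fun p => ⟨⟨p.1.1, by
        rintro h
        have := p.2
        rw [h, map_zero, LinearMap.zero_apply] at this
        exact zero_ne_one this⟩, ⟨p.1.2, p.2⟩⟩
      invFun := fun q => ⟨(q.1.1, q.2.1), q.2.2⟩
      left_inv := fun p => rfl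
      right_inv := fun q => rfl }
  rw [Nat.card_congr e2, Nat.card_sigma, Finset.sum_mul]
  rw [Finset.sum_congr rfl (fun x _ => hfib x.1 x.2), Finset.sum_const, smul_eq_mul]
  congr 1
  rw [Finset.card_univ]
  have : Fintype.card {x : V // x ≠ 0} = Fintype.card V - 1 := by
    rw [Fintype.card_subtype_compl, Fintype.card_subtype_eq]
  rw [this, Nat.card_eq_fintype_card]

/-- The number of hyperbolic pairs divides the order of the transvection group. -/
theorem card_hpair_dvd (hnd : ∀ v, (∀ w, b v w = 0) → v = 0) (hV : Nontrivial V) :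
    Nat.card (HPair b) ∣ Nat.card (TG b hb) := by
  classical
  let act : MulAction (TG b hb) (HPair b) :=
    { smul := fun g p => ⟨((g : V ≃ₗ[ZMod r] V) p.1.1, (g : V ≃ₗ[ZMod r] V) p.1.2), by
        rw [b_TG b hb g.2]; exact p.2⟩
      one_smul := fun p => rfl
      mul_smul := fun g h p => rfl }
  obtain ⟨x, hx⟩ := exists_ne (0 : V)
  obtain ⟨z, hz⟩ : ∃ z, b x z ≠ 0 := by
    by_contra h; push Not at h; exact hx (hnd x h)
  have h1 : b x ((b x z)⁻¹ • z) = 1 := by rw [map_smul, smul_eq_mul, inv_mul_cancel₀ hz]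
  let p : HPair b := ⟨(x, (b x z)⁻¹ • z), h1⟩
  have horb : MulAction.orbit (TG b hb) p = Set.univ := by
    rw [Set.eq_univ_iff_forall]
    intro q
    obtain ⟨g, hg, e1, e2⟩ := TG_transitive_pair b hb hnd p.2 q.2
    exact ⟨⟨g, hg⟩, Subtype.ext (Prod.ext e1 e2)⟩
  have h2 := MulAction.index_stabilizer (TG b hb) p
  rw [horb, Set.ncard_univ] at h2
  rw [← h2]
  exact Subgroup.index_dvd_card _

end Cfsg.Agent.H878
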