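import Cfsg.Prelude.Def_GeometricClasses
import Cfsg.Agent.H920.SympA
import Cfsg.Agent.H878.TransRank

/-!
# Heisenberg frames in a matrix algebra (helper878)

`Frame r ψ b X`: invertible matrices `X v` indexed by a symplectic space `(V, b)` over `ZMod r`, with
`X v * X w ∈ F X (v + w)`, `X v * X w = ψ (b v w) X w * X v`, irreducible and with scalar commutant.
-/

set_option autoImplicit false
set_option linter.unusedSimpArgs false
set_option linter.unusedSectionVars false

namespace Cfsg.Agent.H878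

open Cfsg Cfsg.Geo Matrix
open scoped MatrixGroups

variable {ι : Type} [Fintype ι] [DecidableEq ι] {F : Type*} [Field F]
  {r : ℕ} [hr : Fact r.Prime] {V : Type*} [AddCommGroup V] [Module (ZMod r) V] [Finite V]

/-- Heisenberg frame. -/
structure Frame (ψ : AddChar (ZMod r) F) (b : V →ₗ[ZMod r] V →ₗ[ZMod r] ZMod r) (X : V → GL ι F) : Prop where
  alt : ∀ v, b v v = 0
  nondeg : ∀ v, (∀ w, b v w = 0) → v = 0
  inj : ∀ a, ψ a = 1 → a = 0
  mul : ∀ v w, ∃ c : F, (X v : Matrix ι ι F) * (X w : Matrix ι ι F) = c • (X (v + w) : Matrix ι ι F)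
  comm : ∀ v w, (X v : Matrix ι ι F) * (X w : Matrix ι ι F) =
    ψ (b v w) • ((X w : Matrix ι ι F) * (X v : Matrix ι ι F))
  central : ∀ M : Matrix ι ι F, (∀ v, (X v : Matrix ι ι F) * M = M * (X v : Matrix ι ι F)) →
    ∃ c : F, M = c • (1 : Matrix ι ι F)
  irr : ActsIrreducibly (Set.range fun v => (X v : Matrix ι ι F))

variable {ψ : AddChar (ZMod r) F} {b : V →ₗ[ZMod r] V →ₗ[ZMod r] ZMod r} {X : V → GL ι F}

/-- Conjugation by `X w`. -/
def cj (X : V → GL ι F) (w : V) (M : Matrix ι ι F) : Matrix ι ι F :=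
  (X w : Matrix ι ι F) * M * ((X w)⁻¹ : GL ι F)

theorem psi_ne_zero (ψ : AddChar (ZMod r) F) (a : ZMod r) : ψ a ≠ 0 := by
  intro h
  have h1 : ψ a * ψ (-a) = 1 := by rw [← AddChar.map_add_eq_mul, add_neg_cancel, AddChar.map_zero_eq_one]
  rw [h, zero_mul] at h1
  exact zero_ne_one h1

namespace Frame

theorem cj_cj (h : Frame ψ b X) (s w : V) (M : Matrix ι ι F) : cj X s (cj X w M) = cj X (s + w) M := by
  obtain ⟨c, hc⟩ := h.mul s w
  rcases isEmpty_or_nonempty ι with he | hne
  · ext i; exact (he.false i).elim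
  have hc0 : c ≠ 0 := by
    rintro rfl
    rw [zero_smul] at hc
    have h1 : (X s * X w : GL ι F).1 = 0 := hc
    exact (X s * X w).ne_zero h1
  have h2 : ((X s * X w : GL ι F)) = (X s * X w : GL ι F) := rfl
  have h3 : (((X w)⁻¹ : GL ι F) : Matrix ι ι F) * (((X s)⁻¹ : GL ι F) : Matrix ι ι F) =
      c⁻¹ • (((X (s + w))⁻¹ : GL ι F) : Matrix ι ι F) := by
    have e1 : (((X w)⁻¹ : GL ι F) : Matrix ι ι F) * (((X s)⁻¹ : GL ι F) : Matrix ι ι F) *
        ((X s : Matrix ι ι F) * (X w : Matrix ι ι F)) = 1 := by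
      rw [← Units.val_mul, ← Units.val_mul, ← Units.val_mul]
      have : (X w)⁻¹ * (X s)⁻¹ * (X s * X w) = (1 : GL ι F) := by group
      rw [this, Units.val_one]
    rw [hc, Matrix.mul_smul] at e1
    have e2 := congrArg (fun N => N * (((X (s + w))⁻¹ : GL ι F) : Matrix ι ι F)) e1
    simp only [Matrix.smul_mul, one_mul, mul_assoc] at e2
    rw [← Units.val_mul (X (s + w)), mul_inv_cancel, Units.val_one, mul_one] at e2
    rw [← e2, smul_smul, inv_mul_cancel₀ hc0, one_smul]
  unfold cj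
  calc (X s : Matrix ι ι F) * ((X w : Matrix ι ι F) * M * ((X w)⁻¹ : GL ι F)) * ((X s)⁻¹ : GL ι F)
      = ((X s : Matrix ι ι F) * (X w : Matrix ι ι F)) * M *
        ((((X w)⁻¹ : GL ι F) : Matrix ι ι F) * (((X s)⁻¹ : GL ι F) : Matrix ι ι F)) := by
          simp only [mul_assoc]
    _ = _ := by
      rw [hc, h3, Matrix.smul_mul, Matrix.smul_mul, Matrix.mul_smul, smul_smul, mul_inv_cancel₀ hc0, one_smul]

theorem cj_X (h : Frame ψ b X) (s w : V) : cj X s (X w : Matrix ι ι F) = ψ (b s w) • (X w : Matrix ι ι F) := by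
  unfold cj
  rw [h.comm s w, Matrix.smul_mul, mul_assoc, ← Units.val_mul (X s), mul_inv_cancel, Units.val_one, mul_one]

theorem cj_smul (w : V) (c : F) (M : Matrix ι ι F) : cj X w (c • M) = c • cj X w M := by
  unfold cj
  rw [Matrix.mul_smul, Matrix.smul_mul]

theorem cj_sum {α : Type*} (s : Finset α) (w : V) (M : α → Matrix ι ι F) :
    cj X w (∑ a ∈ s, M a) = ∑ a ∈ s, cj X w (M a) := by
  unfold cj
  rw [Finset.mul_sum, Finset.sum_mul]

theorem cj_comm_of (w : V) (M : Matrix ι ι F) (c : F) :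
    cj X w M = c • M ↔ (X w : Matrix ι ι F) * M = c • (M * (X w : Matrix ι ι F)) := by
  unfold cj
  constructor
  · intro h
    have := congrArg (fun N => N * (X w : Matrix ι ι F)) h
    simp only [mul_assoc, Matrix.smul_mul] at this
    rwa [← Units.val_mul, inv_mul_cancel, Units.val_one, mul_one] at this
  · intro h
    rw [h, Matrix.smul_mul, mul_assoc, ← Units.val_mul (X w), mul_inv_cancel, Units.val_one, mul_one]

/-- Eigenvectors of the conjugation action. -/
theorem eq_smul_X (h : Frame ψ b X) {M : Matrix ι ι F} {u : V} (hM : ∀ s, cj X s M = ψ (b s u) • M) :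
    ∃ c : F, M = c • (X u : Matrix ι ι F) := by
  obtain ⟨c, hc⟩ := h.central (M * ((X u)⁻¹ : GL ι F)) (by
    intro s
    have h1 := (cj_comm_of s M _).1 (hM s)
    have h2 := h.comm s u
    have h3 : (((X u)⁻¹ : GL ι F) : Matrix ι ι F) * (X s : Matrix ι ι F) =
        ψ (b s u) • ((X s : Matrix ι ι F) * (((X u)⁻¹ : GL ι F) : Matrix ι ι F)) := by
      have e1 := congrArg (fun N => (((X u)⁻¹ : GL ι F) : Matrix ι ι F) * N * (((X u)⁻¹ : GL ι F) : Matrix ι ι F)) h2
      simp only [Matrix.mul_smul, Matrix.smul_mul] at e1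
      have e2 : (((X u)⁻¹ : GL ι F) : Matrix ι ι F) * ((X s : Matrix ι ι F) * (X u : Matrix ι ι F)) *
          (((X u)⁻¹ : GL ι F) : Matrix ι ι F) = (((X u)⁻¹ : GL ι F) : Matrix ι ι F) * (X s : Matrix ι ι F) := by
        rw [mul_assoc, mul_assoc, ← Units.val_mul (X u), mul_inv_cancel, Units.val_one, mul_one]
      have e3 : (((X u)⁻¹ : GL ι F) : Matrix ι ι F) * ((X u : Matrix ι ι F) * (X s : Matrix ι ι F)) *
          (((X u)⁻¹ : GL ι F) : Matrix ι ι F) = (X s : Matrix ι ι F) * (((X u)⁻¹ : GL ι F) : Matrix ι ι F) := by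
        rw [← mul_assoc, ← Units.val_mul, inv_mul_cancel, Units.val_one, one_mul]
      rw [e2, e3] at e1
      exact e1
    rw [← mul_assoc, h1, Matrix.smul_mul, mul_assoc M, mul_assoc M, h3, Matrix.mul_smul])
  refine ⟨c, ?_⟩
  have := congrArg (fun N => N * (X u : Matrix ι ι F)) hc
  simp only [Matrix.smul_mul, one_mul] at this
  rwa [mul_assoc, ← Units.val_mul, inv_mul_cancel, Units.val_one, mul_one] at this

/-- The projections. -/
noncomputable def PP [Fintype V] (ψ : AddChar (ZMod r) F) (b : V →ₗ[ZMod r] V →ₗ[ZMod r] ZMod r) (X : V → GL ι F)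
    (u : V) (M : Matrix ι ι F) : Matrix ι ι F :=
  ∑ w : V, ψ (-(b w u)) • cj X w M

theorem cj_PP [Fintype V] (h : Frame ψ b X) (s u : V) (M : Matrix ι ι F) :
    cj X s (PP ψ b X u M) = ψ (b s u) • PP ψ b X u M := by
  unfold PP
  rw [cj_sum, Finset.smul_sum]
  rw [← Equiv.sum_comp (Equiv.addLeft s) (fun w => ψ (b s u) • ψ (-(b w u)) • cj X w M)]
  apply Finset.sum_congr rfl
  intro w _
  rw [cj_smul, h.cj_cj, smul_smul, Equiv.coe_addLeft, ← AddChar.map_add_eq_mul]
  congr 2
  rw [map_add, LinearMap.add_apply]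
  ring

theorem PP_eq [Fintype V] (h : Frame ψ b X) (u : V) (M : Matrix ι ι F) :
    ∃ c : F, PP ψ b X u M = c • (X u : Matrix ι ι F) := h.eq_smul_X fun s => h.cj_PP s u M

theorem sum_psi [Fintype V] [DecidableEq V] (h : Frame ψ b X) (w : V) :
    ∑ u : V, ψ (-(b w u)) = if w = 0 then ((Nat.card V : ℕ) : F) else 0 := by
  classical
  split_ifs with hw
  · subst hw
    simp [Nat.card_eq_fintype_card]
  · let χ : AddChar V F :=
      { toFun := fun u => ψ (-(b w u))
        map_zero_eq_one' := by simp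
        map_add_eq_mul' := fun x y => by
          rw [map_add, neg_add, AddChar.map_add_eq_mul] }
    have hχ : χ ≠ 1 := by
      intro h1
      apply hw
      apply h.nondeg
      intro u
      have h2 : χ u = 1 := by rw [h1]; rfl
      have h3 := h.inj _ h2
      rwa [neg_eq_zero] at h3
    exact AddChar.sum_eq_zero_of_ne_one hχ

theorem r_ne_zero (h : Frame ψ b X) (hV : (1 : ZMod r) ≠ 0 := one_ne_zero) : (r : F) ≠ 0 := by
  intro h0
  have hc : CharP F r := by
    rw [CharP.charP_iff_prime_eq_zero hr.out]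
    exact h0
  have h1 : ψ 1 ^ r = 1 := by
    rw [← AddChar.map_nsmul_eq_pow, nsmul_eq_mul, CharP.cast_eq_zero, zero_mul, AddChar.map_zero_eq_one]
  have h2 : (ψ 1 - 1) ^ r = 0 := by
    rw [sub_pow_char, h1, one_pow, sub_self]
  have h3 : ψ 1 = 1 := sub_eq_zero.1 (pow_eq_zero_iff (hr.out.ne_zero) |>.1 h2)
  exact hV (h.inj _ h3)

theorem card_ne_zero (h : Frame ψ b X) : ((Nat.card V : ℕ) : F) ≠ 0 := by
  have h1 : Nat.card V = r ^ Module.finrank (ZMod r) V := by
    rw [Module.natCard_eq_pow_finrank (K := ZMod r), Nat.card_zmod]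
  rw [h1, Nat.cast_pow]
  exact pow_ne_zero _ h.r_ne_zero

theorem cj_zero (h : Frame ψ b X) (M : Matrix ι ι F) : cj X 0 M = M := by
  obtain ⟨c, hc⟩ := h.central (X 0 : Matrix ι ι F) (fun v => by
    have := h.comm v 0
    rw [map_zero, AddChar.map_zero_eq_one, one_smul] at this
    exact this)
  have := (cj_comm_of (X := X) 0 M 1).2 (by
    rw [hc, Matrix.smul_mul, Matrix.mul_smul, one_mul, mul_one, one_smul])
  rwa [one_smul] at this

theorem sum_PP [Fintype V] (h : Frame ψ b X) (M : Matrix ι ι F) :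
    ∑ u : V, PP ψ b X u M = ((Nat.card V : ℕ) : F) • M := by
  classical
  unfold PP
  rw [Finset.sum_comm]
  have h1 : ∀ w : V, ∑ u : V, ψ (-(b w u)) • cj X w M =
      (if w = 0 then ((Nat.card V : ℕ) : F) else 0) • cj X w M := by
    intro w
    rw [← Finset.sum_smul, h.sum_psi]
  rw [Finset.sum_congr rfl fun w _ => h1 w, Finset.sum_eq_single 0]
  · rw [if_pos rfl, h.cj_zero]
  · intro w _ hw
    rw [if_neg hw, zero_smul]
  · intro h; exact absurd (Finset.mem_univ _) h

/-- Every matrix is a combination of the `X u`. -/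
theorem mem_span (h : Frame ψ b X) (M : Matrix ι ι F) :
    M ∈ Submodule.span F (Set.range fun v => (X v : Matrix ι ι F)) := by
  classical
  let _ : Fintype V := Fintype.ofFinite V
  have h1 : M = ((Nat.card V : ℕ) : F)⁻¹ • ∑ u : V, PP ψ b X u M := by
    rw [h.sum_PP, smul_smul, inv_mul_cancel₀ h.card_ne_zero, one_smul]
  rw [h1]
  apply Submodule.smul_mem
  apply Submodule.sum_mem
  intro u _
  obtain ⟨c, hc⟩ := h.PP_eq u M
  rw [hc]
  exact Submodule.smul_mem _ _ (Submodule.subset_span ⟨u, rfl⟩)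

/-- An invariant subspace not consisting of scalars contains some `X u`, `u ≠ 0`. -/
theorem exists_X_mem [Nonempty ι] (h : Frame ψ b X) {T : Submodule F (Matrix ι ι F)}
    (hT : ∀ w, ∀ M ∈ T, cj X w M ∈ T) {M : Matrix ι ι F} (hM : M ∈ T) (hns : ∀ c : F, M ≠ c • 1) :
    ∃ u, u ≠ 0 ∧ (X u : Matrix ι ι F) ∈ T := by
  classical
  let _ : Fintype V := Fintype.ofFinite V
  by_contra hcon
  push Not at hcon
  have hPT : ∀ u, PP ψ b X u M ∈ T := by
    intro u
    unfold PP
    exact Submodule.sum_mem _ fun w _ => Submodule.smul_mem _ _ (hT w M hM)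
  have hP0 : ∀ u, u ≠ 0 → PP ψ b X u M = 0 := by
    intro u hu
    obtain ⟨c, hc⟩ := h.PP_eq u M
    by_cases hc0 : c = 0
    · rw [hc, hc0, zero_smul]
    · exfalso
      apply hcon u hu
      have h1 := hPT u
      rw [hc] at h1
      have h2 := T.smul_mem c⁻¹ h1
      rwa [smul_smul, inv_mul_cancel₀ hc0, one_smul] at h2
  have h1 := h.sum_PP M
  rw [Finset.sum_eq_single 0 (fun u _ hu => hP0 u hu) (fun h => absurd (Finset.mem_univ _) h)] at h1
  obtain ⟨c, hc⟩ := h.PP_eq 0 M
  obtain ⟨d, hd⟩ := h.central (X 0 : Matrix ι ι F) (fun v => by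
    have := h.comm v 0
    rw [map_zero, AddChar.map_zero_eq_one, one_smul] at this
    exact this)
  apply hns (((Nat.card V : ℕ) : F)⁻¹ * (c * d))
  rw [hc, hd] at h1
  rw [← smul_smul, ← smul_smul, h1, smul_smul, inv_mul_cancel₀ h.card_ne_zero, one_smul]

/-- `X u` is a scalar only for `u = 0`. -/
theorem X_scalar [Nonempty ι] (h : Frame ψ b X) {u : V} {c : F} (hu : (X u : Matrix ι ι F) = c • 1) : u = 0 := by
  apply h.nondeg
  intro w
  have h1 := h.comm u w
  have hc0 : c ≠ 0 := by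
    rintro rfl
    rw [zero_smul] at hu
    exact (X u).ne_zero hu
  rw [hu, Matrix.smul_mul, Matrix.mul_smul, one_mul, mul_one, smul_smul] at h1
  have h2 : (c - ψ (b u w) * c) • (X w : Matrix ι ι F) = 0 := by rw [sub_smul, ← h1, sub_self]
  rcases smul_eq_zero.1 h2 with h3 | h3
  · apply h.inj
    have : c * (1 - ψ (b u w)) = 0 := by rw [← h3]; ring
    rcases mul_eq_zero.1 this with h4 | h4
    · exact absurd h4 hc0
    · exact (sub_eq_zero.1 h4).symm
  · exact absurd h3 (X w).ne_zero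

/-- An element commuting with all the `X w` up to scalars is a multiple of some `X u`. -/
theorem eq_smul_X_of_comm [Nonempty ι] (h : Frame ψ b X) {g : GL ι F}
    (hg : ∀ w, ∃ c : F, cj X w (g : Matrix ι ι F) = c • (g : Matrix ι ι F)) :
    ∃ (u : V) (c : F), (g : Matrix ι ι F) = c • (X u : Matrix ι ι F) := by
  classical
  let _ : Fintype V := Fintype.ofFinite V
  choose c hc using hg
  have h1 : ∀ u, PP ψ b X u (g : Matrix ι ι F) = (∑ w : V, ψ (-(b w u)) * c w) • (g : Matrix ι ι F) := by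
    intro u
    unfold PP
    rw [Finset.sum_smul]
    apply Finset.sum_congr rfl
    intro w _
    rw [hc, smul_smul]
  by_contra hcon
  push Not at hcon
  have h2 : ∀ u, PP ψ b X u (g : Matrix ι ι F) = 0 := by
    intro u
    obtain ⟨d, hd⟩ := h.PP_eq u (g : Matrix ι ι F)
    rw [h1 u]
    by_cases h0 : (∑ w : V, ψ (-(b w u)) * c w) = 0
    · rw [h0, zero_smul]
    · exfalso
      rw [h1 u] at hd
      apply hcon u ((∑ w : V, ψ (-(b w u)) * c w)⁻¹ * d)
      rw [← smul_smul, ← hd, smul_smul, inv_mul_cancel₀ h0, one_smul]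
  have h3 := h.sum_PP (g : Matrix ι ι F)
  rw [Finset.sum_eq_zero fun u _ => h2 u] at h3
  rcases smul_eq_zero.1 h3.symm with h4 | h4
  · exact h.card_ne_zero h4
  · exact g.ne_zero h4

end Frame

end Cfsg.Agent.H878
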