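import Cfsg.Agent.H878.KerBase
import Cfsg.Agent.S0243
import Cfsg.Agent.S0280
import Cfsg.Agent.S0292
import Cfsg.Agent.S2086
import Cfsg.Agent.S2089
import Cfsg.Agent.S2092
import Cfsg.Agent.S2093
import Cfsg.Agent.S2094
import Cfsg.Agent.S2095
import Cfsg.Agent.S2096
import Cfsg.Agent.S2097
import Cfsg.Agent.S2098
import Cfsg.Agent.S2099

/-!
# `Away r` for the classical groups (helper878)
-/

set_option autoImplicit false

namespace Cfsg.Agent.H878

open Cfsg

universe u v

variable {T : Type v} [Group T]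

theorem dvd_gcd_right {r n k : ℕ} (h : r ∣ Nat.gcd n k) : r ∣ n ∧ r ∣ k :=
  ⟨h.trans (Nat.gcd_dvd_left _ _), h.trans (Nat.gcd_dvd_right _ _)⟩

/-- `PSL_n(q)`. -/
theorem away_psl (h : IsPSL T) {r : ℕ} (hr : r.Prime) (hodd : Odd r) (h38 : r = 3 → 3 ^ 8 ∣ Nat.card T)
    (h5 : 5 ≤ r → r ^ 3 ∣ Nat.card T) : Away.{u} r T ∨
    ∃ (F : Type) (_ : Field F) (_ : Fintype F) (n : ℕ), 2 ≤ n ∧ r ∣ n ∧ r ∣ Fintype.card F - 1 ∧
      Nonempty (T ≃* Matrix.ProjectiveSpecialLinearGroup (Fin n) F) := by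
  obtain ⟨F, _, _, n, hn, h2, ⟨e⟩⟩ := h
  have hc := Nat.card_congr e.toEquiv
  have hS := S0243.result (F := F) rfl n hn
  have h1 : 1 < Fintype.card F := Fintype.one_lt_card
  by_cases hexc : (n, Fintype.card F) ∉ ({(2, 4), (2, 9), (3, 2), (3, 4), (4, 2)} : Set (ℕ × ℕ))
  · by_cases hd : r ∣ Nat.gcd n (Fintype.card F - 1)
    · right
      exact ⟨F, _, _, n, hn, (dvd_gcd_right hd).1, (dvd_gcd_right hd).2, ⟨e⟩⟩
    · left
      exact (away_cyc' (S2086.result rfl n hn h2 hexc) hd).congr e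
  · exfalso
    rw [not_not] at hexc
    simp only [Set.mem_insert_iff, Prod.mk.injEq, Set.mem_singleton_iff] at hexc
    have hr3 : r = 3 ∨ 5 ≤ r := by
      have h2 := hr.two_le
      rcases Nat.lt_or_ge r 5 with h | h
      · interval_cases r
        · exact absurd hodd (by decide)
        · exact Or.inl rfl
        · exact absurd hr (by decide)
      · exact Or.inr h
    rcases hr3 with hr3 | hr5
    · have h38' := h38 hr3
      rw [hc] at h38'
      have h16 : 3 ^ 8 ∣ ∏ i : Fin n, ((Fintype.card F) ^ n - (Fintype.card F) ^ (i : ℕ)) := by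
        rw [← hS]
        exact (h38'.mul_left _).mul_left _
      rcases hexc with ⟨rfl, hq⟩ | ⟨rfl, hq⟩ | ⟨rfl, hq⟩ | ⟨rfl, hq⟩ | ⟨rfl, hq⟩ <;> rw [hq] at h16 <;>
        revert h16 <;> decide
    · have h38' := h5 hr5
      rw [hc] at h38'
      have h16 : r ^ 3 ∣ ∏ i : Fin n, ((Fintype.card F) ^ n - (Fintype.card F) ^ (i : ℕ)) := by
        rw [← hS]
        exact (h38'.mul_left _).mul_left _
      -- the order divides `20160 * 6`, no cube of a prime `≥ 5`
      have key : ∀ N : ℕ, N ∈ [180, 5760, 168, 181440, 20160] → ¬ r ^ 3 ∣ N := by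
        intro N hN hdvd
        have hN0 : 0 < N := by
          fin_cases hN <;> decide
        have hle : N ≤ 181440 := by
          fin_cases hN <;> decide
        have hlt : r < 57 := by
          by_contra hge
          push Not at hge
          have h3 : 57 ^ 3 ≤ r ^ 3 := Nat.pow_le_pow_left hge 3
          have h4 := Nat.le_of_dvd hN0 hdvd
          omega
        fin_cases hN <;> interval_cases r <;> revert hdvd hr <;> decide
      rcases hexc with ⟨rfl, hq⟩ | ⟨rfl, hq⟩ | ⟨rfl, hq⟩ | ⟨rfl, hq⟩ | ⟨rfl, hq⟩ <;> rw [hq] at h16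
      · exact key 180 (by decide) (by simpa [Fin.prod_univ_succ] using h16)
      · exact key 5760 (by decide) (by simpa [Fin.prod_univ_succ] using h16)
      · exact key 168 (by decide) (by simpa [Fin.prod_univ_succ] using h16)
      · exact key 181440 (by decide) (by simpa [Fin.prod_univ_succ] using h16)
      · exact key 20160 (by decide) (by simpa [Fin.prod_univ_succ] using h16)

theorem away_psp (h : IsPSp T) {r : ℕ} (hr : r.Prime) (hodd : Odd r) : Away.{u} r T := by
  obtain ⟨F, _, _, m, hm, h2, ⟨e⟩⟩ := h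
  by_cases hexc : m = 3 ∧ Fintype.card F = 2
  · obtain ⟨rfl, hq⟩ := hexc
    exact (away_cyc hr hodd (S2093.result hq) (by decide)).congr e
  · exact (away_cyc hr hodd (S2092.result rfl m hm h2 hexc) ((Nat.gcd_dvd_left 2 _).trans (by decide))).congr e

theorem psu_exc {r : ℕ} (hr : r.Prime) (h5 : 5 ≤ r) {N : ℕ} (hN : N ∈ [77760, 52254720, 82771476480]) : ¬ r ^ 3 ∣ N := by
  intro hdvd
  have hfac : ∀ a b : ℕ, N = 2 ^ a * 3 ^ b * 25 ∨ N = 2 ^ a * 3 ^ b * 5 ∨ N = 2 ^ a * 3 ^ b * 35 ∨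
      N = 2 ^ a * 3 ^ b * 385 → False := by
    intro a b hab
    have h2 : Nat.Coprime (r ^ 3) (2 ^ a) :=
      Nat.Coprime.pow _ _ ((Nat.coprime_primes hr Nat.prime_two).2 (by omega))
    have h3 : Nat.Coprime (r ^ 3) (3 ^ b) :=
      Nat.Coprime.pow _ _ ((Nat.coprime_primes hr Nat.prime_three).2 (by omega))
    have h23 : Nat.Coprime (r ^ 3) (2 ^ a * 3 ^ b) := Nat.Coprime.mul_right h2 h3
    have h4 : 5 ^ 3 ≤ r ^ 3 := Nat.pow_le_pow_left h5 3
    rcases hab with h | h | h | h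
    · rw [h] at hdvd
      have := Nat.le_of_dvd (by norm_num) (h23.dvd_of_dvd_mul_left hdvd)
      omega
    · rw [h] at hdvd
      have := Nat.le_of_dvd (by norm_num) (h23.dvd_of_dvd_mul_left hdvd)
      omega
    · rw [h] at hdvd
      have := Nat.le_of_dvd (by norm_num) (h23.dvd_of_dvd_mul_left hdvd)
      omega
    · rw [h] at hdvd
      have h5' := h23.dvd_of_dvd_mul_left hdvd
      have h6 := Nat.le_of_dvd (by norm_num) h5'
      have h7 : r < 8 := by
        by_contra hge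
        push Not at hge
        have h3 : 8 ^ 3 ≤ r ^ 3 := Nat.pow_le_pow_left hge 3
        omega
      interval_cases r <;> revert h5' <;> decide
  fin_cases hN
  · exact hfac 6 5 (by norm_num)
  · exact hfac 11 6 (by norm_num)
  · exact hfac 15 8 (by norm_num)

/-- `PSU_n(q)`. -/
theorem away_psu (h : IsPSU T) {r : ℕ} (hr : r.Prime) (hodd : Odd r) (h38 : r = 3 → 3 ^ 8 ∣ Nat.card T)
    (h5 : 5 ≤ r → r ^ 3 ∣ Nat.card T) : Away.{u} r T ∨
    ∃ (F : Type) (_ : Field F) (_ : Fintype F) (n q : ℕ), Fintype.card F = q ^ 2 ∧ 3 ≤ n ∧ r ∣ n ∧ r ∣ q + 1 ∧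
      ¬ (n = 3 ∧ q = 2) ∧ Nonempty (T ≃* PSU n F q) := by
  obtain ⟨F, _, _, n, q, hq, hn, h32, ⟨e⟩⟩ := h
  have hc := Nat.card_congr e.toEquiv
  have hS := S0280.result hq n (by omega)
  by_cases hexc : (n, q) ∉ ({(4, 2), (4, 3), (6, 2)} : Set (ℕ × ℕ))
  · by_cases hd : r ∣ Nat.gcd n (q + 1)
    · right
      exact ⟨F, _, _, n, q, hq, hn, (dvd_gcd_right hd).1, (dvd_gcd_right hd).2, h32, ⟨e⟩⟩
    · left
      exact (away_cyc' (S2089.result n q hq hn h32 hexc) hd).congr e
  · exfalso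
    rw [not_not] at hexc
    simp only [Set.mem_insert_iff, Prod.mk.injEq, Set.mem_singleton_iff] at hexc
    have hr3 : r = 3 ∨ 5 ≤ r := by
      have h2 := hr.two_le
      rcases Nat.lt_or_ge r 5 with h | h
      · interval_cases r
        · exact absurd hodd (by decide)
        · exact Or.inl rfl
        · exact absurd hr (by decide)
      · exact Or.inr h
    rcases hr3 with hr3 | hr5
    · have h38' := h38 hr3
      rw [hc] at h38'
      have h16 := (h38'.mul_left (q + 1)).mul_left (Nat.gcd n (q + 1))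
      rw [hS] at h16
      rcases hexc with ⟨rfl, rfl⟩ | ⟨rfl, rfl⟩ | ⟨rfl, rfl⟩
      · revert h16; decide
      · revert h16; decide
      · -- `|PSU_6(2)| * 9 = 82771476480` divisible by 3 ^ 8 only
        have h17 : 3 ^ 10 ∣ Nat.gcd 6 (2 + 1) * ((2 + 1) * Nat.card (PSU 6 F 2)) := by
          have : Nat.gcd 6 (2 + 1) = 3 := by decide
          rw [this]
          obtain ⟨j, hj⟩ := h38'
          exact ⟨j, by rw [hj]; ring⟩
        rw [hS] at h17
        revert h17; decide
    · have h38' := h5 hr5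
      rw [hc] at h38'
      have h16 := (h38'.mul_left (q + 1)).mul_left (Nat.gcd n (q + 1))
      rw [hS] at h16
      rcases hexc with ⟨rfl, rfl⟩ | ⟨rfl, rfl⟩ | ⟨rfl, rfl⟩
      · exact psu_exc hr hr5 (N := 77760) (by decide) (by simpa [Finset.prod_range_succ, Nat.even_iff] using h16)
      · exact psu_exc hr hr5 (N := 52254720) (by decide) (by simpa [Finset.prod_range_succ, Nat.even_iff] using h16)
      · exact psu_exc hr hr5 (N := 82771476480) (by decide) (by simpa [Finset.prod_range_succ, Nat.even_iff] using h16)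

theorem away_oodd (h : IsPOmegaOdd T) {r : ℕ} (hr : r.Prime) (hodd : Odd r) : Away.{u} r T ∨
    (r = 3 ∧ ∃ (F : Type) (_ : Field F) (_ : Fintype F), Fintype.card F = 3 ∧
      Nonempty (T ≃* POmega F (quadFormOdd 3 F))) := by
  obtain ⟨F, _, _, m, hm, hF, ⟨e⟩⟩ := h
  by_cases hexc : m = 3 ∧ Fintype.card F = 3
  · obtain ⟨rfl, hq⟩ := hexc
    by_cases hr3 : r = 3
    · right
      exact ⟨hr3, F, _, _, hq, ⟨e⟩⟩
    · left
      exact (away_cyc12 hr hodd hr3 (S2095.result hq) (by decide)).congr e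
  · left
    exact (away_cyc hr hodd (S2094.result rfl hF m hm hexc) (by decide)).congr e

theorem away_oplus (h : IsPOmegaPlus T) {r : ℕ} (hr : r.Prime) (hodd : Odd r) : Away.{u} r T := by
  obtain ⟨F, _, _, l, hl, ⟨e⟩⟩ := h
  rcases Nat.even_or_odd l with he | ho
  · by_cases hexc : l = 4 ∧ Fintype.card F = 2
    · obtain ⟨rfl, hq⟩ := hexc
      refine Away.congr ⟨2, kerExp_of_mult (S2098.result hq) ?_, not_dvd_two hr hodd (by decide)⟩ e
      have : ∀ a : ZMod 2 × ZMod 2, 2 • a = 0 := by decide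
      exact this
    · have hS := S2097.result rfl l hl he hexc (F := F)
      refine Away.congr ⟨2, kerExp_of_mult hS ?_, not_dvd_two hr hodd (by decide)⟩ e
      have hg : ∀ g : ℕ, g ∣ 2 → ∀ a : ZMod g × ZMod g, 2 • a = 0 := by
        intro g hg a
        obtain ⟨k, hk⟩ := hg
        have : ∀ b : ZMod g, 2 • b = 0 := by
          intro b
          rw [hk, mul_comm, mul_smul, nsmul_eq_mul g, ZMod.natCast_self, zero_mul, smul_zero]
        exact Prod.ext (this a.1) (this a.2)
      exact hg _ (Nat.gcd_dvd_left 2 _)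
  · exact (away_cyc hr hodd (S2096.result rfl l (by obtain ⟨k, hk⟩ := ho; omega) ho)
      (Nat.gcd_dvd_left 4 _)).congr e

theorem away_ominus (h : IsPOmegaMinus T) {r : ℕ} (hr : r.Prime) (hodd : Odd r) : Away.{u} r T := by
  obtain ⟨F, _, _, l, a, b, hl, hab, ⟨e⟩⟩ := h
  exact (away_cyc hr hodd (S2099.result rfl l hl a b hab) (Nat.gcd_dvd_left 4 _)).congr e

end Cfsg.Agent.H878
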