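import Cfsg.Agent.H878.Frame

/-!
# Lifting the transvections of a Heisenberg frame (helper878)
-/

set_option autoImplicit false
set_option linter.unusedSimpArgs false
set_option linter.unusedSectionVars false

namespace Cfsg.Agent.H878

open Cfsg Cfsg.Geo Matrix
open scoped MatrixGroups

variable {ι : Type} [Fintype ι] [DecidableEq ι] {F : Type*} [Field F]
  {r : ℕ} [hr : Fact r.Prime] {V : Type*} [AddCommGroup V] [Module (ZMod r) V] [Finite V]
  {ψ : AddChar (ZMod r) F} {b : V →ₗ[ZMod r] V →ₗ[ZMod r] ZMod r} {X : V → GL ι F}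

/-- The normalisation of the frame: `X v ^ r = 1` for odd `r`, `X v ^ 2 = -1` for `r = 2`. -/
def Normed (r : ℕ) (X : V → GL ι F) : Prop :=
  (Odd r ∧ ∀ v, (X v : Matrix ι ι F) ^ r = 1) ∨ (r = 2 ∧ ∀ v, (X v : Matrix ι ι F) * (X v : Matrix ι ι F) = -1)

namespace Frame

theorem X_pow_comm (h : Frame ψ b X) (v w : V) (j : ℕ) :
    (X v : Matrix ι ι F) ^ j * (X w : Matrix ι ι F) =
      ψ (-(j * b w v)) • ((X w : Matrix ι ι F) * (X v : Matrix ι ι F) ^ j) := by
  induction j with
  | zero => simp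
  | succ j ih =>
    have h1 : (X v : Matrix ι ι F) * (X w : Matrix ι ι F) =
        ψ (-(b w v)) • ((X w : Matrix ι ι F) * (X v : Matrix ι ι F)) := by
      have := h.comm v w
      rwa [b_skew b h.alt v w] at this
    rw [pow_succ, mul_assoc, h1, Matrix.mul_smul, ← mul_assoc, ih, Matrix.smul_mul, smul_smul, mul_assoc,
      ← pow_succ, ← AddChar.map_add_eq_mul]
    congr 2
    push_cast
    ring

theorem X_pow (h : Frame ψ b X) (v : V) (j : ℕ) :
    ∃ c : F, c ≠ 0 ∧ (X v : Matrix ι ι F) ^ j = c • (X ((j : ZMod r) • v) : Matrix ι ι F) := by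
  rcases isEmpty_or_nonempty ι with he | hne
  · exact ⟨1, one_ne_zero, by ext i; exact (he.false i).elim⟩
  induction j with
  | zero =>
    obtain ⟨d, hd⟩ := h.central (X 0 : Matrix ι ι F) (fun v => by
      have := h.comm v 0
      rw [map_zero, AddChar.map_zero_eq_one, one_smul] at this
      exact this)
    have hd0 : d ≠ 0 := by
      rintro rfl
      rw [zero_smul] at hd
      exact (X 0).ne_zero hd
    refine ⟨d⁻¹, inv_ne_zero hd0, ?_⟩
    rw [pow_zero, Nat.cast_zero, zero_smul, hd, smul_smul, inv_mul_cancel₀ hd0, one_smul]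
  | succ j ih =>
    obtain ⟨c, hc0, hc⟩ := ih
    obtain ⟨d, hd⟩ := h.mul ((j : ZMod r) • v) v
    have hd0 : d ≠ 0 := by
      rintro rfl
      rw [zero_smul] at hd
      have h1 : (X ((j : ZMod r) • v) * X v : GL ι F).1 = 0 := hd
      exact (X ((j : ZMod r) • v) * X v).ne_zero h1
    refine ⟨c * d, mul_ne_zero hc0 hd0, ?_⟩
    rw [pow_succ, hc, Matrix.smul_mul, hd, smul_smul, Nat.cast_succ, add_smul, one_smul]

/-- The intertwining matrix, `r` odd. -/
theorem exists_t_odd [Nonempty ι] (h : Frame ψ b X) (hodd : Odd r) (hX : ∀ v, (X v : Matrix ι ι F) ^ r = 1)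
    {v : V} (hv : v ≠ 0) :
    ∃ t : Matrix ι ι F, t ≠ 0 ∧ ∀ w, ∃ c : F, c ≠ 0 ∧
      t * (X w : Matrix ι ι F) = c • ((X w : Matrix ι ι F) * (X v : Matrix ι ι F) ^ (b w v).val * t) := by
  classical
  -- `half`
  have h2 : (2 : ZMod r) ≠ 0 := by
    intro h
    have h' : ((2 : ℕ) : ZMod r) = 0 := by exact_mod_cast h
    rw [ZMod.natCast_eq_zero_iff] at h'
    rcases (Nat.dvd_prime Nat.prime_two).1 h' with h3 | h3
    · exact hr.out.one_lt.ne' h3
    · rw [h3] at hodd; exact absurd hodd (by decide)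
  have hpowadd : ∀ i j : ZMod r, (X v : Matrix ι ι F) ^ (i + j).val =
      (X v : Matrix ι ι F) ^ i.val * (X v : Matrix ι ι F) ^ j.val := by
    intro i j
    rw [ZMod.val_add, ← pow_eq_pow_mod _ (hX v), ← pow_add]
  set t : Matrix ι ι F := ∑ j : ZMod r, ψ (j ^ 2 / 2) • (X v : Matrix ι ι F) ^ j.val with ht
  refine ⟨t, ?_, ?_⟩
  · -- `t ≠ 0`
    intro h0
    obtain ⟨s, hs⟩ : ∃ s, b s v ≠ 0 := by
      by_contra hcon
      push Not at hcon
      apply hv
      apply h.nondeg
      intro w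
      rw [b_skew b h.alt, hcon, neg_zero]
    have hcj : ∀ m : ZMod r, cj X (m • s) t = ∑ j : ZMod r, (ψ (j ^ 2 / 2) * ψ (m * (j * b s v))) •
        (X v : Matrix ι ι F) ^ j.val := by
      intro m
      rw [ht, cj_sum]
      apply Finset.sum_congr rfl
      intro j _
      rw [cj_smul, (cj_comm_of (X := X) (m • s) ((X v : Matrix ι ι F) ^ j.val) (ψ (m * (j * b s v)))).2, smul_smul]
      rw [h.X_pow_comm, smul_smul, ← AddChar.map_add_eq_mul, map_smul, LinearMap.smul_apply,
        ZMod.natCast_zmod_val, smul_eq_mul]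
      have : m * (j * (b s) v) + -(j * (m * (b s) v)) = 0 := by ring
      rw [this, AddChar.map_zero_eq_one, one_smul]
    have hsum : ∑ m : ZMod r, cj X (m • s) t = (r : F) • (1 : Matrix ι ι F) := by
      rw [Finset.sum_congr rfl fun m _ => hcj m, Finset.sum_comm]
      have h1 : ∀ j : ZMod r, ∑ m : ZMod r, (ψ (j ^ 2 / 2) * ψ (m * (j * b s v))) • (X v : Matrix ι ι F) ^ j.val =
          if j = 0 then (r : F) • (1 : Matrix ι ι F) else 0 := by
        intro j
        rw [← Finset.sum_smul, ← Finset.mul_sum]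
        split_ifs with hj
        · subst hj
          simp
        · have h3 : ∑ m : ZMod r, ψ (m * (j * b s v)) = 0 := by
            let χ : AddChar (ZMod r) F :=
              { toFun := fun m => ψ (m * (j * b s v))
                map_zero_eq_one' := by simp
                map_add_eq_mul' := fun x y => by rw [add_mul, AddChar.map_add_eq_mul] }
            have hχ : χ ≠ 1 := by
              intro h1
              have h2 : χ 1 = 1 := by rw [h1]; rfl
              have h3 := h.inj _ h2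
              rw [one_mul, mul_eq_zero] at h3
              rcases h3 with h3 | h3
              · exact hj h3
              · exact hs h3
            exact AddChar.sum_eq_zero_of_ne_one hχ
          rw [h3, mul_zero, zero_smul]
      rw [Finset.sum_congr rfl fun j _ => h1 j, Finset.sum_ite_eq' Finset.univ (0 : ZMod r), if_pos (Finset.mem_univ _)]
    rw [h0] at hsum
    have h3 : ∑ m : ZMod r, cj X (m • s) (0 : Matrix ι ι F) = 0 := by
      apply Finset.sum_eq_zero
      intro m _
      unfold cj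
      rw [mul_zero, zero_mul]
    rw [h3] at hsum
    rcases smul_eq_zero.1 hsum.symm with h4 | h4
    · exact absurd h4 h.r_ne_zero
    · exact one_ne_zero h4
  · intro w
    set β := b w v with hβ
    refine ⟨ψ (-(β ^ 2 / 2)), psi_ne_zero ψ _, ?_⟩
    have e1 : t * (X w : Matrix ι ι F) =
        (X w : Matrix ι ι F) * ∑ j : ZMod r, ψ (j ^ 2 / 2 - j * β) • (X v : Matrix ι ι F) ^ j.val := by
      rw [ht, Finset.sum_mul, Finset.mul_sum]
      apply Finset.sum_congr rfl
      intro j _
      rw [Matrix.smul_mul, h.X_pow_comm, smul_smul, ← AddChar.map_add_eq_mul, Matrix.mul_smul, ZMod.natCast_zmod_val,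
        sub_eq_add_neg]
    have e2 : ∑ j : ZMod r, ψ (j ^ 2 / 2 - j * β) • (X v : Matrix ι ι F) ^ j.val =
        ψ (-(β ^ 2 / 2)) • ((X v : Matrix ι ι F) ^ β.val * t) := by
      rw [ht, Finset.mul_sum, Finset.smul_sum]
      rw [← Equiv.sum_comp (Equiv.addLeft β) (fun j => ψ (j ^ 2 / 2 - j * β) • (X v : Matrix ι ι F) ^ j.val)]
      apply Finset.sum_congr rfl
      intro j _
      rw [Equiv.coe_addLeft, hpowadd, Matrix.mul_smul, smul_smul, ← AddChar.map_add_eq_mul]
      congr 2
      field_simp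
      ring
    rw [e1, e2, Matrix.mul_smul, mul_assoc]

/-- The intertwining matrix, `r = 2`. -/
theorem exists_t_two [Nonempty ι] {ψ : AddChar (ZMod 2) F} {V : Type*} [AddCommGroup V] [Module (ZMod 2) V]
    [Finite V] {b : V →ₗ[ZMod 2] V →ₗ[ZMod 2] ZMod 2} {X : V → GL ι F}
    (h : Frame ψ b X) (hX : ∀ v, (X v : Matrix ι ι F) * (X v : Matrix ι ι F) = -1) {v : V} (hv : v ≠ 0) :
    ∃ t : Matrix ι ι F, t ≠ 0 ∧ ∀ w, ∃ c : F, c ≠ 0 ∧
      t * (X w : Matrix ι ι F) = c • ((X w : Matrix ι ι F) * (X v : Matrix ι ι F) ^ (b w v).val * t) := by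
  classical
  refine ⟨1 + (X v : Matrix ι ι F), ?_, ?_⟩
  · intro h0
    apply hv
    apply h.X_scalar (c := -1)
    rw [neg_smul, one_smul]
    exact (neg_eq_of_add_eq_zero_right h0).symm
  · intro w
    have hψ : ψ 1 = -1 := by
      have h1 : ψ 1 * ψ 1 = 1 := by
        rw [← AddChar.map_add_eq_mul]
        have : (1 : ZMod 2) + 1 = 0 := by decide
        rw [this, AddChar.map_zero_eq_one]
      rcases mul_self_eq_one_iff.1 h1 with h2 | h2
      · exact absurd (h.inj _ h2) (by decide)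
      · exact h2
    have hc := h.comm v w
    have hvw : b v w = b w v := by
      rw [b_skew b h.alt v w]
      generalize b w v = x
      revert x; decide
    rw [hvw] at hc
    rcases (by generalize b w v = x; revert x; decide : b w v = 0 ∨ b w v = 1) with hβ | hβ
    · refine ⟨1, one_ne_zero, ?_⟩
      rw [hβ, AddChar.map_zero_eq_one, one_smul] at hc
      rw [hβ, one_smul, ZMod.val_zero, pow_zero, mul_one, add_mul, one_mul, mul_add, mul_one, hc]
    · refine ⟨-1, neg_ne_zero.2 one_ne_zero, ?_⟩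
      rw [hβ, hψ, neg_smul, one_smul] at hc
      have h1 : (1 : ZMod 2).val = 1 := rfl
      rw [hβ, h1, pow_one, add_mul, one_mul, mul_add, mul_one, mul_assoc, hX v, hc]
      simp only [mul_neg, mul_one, neg_smul, one_smul, neg_add, neg_neg]
      abel

theorem exists_t [Nonempty ι] (h : Frame ψ b X) (hn : Normed r X) (v : V) :
    ∃ t : GL ι F, ∀ w, ∃ c : F, c ≠ 0 ∧
      (t : Matrix ι ι F) * (X w : Matrix ι ι F) = c • ((X (w + b w v • v) : Matrix ι ι F) * (t : Matrix ι ι F)) := by
  classical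
  by_cases hv : v = 0
  · subst hv
    refine ⟨1, fun w => ⟨1, one_ne_zero, ?_⟩⟩
    simp
  obtain ⟨t, ht0, ht⟩ : ∃ t : Matrix ι ι F, t ≠ 0 ∧ ∀ w, ∃ c : F, c ≠ 0 ∧
      t * (X w : Matrix ι ι F) = c • ((X w : Matrix ι ι F) * (X v : Matrix ι ι F) ^ (b w v).val * t) := by
    rcases hn with ⟨hodd, hX⟩ | ⟨h2, hX⟩
    · exact h.exists_t_odd hodd hX hv
    · subst h2
      exact h.exists_t_two hX hv
  -- rewrite with `X (w + b w v • v)`
  have ht' : ∀ w, ∃ c : F, c ≠ 0 ∧ t * (X w : Matrix ι ι F) = c • ((X (w + b w v • v) : Matrix ι ι F) * t) := by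
    intro w
    obtain ⟨c, hc0, hc⟩ := ht w
    obtain ⟨d, hd0, hd⟩ := h.X_pow v (b w v).val
    obtain ⟨e, he⟩ := h.mul w (((b w v).val : ZMod r) • v)
    have he0 : e ≠ 0 := by
      rintro rfl
      rw [zero_smul] at he
      have h1 : (X w * X (((b w v).val : ZMod r) • v) : GL ι F).1 = 0 := he
      exact (X w * X (((b w v).val : ZMod r) • v)).ne_zero h1
    refine ⟨c * (d * e), mul_ne_zero hc0 (mul_ne_zero hd0 he0), ?_⟩
    rw [hc, hd, Matrix.mul_smul, he, smul_smul, Matrix.smul_mul, smul_smul, ZMod.natCast_zmod_val]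
  -- the kernel of `t`
  have hker : ∀ x : ι → F, t *ᵥ x = 0 → x = 0 := by
    have hW := h.irr (LinearMap.ker (Matrix.toLin' t)) (by
      rintro _ ⟨w, rfl⟩
      rw [Submodule.map_le_iff_le_comap]
      intro x hx
      rw [LinearMap.mem_ker, Matrix.toLin'_apply] at hx
      rw [Submodule.mem_comap, LinearMap.mem_ker, Matrix.toLin'_apply, Matrix.toLin'_apply, Matrix.mulVec_mulVec]
      obtain ⟨c, _, hc⟩ := ht' w
      rw [hc, Matrix.smul_mulVec, ← Matrix.mulVec_mulVec, hx, Matrix.mulVec_zero, smul_zero])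
    rcases hW with hW | hW
    · intro x hx
      have : x ∈ LinearMap.ker (Matrix.toLin' t) := by rw [LinearMap.mem_ker, Matrix.toLin'_apply]; exact hx
      rwa [hW, Submodule.mem_bot] at this
    · exfalso
      apply ht0
      have h1 : Matrix.toLin' t = 0 := LinearMap.ker_eq_top.1 hW
      exact (Matrix.toLin' (R := F)).map_eq_zero_iff.1 h1
  have hunit : IsUnit t := by
    rw [Matrix.isUnit_iff_isUnit_det, isUnit_iff_ne_zero]
    intro hdet
    obtain ⟨x, hx, hx'⟩ := Matrix.exists_mulVec_eq_zero_iff.2 hdet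
    exact hx (hker x hx')
  exact ⟨hunit.unit, ht'⟩

end Frame

end Cfsg.Agent.H878
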