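import Cfsg.Agent.H878.Lift

/-!
# The group lifting the transvection group of a Heisenberg frame (helper878)
-/

set_option autoImplicit false
set_option linter.unusedSimpArgs false
set_option linter.unusedSectionVars false

namespace Cfsg.Agent.H878

open Cfsg Cfsg.Geo Matrix
open scoped MatrixGroups

variable {ι : Type} [Fintype ι] [DecidableEq ι] {F : Type*} [Field F]
  {r : ℕ} [hr : Fact r.Prime] {V : Type*} [AddCommGroup V] [Module (ZMod r) V] [Finite V]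
  {ψ : AddChar (ZMod r) F} {b : V →ₗ[ZMod r] V →ₗ[ZMod r] ZMod r} {X : V → GL ι F}

/-- `g` acts on the frame through `γ`. -/
def Acts (X : V → GL ι F) (g : GL ι F) (γ : V ≃ₗ[ZMod r] V) : Prop :=
  ∀ w, ∃ c : F, c ≠ 0 ∧ (g : Matrix ι ι F) * (X w : Matrix ι ι F) =
    c • ((X (γ w) : Matrix ι ι F) * (g : Matrix ι ι F))

theorem acts_one : Acts X (1 : GL ι F) (1 : V ≃ₗ[ZMod r] V) := by
  intro w
  refine ⟨1, one_ne_zero, ?_⟩
  simp

theorem Acts.mul {g h : GL ι F} {γ δ : V ≃ₗ[ZMod r] V} (hg : Acts X g γ) (hh : Acts X h δ) :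
    Acts X (g * h) (γ * δ) := by
  intro w
  obtain ⟨c, hc0, hc⟩ := hh w
  obtain ⟨d, hd0, hd⟩ := hg (δ w)
  refine ⟨c * d, mul_ne_zero hc0 hd0, ?_⟩
  rw [Units.val_mul, mul_assoc, hc, Matrix.mul_smul, ← mul_assoc, hd, Matrix.smul_mul, smul_smul, mul_assoc]
  rfl

theorem Acts.inv {g : GL ι F} {γ : V ≃ₗ[ZMod r] V} (hg : Acts X g γ) : Acts X g⁻¹ γ⁻¹ := by
  intro w
  obtain ⟨c, hc0, hc⟩ := hg (γ⁻¹ w)
  have h0 : γ (γ⁻¹ w) = w := γ.apply_symm_apply w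
  rw [h0] at hc
  refine ⟨c⁻¹, inv_ne_zero hc0, ?_⟩
  have h1 := congrArg (fun N => ((g⁻¹ : GL ι F) : Matrix ι ι F) * N * ((g⁻¹ : GL ι F) : Matrix ι ι F)) hc
  simp only [Matrix.mul_smul, Matrix.smul_mul] at h1
  have h2 : ((g⁻¹ : GL ι F) : Matrix ι ι F) * ((g : Matrix ι ι F) * (X (γ⁻¹ w) : Matrix ι ι F)) *
      ((g⁻¹ : GL ι F) : Matrix ι ι F) = (X (γ⁻¹ w) : Matrix ι ι F) * ((g⁻¹ : GL ι F) : Matrix ι ι F) := by
    rw [← mul_assoc, ← Units.val_mul, inv_mul_cancel, Units.val_one, one_mul]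
  have h3 : ((g⁻¹ : GL ι F) : Matrix ι ι F) * ((X w : Matrix ι ι F) * (g : Matrix ι ι F)) *
      ((g⁻¹ : GL ι F) : Matrix ι ι F) = ((g⁻¹ : GL ι F) : Matrix ι ι F) * (X w : Matrix ι ι F) := by
    rw [mul_assoc, mul_assoc, ← Units.val_mul g, mul_inv_cancel, Units.val_one, mul_one]
  rw [h2, h3] at h1
  rw [h1, smul_smul, inv_mul_cancel₀ hc0, one_smul]

/-- Conjugation form. -/
theorem acts_iff {g : GL ι F} {γ : V ≃ₗ[ZMod r] V} : Acts X g γ ↔ ∀ w, ∃ c : F, c ≠ 0 ∧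
    (g : Matrix ι ι F) * (X w : Matrix ι ι F) * ((g⁻¹ : GL ι F) : Matrix ι ι F) = c • (X (γ w) : Matrix ι ι F) := by
  apply forall_congr'
  intro w
  constructor
  · rintro ⟨c, hc0, hc⟩
    refine ⟨c, hc0, ?_⟩
    rw [hc, Matrix.smul_mul, mul_assoc, ← Units.val_mul, mul_inv_cancel, Units.val_one, mul_one]
  · rintro ⟨c, hc0, hc⟩
    refine ⟨c, hc0, ?_⟩
    rw [← Matrix.smul_mul, ← hc, mul_assoc _ ((g⁻¹ : GL ι F) : Matrix ι ι F), ← Units.val_mul g⁻¹, inv_mul_cancel,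
      Units.val_one, mul_one]

theorem acts_of_scalar {g : GL ι F} (hg : g ∈ scalars ι F) : Acts X g (1 : V ≃ₗ[ZMod r] V) := by
  obtain ⟨c, hc⟩ := (mem_scalars_iff g).1 hg
  intro w
  refine ⟨1, one_ne_zero, ?_⟩
  rw [hc]
  simp

namespace Frame

theorem acts_X (h : Frame ψ b X) (v : V) : Acts X (X v) (1 : V ≃ₗ[ZMod r] V) := by
  intro w
  exact ⟨ψ (b v w), psi_ne_zero ψ _, h.comm v w⟩

theorem eq_of_acts [Nonempty ι] (h : Frame ψ b X) {g : GL ι F} {γ δ : V ≃ₗ[ZMod r] V} (hγ : Acts X g γ)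
    (hδ : Acts X g δ) : γ = δ := by
  ext w
  obtain ⟨c, hc0, hc⟩ := acts_iff.1 hγ w
  obtain ⟨d, hd0, hd⟩ := acts_iff.1 hδ w
  have h1 : c • (X (γ w) : Matrix ι ι F) = d • (X (δ w) : Matrix ι ι F) := by rw [← hc, ← hd]
  obtain ⟨e, he⟩ := h.mul (γ w) (-(δ w))
  obtain ⟨f, hf⟩ := h.mul (δ w) (-(δ w))
  have h2 := congrArg (fun N => N * (X (-(δ w)) : Matrix ι ι F)) h1
  simp only [Matrix.smul_mul, he, hf, smul_smul, add_neg_cancel] at h2
  obtain ⟨s, hs⟩ := h.central (X 0 : Matrix ι ι F) (fun v => by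
    have := h.comm v 0
    rw [map_zero, AddChar.map_zero_eq_one, one_smul] at this
    exact this)
  rw [hs, smul_smul] at h2
  have he0 : e ≠ 0 := by
    rintro rfl
    rw [zero_smul] at he
    have h1 : (X (γ w) * X (-(δ w)) : GL ι F).1 = 0 := he
    exact (X (γ w) * X (-(δ w))).ne_zero h1
  have h3 : (X (γ w + -(δ w)) : Matrix ι ι F) = ((c * e)⁻¹ * (d * f * s)) • 1 := by
    rw [← smul_smul, ← h2, smul_smul, inv_mul_cancel₀ (mul_ne_zero hc0 he0), one_smul]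
  have h4 := h.X_scalar h3
  exact add_neg_eq_zero.1 h4

theorem eq_smul_X_of_acts_one [Nonempty ι] (h : Frame ψ b X) {g : GL ι F} (hg : Acts X g (1 : V ≃ₗ[ZMod r] V)) :
    ∃ (u : V) (c : F), c ≠ 0 ∧ (g : Matrix ι ι F) = c • (X u : Matrix ι ι F) := by
  obtain ⟨u, c, hc⟩ := h.eq_smul_X_of_comm (g := g) (by
    intro w
    obtain ⟨c, hc0, hc⟩ := hg w
    refine ⟨c⁻¹, ?_⟩
    rw [cj_comm_of, hc, smul_smul, inv_mul_cancel₀ hc0, one_smul]
    rfl)
  refine ⟨u, c, ?_, hc⟩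
  rintro rfl
  rw [zero_smul] at hc
  exact g.ne_zero hc

theorem exists_acts_tv [Nonempty ι] (h : Frame ψ b X) (hn : Normed r X) (v : V) :
    ∃ t : GL ι F, Acts X t (tv b h.alt v 1) := by
  obtain ⟨t, ht⟩ := h.exists_t hn v
  refine ⟨t, fun w => ?_⟩
  obtain ⟨c, hc0, hc⟩ := ht w
  refine ⟨c, hc0, ?_⟩
  rw [hc, tv_apply, one_mul]

theorem exists_acts [Nonempty ι] (h : Frame ψ b X) (hn : Normed r X) {γ : V ≃ₗ[ZMod r] V} (hγ : γ ∈ TG b h.alt) :
    ∃ t : GL ι F, Acts X t γ := by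
  induction hγ using Subgroup.closure_induction with
  | mem x hx =>
    obtain ⟨v, rfl⟩ := hx
    exact h.exists_acts_tv hn v
  | one => exact ⟨1, acts_one⟩
  | mul x y _ _ hx hy =>
    obtain ⟨s, hs⟩ := hx
    obtain ⟨t, ht⟩ := hy
    exact ⟨s * t, hs.mul ht⟩
  | inv x _ hx =>
    obtain ⟨s, hs⟩ := hx
    exact ⟨s⁻¹, hs.inv⟩

end Frame

/-- The full lift of the transvection group. -/
def NT (h : Frame ψ b X) : Subgroup (GL ι F) where
  carrier := {g | ∃ γ ∈ TG b h.alt, Acts X g γ}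
  mul_mem' := by
    rintro a c ⟨γ, hγ, ha⟩ ⟨δ, hδ, hc⟩
    exact ⟨γ * δ, mul_mem hγ hδ, ha.mul hc⟩
  one_mem' := ⟨1, one_mem _, acts_one⟩
  inv_mem' := by
    rintro a ⟨γ, hγ, ha⟩
    exact ⟨γ⁻¹, inv_mem hγ, ha.inv⟩

/-- The derived group of the full lift. -/
def NT1 (h : Frame ψ b X) : Subgroup (GL ι F) := ⁅NT h, NT h⁆

section

variable (h : Frame ψ b X)

theorem mem_NT {g : GL ι F} : g ∈ NT h ↔ ∃ γ ∈ TG b h.alt, Acts X g γ := Iff.rfl

theorem NT1_le : NT1 h ≤ NT h := Subgroup.commutator_le.2 fun x hx y hy => by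
  rw [commutatorElement_def]
  exact mul_mem (mul_mem (mul_mem hx hy) (inv_mem hx)) (inv_mem hy)

theorem scalars_le_NT : scalars ι F ≤ NT h := fun g hg => ⟨1, one_mem _, acts_of_scalar hg⟩

theorem X_mem_NT (v : V) : X v ∈ NT h := ⟨1, one_mem _, h.acts_X v⟩

theorem NT1_le_SL : NT1 h ≤ specialLinear ι F := Subgroup.commutator_le.2 fun x _ y _ => by
  rw [specialLinear, MonoidHom.mem_ker, map_commutatorElement, commutatorElement_eq_one_iff_mul_comm, mul_comm]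

theorem exists_NT1_acts [Nonempty ι] (hn : Normed r X) (hperf : commutator (TG b h.alt) = ⊤)
    {γ : V ≃ₗ[ZMod r] V} (hγ : γ ∈ TG b h.alt) : ∃ g ∈ NT1 h, Acts X g γ := by
  have h1 : γ ∈ ⁅TG b h.alt, TG b h.alt⁆ := by
    have h2 : (⟨γ, hγ⟩ : TG b h.alt) ∈ commutator (TG b h.alt) := by rw [hperf]; exact Subgroup.mem_top _
    have h3 := Subgroup.mem_map_of_mem (TG b h.alt).subtype h2
    rw [commutator_def, Subgroup.map_commutator] at h3
    simpa [← MonoidHom.range_eq_map] using h3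
  rw [Subgroup.commutator_def] at h1
  induction h1 using Subgroup.closure_induction with
  | mem x hx =>
    obtain ⟨α, hα, β, hβ, rfl⟩ := hx
    obtain ⟨s, hs⟩ := h.exists_acts hn hα
    obtain ⟨t, ht⟩ := h.exists_acts hn hβ
    have h3 : s ∈ NT h := ⟨α, hα, hs⟩
    have h4 : t ∈ NT h := ⟨β, hβ, ht⟩
    have h5 := Subgroup.commutator_mem_commutator h3 h4
    rw [commutatorElement_def] at h5
    refine ⟨s * t * s⁻¹ * t⁻¹, h5, ?_⟩
    rw [commutatorElement_def]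
    exact ((hs.mul ht).mul hs.inv).mul ht.inv
  | one => exact ⟨1, one_mem _, acts_one⟩
  | mul x y _ _ hx hy =>
    obtain ⟨s, hs, hs'⟩ := hx (by
      rename_i hx' _
      have : TG b h.alt ≥ ⁅TG b h.alt, TG b h.alt⁆ := Subgroup.commutator_le_self _
      exact this hx')
    obtain ⟨t, ht, ht'⟩ := hy (by
      rename_i _ hy'
      have : TG b h.alt ≥ ⁅TG b h.alt, TG b h.alt⁆ := Subgroup.commutator_le_self _
      exact this hy')
    exact ⟨s * t, mul_mem hs ht, hs'.mul ht'⟩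
  | inv x _ hx =>
    obtain ⟨s, hs, hs'⟩ := hx (by
      rename_i hx'
      have : TG b h.alt ≥ ⁅TG b h.alt, TG b h.alt⁆ := Subgroup.commutator_le_self _
      exact this hx')
    exact ⟨s⁻¹, inv_mem hs, hs'.inv⟩

end

end Cfsg.Agent.H878
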