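import Cfsg.Agent.H878.NT
import Cfsg.Agent.H917.LinSplit

/-!
# The group lifting the transvection group of a Heisenberg frame, II (helper878)
-/

set_option autoImplicit false
set_option linter.unusedSimpArgs false
set_option linter.unusedSectionVars false

namespace Cfsg.Agent.H878

open Cfsg Cfsg.Geo Matrix
open scoped MatrixGroups

variable {ι : Type} [Fintype ι] [DecidableEq ι] {F : Type*} [Field F]
  {r : ℕ} [hr : Fact r.Prime] {V : Type*} [AddCommGroup V] [Module (ZMod r) V] [Finite V]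
  {ψ : AddChar (ZMod r) F} {b : V →ₗ[ZMod r] V →ₗ[ZMod r] ZMod r} {X : V → GL ι F}

namespace Frame

theorem mul_ne [Nonempty ι] (h : Frame ψ b X) (v w : V) :
    ∃ c : F, c ≠ 0 ∧ (X v : Matrix ι ι F) * (X w : Matrix ι ι F) = c • (X (v + w) : Matrix ι ι F) := by
  obtain ⟨c, hc⟩ := h.mul v w
  refine ⟨c, ?_, hc⟩
  rintro rfl
  rw [zero_smul] at hc
  have h1 : (X v * X w : GL ι F).1 = 0 := hc
  exact (X v * X w).ne_zero h1

theorem X_zero [Nonempty ι] (h : Frame ψ b X) : ∃ c : F, c ≠ 0 ∧ (X 0 : Matrix ι ι F) = c • 1 := by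
  obtain ⟨s, hs⟩ := h.central (X 0 : Matrix ι ι F) (fun v => by
    have := h.comm v 0
    rw [map_zero, AddChar.map_zero_eq_one, one_smul] at this
    exact this)
  refine ⟨s, ?_, hs⟩
  rintro rfl
  rw [zero_smul] at hs
  exact (X 0).ne_zero hs

theorem X_inv [Nonempty ι] (h : Frame ψ b X) (v : V) :
    ∃ c : F, c ≠ 0 ∧ ((X v)⁻¹ : GL ι F).1 = c • (X (-v) : Matrix ι ι F) := by
  obtain ⟨c, hc0, hc⟩ := h.mul_ne v (-v)
  obtain ⟨d, hd0, hd⟩ := h.X_zero
  rw [add_neg_cancel, hd, smul_smul] at hc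
  refine ⟨(c * d)⁻¹, inv_ne_zero (mul_ne_zero hc0 hd0), ?_⟩
  have h1 := congrArg (fun N => ((X v)⁻¹ : GL ι F).1 * N) hc
  simp only [Matrix.mul_smul, mul_one, ← mul_assoc] at h1
  rw [← Units.val_mul, inv_mul_cancel, Units.val_one, one_mul] at h1
  rw [h1, smul_smul, inv_mul_cancel₀ (mul_ne_zero hc0 hd0), one_smul]

end Frame

variable (h : Frame ψ b X)

/-- There is a vector whose image under some element of `TG` differs from it by a given vector. -/
theorem exists_diff (h : Frame ψ b X) (v : V) : ∃ γ ∈ TG b h.alt, ∃ w : V, w - γ w = v := by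
  classical
  by_cases hv : v = 0
  · exact ⟨1, one_mem _, 0, by simp [hv]⟩
  obtain ⟨w, hw⟩ : ∃ w, b v w ≠ 0 := by
    by_contra hcon
    push Not at hcon
    exact hv (h.nondeg v hcon)
  have hw0 : w ≠ 0 := by
    rintro rfl
    exact hw (by simp)
  have hw1 : w - v ≠ 0 := by
    intro h1
    rw [sub_eq_zero.1 h1, h.alt] at hw
    exact hw rfl
  obtain ⟨γ, hγ, hγ'⟩ := TG_transitive b h.alt h.nondeg hw0 hw1
  exact ⟨γ, hγ, w, by rw [hγ']; abel⟩

theorem X_mem_NT1 [Nonempty ι] (hn : Normed r X) (v : V) :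
    ∃ g ∈ NT1 h, ∃ c : F, c ≠ 0 ∧ (g : Matrix ι ι F) = c • (X v : Matrix ι ι F) := by
  obtain ⟨γ, hγ, w, hw⟩ := exists_diff h v
  obtain ⟨t, ht⟩ := h.exists_acts hn hγ
  have h1 : X w ∈ NT h := X_mem_NT h w
  have h2 : t ∈ NT h := ⟨γ, hγ, ht⟩
  have h3 := Subgroup.commutator_mem_commutator h1 h2
  rw [commutatorElement_def] at h3
  obtain ⟨c, hc0, hc⟩ := acts_iff.1 ht (-w)
  obtain ⟨d, hd0, hd⟩ := h.X_inv w
  obtain ⟨e, he0, he⟩ := h.mul_ne w (γ (-w))
  refine ⟨_, h3, d * c * e, mul_ne_zero (mul_ne_zero hd0 hc0) he0, ?_⟩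
  have h4 : X w * t * (X w)⁻¹ * t⁻¹ = X w * (t * (X w)⁻¹ * t⁻¹) := by group
  have h5 : w + γ (-w) = v := by rw [map_neg, ← sub_eq_add_neg, hw]
  rw [h4, Units.val_mul, Units.val_mul, Units.val_mul, hd, Matrix.mul_smul, Matrix.smul_mul, hc, smul_smul,
    Matrix.mul_smul, he, smul_smul, h5]

/-- Every element of `NT` is a scalar multiple of an element of `NT1`. -/
theorem exists_NT1_smul [Nonempty ι] (hn : Normed r X) (hperf : commutator (TG b h.alt) = ⊤) {g : GL ι F}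
    (hg : g ∈ NT h) : ∃ x ∈ NT1 h, ∃ z ∈ scalars ι F, g = z * x := by
  obtain ⟨γ, hγ, hgγ⟩ := hg
  obtain ⟨y, hy, hyγ⟩ := exists_NT1_acts h hn hperf hγ
  have h1 : Acts X (g * y⁻¹) (1 : V ≃ₗ[ZMod r] V) := by
    have := hgγ.mul hyγ.inv
    rwa [mul_inv_cancel] at this
  obtain ⟨u, c, hc0, hc⟩ := h.eq_smul_X_of_acts_one h1
  obtain ⟨x, hx, d, hd0, hd⟩ := X_mem_NT1 h hn u
  have h2 : g * y⁻¹ * x⁻¹ ∈ scalars ι F := by
    apply H920.mem_scalars_of_val (c := c * d⁻¹)
    have h3 : (X u : Matrix ι ι F) = d⁻¹ • (x : Matrix ι ι F) := by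
      rw [hd, smul_smul, inv_mul_cancel₀ hd0, one_smul]
    rw [Units.val_mul, hc, h3, smul_smul, Matrix.smul_mul, ← Units.val_mul, mul_inv_cancel, Units.val_one]
  refine ⟨x * y, mul_mem hx hy, _, h2, ?_⟩
  group

theorem NT1_perfect [Nonempty ι] (hn : Normed r X) (hperf : commutator (TG b h.alt) = ⊤) :
    ⁅NT1 h, NT1 h⁆ = NT1 h := by
  apply le_antisymm (Subgroup.commutator_le_self _)
  change ⁅NT h, NT h⁆ ≤ _
  rw [Subgroup.commutator_le]
  intro g₁ h₁ g₂ h₂
  obtain ⟨x, hx, z, hz, rfl⟩ := exists_NT1_smul h hn hperf h₁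
  obtain ⟨y, hy, w, hw, rfl⟩ := exists_NT1_smul h hn hperf h₂
  have key : z * x * (w * y) * (z * x)⁻¹ * (w * y)⁻¹ = x * y * x⁻¹ * y⁻¹ := by
    have e1 := H920.scalars_comm hz
    have e2 := H920.scalars_comm hw
    have e3 := H920.scalars_comm (inv_mem hz)
    have e4 := H920.scalars_comm (inv_mem hw)
    rw [_root_.mul_inv_rev, _root_.mul_inv_rev, ← e3, ← e4]
    calc z * x * (w * y) * (z⁻¹ * x⁻¹) * (w⁻¹ * y⁻¹)
        = z * (x * w) * y * (z⁻¹ * x⁻¹) * w⁻¹ * y⁻¹ := by simp only [mul_assoc]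
      _ = z * (w * x) * y * (z⁻¹ * x⁻¹) * w⁻¹ * y⁻¹ := by rw [e2 x]
      _ = w * (z * x * y * z⁻¹) * x⁻¹ * w⁻¹ * y⁻¹ := by rw [← mul_assoc z, e1 w]; simp only [mul_assoc]
      _ = w * (x * y) * x⁻¹ * w⁻¹ * y⁻¹ := by
          rw [show z * x * y * z⁻¹ = z * (x * y) * z⁻¹ by simp only [mul_assoc], e1 (x * y), mul_inv_cancel_right]
      _ = w * (x * y * x⁻¹) * w⁻¹ * y⁻¹ := by simp only [mul_assoc]
      _ = (x * y * x⁻¹) * y⁻¹ := by rw [e2, mul_assoc _ w, mul_inv_cancel, mul_one]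
  rw [commutatorElement_def, key, ← commutatorElement_def]
  exact Subgroup.commutator_mem_commutator hx hy

/-- Transitivity. -/
theorem exists_NT1_map [Nonempty ι] (hn : Normed r X) (hperf : commutator (TG b h.alt) = ⊤) {v w : V}
    (hv : v ≠ 0) (hw : w ≠ 0) : ∃ g ∈ NT1 h, ∃ γ : V ≃ₗ[ZMod r] V, Acts X g γ ∧ γ v = w := by
  obtain ⟨γ, hγ, hγ'⟩ := TG_transitive b h.alt h.nondeg hv hw
  obtain ⟨g, hg, hg'⟩ := exists_NT1_acts h hn hperf hγ
  exact ⟨g, hg, γ, hg', hγ'⟩

/-- A subspace of matrices invariant under conjugation by `NT1` which does not consist of scalars contains all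
the `X u`, `u ≠ 0`. -/
theorem X_mem_of_invariant [Nonempty ι] (hn : Normed r X) (hperf : commutator (TG b h.alt) = ⊤)
    {T : Submodule F (Matrix ι ι F)}
    (hT : ∀ g ∈ NT1 h, ∀ M ∈ T, (g : Matrix ι ι F) * M * ((g⁻¹ : GL ι F) : Matrix ι ι F) ∈ T)
    {M : Matrix ι ι F} (hM : M ∈ T) (hns : ∀ c : F, M ≠ c • 1) {u : V} (hu : u ≠ 0) :
    (X u : Matrix ι ι F) ∈ T := by
  obtain ⟨v, hv, hvT⟩ := h.exists_X_mem (T := T) (by
    intro w M hM
    obtain ⟨g, hg, c, hc0, hc⟩ := X_mem_NT1 h hn w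
    have h1 := hT g hg M hM
    have h2 : ((g⁻¹ : GL ι F) : Matrix ι ι F) = c⁻¹ • ((X w)⁻¹ : GL ι F).1 := by
      have e1 : (g : Matrix ι ι F) * (c⁻¹ • ((X w)⁻¹ : GL ι F).1) = 1 := by
        rw [hc, Matrix.smul_mul, Matrix.mul_smul, ← Units.val_mul, mul_inv_cancel, Units.val_one, smul_smul,
          mul_inv_cancel₀ hc0, one_smul]
      have e2 := congrArg (fun N => ((g⁻¹ : GL ι F) : Matrix ι ι F) * N) e1
      simp only [← mul_assoc, mul_one] at e2
      rw [← Units.val_mul, inv_mul_cancel, Units.val_one, one_mul] at e2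
      exact e2.symm
    rw [h2, hc, Matrix.smul_mul, Matrix.smul_mul, Matrix.mul_smul, smul_smul, mul_inv_cancel₀ hc0, one_smul] at h1
    exact h1) hM hns
  obtain ⟨g, hg, γ, hγ, hγu⟩ := exists_NT1_map h hn hperf hv hu
  obtain ⟨c, hc0, hc⟩ := acts_iff.1 hγ v
  have h1 := hT g hg _ hvT
  rw [hc, hγu] at h1
  have h2 := T.smul_mem c⁻¹ h1
  rwa [smul_smul, inv_mul_cancel₀ hc0, one_smul] at h2

include h in
/-- A set of matrices containing multiples of all the `X v` is absolutely irreducible. -/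
theorem absIrr_of_X [Nonempty ι] {S : Set (Matrix ι ι F)}
    (hS : ∀ v : V, ∃ s ∈ S, ∃ c : F, c ≠ 0 ∧ s = c • (X v : Matrix ι ι F)) : ActsAbsolutelyIrreducibly S := by
  constructor
  · intro W hW
    apply h.irr W
    rintro _ ⟨v, rfl⟩
    obtain ⟨s, hs, c, hc0, hc⟩ := hS v
    have h1 := hW s hs
    rw [Submodule.map_le_iff_le_comap] at h1 ⊢
    intro x hx
    have h2 := h1 hx
    rw [Submodule.mem_comap, Matrix.toLin'_apply, hc, Matrix.smul_mulVec] at h2
    rw [Submodule.mem_comap, Matrix.toLin'_apply]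
    have h3 := W.smul_mem c⁻¹ h2
    rwa [smul_smul, inv_mul_cancel₀ hc0, one_smul] at h3
  · intro M hM
    apply h.central
    intro v
    obtain ⟨s, hs, c, hc0, hc⟩ := hS v
    have h1 := hM s hs
    rw [hc, Matrix.mul_smul, Matrix.smul_mul] at h1
    exact (smul_right_injective _ hc0 h1).symm

/-- Normal subgroups of an overgroup of `NT1` are scalar or absolutely irreducible. -/
theorem span_of_normal [Nonempty ι] (hn : Normed r X) (hperf : commutator (TG b h.alt) = ⊤)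
    {K N : Subgroup (GL ι F)} (hK : NT1 h ≤ K) (hNn : ∀ g ∈ K, ∀ x ∈ N, g * x * g⁻¹ ∈ N) :
    N ≤ scalars ι F ∨ ActsAbsolutelyIrreducibly (matrixSet N) := by
  classical
  by_cases hsc : ∀ x ∈ N, ∃ c : F, (x : Matrix ι ι F) = c • (1 : Matrix ι ι F)
  · left
    intro x hx
    obtain ⟨c, hc⟩ := hsc x hx
    exact H920.mem_scalars_of_val hc
  · right
    push Not at hsc
    obtain ⟨x, hx, hx'⟩ := hsc
    apply H917.absIrr_of_env
    set A := H912.env N with hA
    have hinv : ∀ g ∈ NT1 h, ∀ M ∈ Subalgebra.toSubmodule A,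
        (g : Matrix ι ι F) * M * ((g⁻¹ : GL ι F) : Matrix ι ι F) ∈ Subalgebra.toSubmodule A := by
      intro g hg M hM
      rw [Subalgebra.mem_toSubmodule] at hM ⊢
      rw [hA, H912.env] at hM
      induction hM using Algebra.adjoin_induction with
      | mem y hy =>
        obtain ⟨y, hy, rfl⟩ := hy
        have := H912.mem_env (hNn g (hK hg) y hy)
        simpa [Units.val_mul] using this
      | algebraMap c =>
        rw [Algebra.algebraMap_eq_smul_one, Matrix.mul_smul, Matrix.smul_mul, mul_one, ← Units.val_mul,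
          mul_inv_cancel, Units.val_one]
        exact A.smul_mem (one_mem _) c
      | add a c _ _ ha hc =>
        rw [mul_add, add_mul]
        exact A.add_mem ha hc
      | mul a c _ _ ha hc =>
        have : (g : Matrix ι ι F) * (a * c) * ((g⁻¹ : GL ι F) : Matrix ι ι F) =
            ((g : Matrix ι ι F) * a * ((g⁻¹ : GL ι F) : Matrix ι ι F)) *
            ((g : Matrix ι ι F) * c * ((g⁻¹ : GL ι F) : Matrix ι ι F)) := by
          calc _ = (g : Matrix ι ι F) * a * (((g⁻¹ : GL ι F) : Matrix ι ι F) * (g : Matrix ι ι F)) * c *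
                ((g⁻¹ : GL ι F) : Matrix ι ι F) := by
                rw [← Units.val_mul g⁻¹, inv_mul_cancel, Units.val_one, mul_one]; simp only [mul_assoc]
            _ = _ := by simp only [mul_assoc]
        rw [this]
        exact A.mul_mem ha hc
    have hall : ∀ u : V, (X u : Matrix ι ι F) ∈ A := by
      intro u
      by_cases hu : u = 0
      · subst hu
        obtain ⟨c, hc0, hc⟩ := h.X_zero
        rw [hc]
        exact A.smul_mem (one_mem _) c
      · exact X_mem_of_invariant h hn hperf hinv (M := (x : Matrix ι ι F))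
          ((Subalgebra.mem_toSubmodule A).2 (H912.mem_env hx)) hx' hu
    rw [eq_top_iff]
    intro M _
    have h1 := h.mem_span M
    have h2 : Submodule.span F (Set.range fun v => (X v : Matrix ι ι F)) ≤ Subalgebra.toSubmodule A := by
      rw [Submodule.span_le]
      rintro _ ⟨v, rfl⟩
      exact hall v
    exact h2 h1

end Cfsg.Agent.H878
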