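import Cfsg.Agent.H878.SCtx

/-!
# A further factor `r` in the order of the transvection group in dimension at least 4 (helper878)
-/

set_option autoImplicit false
set_option linter.unusedSimpArgs false
set_option linter.unusedSectionVars false

namespace Cfsg.Agent.H878

variable {r : ℕ} [hr : Fact r.Prime] {V : Type*} [AddCommGroup V] [Module (ZMod r) V] [Finite V]
  (b : V →ₗ[ZMod r] V →ₗ[ZMod r] ZMod r) (hb : ∀ v, b v v = 0)

theorem exists_perp_ne {x y : V} (h : 4 ≤ Module.finrank (ZMod r) V) :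
    ∃ z, b x z = 0 ∧ b y z = 0 ∧ z ≠ 0 := by
  have h1 := finrank_ker_functional (b x)
  have h1' := finrank_ker_functional (b y)
  have h3 := Submodule.finrank_sup_add_finrank_inf_eq (LinearMap.ker (b x)) (LinearMap.ker (b y))
  have h4 := Submodule.finrank_le (LinearMap.ker (b x) ⊔ LinearMap.ker (b y))
  have h5 : Module.finrank (ZMod r) (⊥ : Submodule (ZMod r) V) = 0 := finrank_bot _ _
  obtain ⟨z, hz, hz'⟩ := exists_notMem_of_finrank_lt (W := LinearMap.ker (b x) ⊓ LinearMap.ker (b y))
    (W' := (⊥ : Submodule (ZMod r) V)) (by omega)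
  exact ⟨z, hz.1, hz.2, fun h => hz' (by rw [h]; exact Submodule.zero_mem _)⟩

theorem card_hpair_mul_dvd (hnd : ∀ v, (∀ w, b v w = 0) → v = 0) (h4 : 4 ≤ Module.finrank (ZMod r) V) :
    Nat.card (HPair b) * r ∣ Nat.card (TG b hb) := by
  classical
  have hV : Nontrivial V := Module.nontrivial_of_finrank_pos (R := ZMod r) (by omega)
  let act : MulAction (TG b hb) (HPair b) :=
    { smul := fun g p => ⟨((g : V ≃ₗ[ZMod r] V) p.1.1, (g : V ≃ₗ[ZMod r] V) p.1.2), by
        rw [b_TG b hb g.2]; exact p.2⟩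
      one_smul := fun p => rfl
      mul_smul := fun g h p => rfl }
  obtain ⟨x, hx⟩ := exists_ne (0 : V)
  obtain ⟨z, hz⟩ : ∃ z, b x z ≠ 0 := by
    by_contra h; push Not at h; exact hx (hnd x h)
  have h1 : b x ((b x z)⁻¹ • z) = 1 := by rw [map_smul, smul_eq_mul, inv_mul_cancel₀ hz]
  let p : HPair b := ⟨(x, (b x z)⁻¹ • z), h1⟩
  have horb : MulAction.orbit (TG b hb) p = Set.univ := by
    rw [Set.eq_univ_iff_forall]
    intro q
    obtain ⟨g, hg, e1, e2⟩ := TG_transitive_pair b hb hnd p.2 q.2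
    exact ⟨⟨g, hg⟩, Subtype.ext (Prod.ext e1 e2)⟩
  have h2 := MulAction.index_stabilizer (TG b hb) p
  rw [horb, Set.ncard_univ] at h2
  rw [← h2]
  -- the stabiliser contains a transvection
  obtain ⟨u, hu1, hu2, hu0⟩ := exists_perp_ne b (x := x) (y := (b x z)⁻¹ • z) h4
  have hmem : (⟨tv b hb u 1, tv_mem b hb u 1⟩ : TG b hb) ∈ MulAction.stabilizer (TG b hb) p := by
    rw [MulAction.mem_stabilizer_iff]
    apply Subtype.ext
    apply Prod.ext
    · change tv b hb u 1 x = x
      rw [tv_apply, hu1, mul_zero, zero_smul, add_zero]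
    · change tv b hb u 1 ((b x z)⁻¹ • z) = (b x z)⁻¹ • z
      rw [tv_apply, hu2, mul_zero, zero_smul, add_zero]
  have hord : orderOf (⟨⟨tv b hb u 1, tv_mem b hb u 1⟩, hmem⟩ : MulAction.stabilizer (TG b hb) p) = r := by
    rw [← Subgroup.orderOf_coe, ← Subgroup.orderOf_coe]
    change orderOf (tv b hb u 1) = r
    rw [orderOf_eq_prime_iff]
    constructor
    · rw [tv_pow, CharP.cast_eq_zero, zero_mul, tv_zero]
    · intro h
      obtain ⟨w, hw⟩ : ∃ w, b w u ≠ 0 := by
        by_contra hcon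
        push Not at hcon
        apply hu0
        apply hnd
        intro w
        rw [b_skew b hb, hcon, neg_zero]
      have h5 : tv b hb u 1 w = w := by rw [h]; rfl
      rw [tv_apply, one_mul] at h5
      have h6 : b w u • u = 0 := by
        have := congrArg (fun y => y - w) h5
        simpa using this
      rcases smul_eq_zero.1 h6 with h7 | h7
      · exact hw h7
      · exact hu0 h7
  have h5 : r ∣ Nat.card (MulAction.stabilizer (TG b hb) p) :=
    (dvd_of_eq hord.symm).trans (orderOf_dvd_natCard _)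
  have h6 := (MulAction.stabilizer (TG b hb) p).index_mul_card
  rw [← h6]
  exact Nat.mul_dvd_mul_left _ h5

/-- The order of `S`, dimension at least 4. -/
theorem SCtx.dvd_card_four {b : V →ₗ[ZMod r] V →ₗ[ZMod r] ZMod r} {hb : ∀ v, b v v = 0} {S : Type*} [Group S]
    {ε : Multiplicative V →* S} [Finite S] (h : SCtx b hb ε) (h4 : 4 ≤ Module.finrank (ZMod r) V) :
    (r ^ Module.finrank (ZMod r) V - 1) * r ^ (2 * Module.finrank (ZMod r) V) ∣ Nat.card S := by
  have hV : Nontrivial V := Module.nontrivial_of_finrank_pos (R := ZMod r) (by omega)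
  have h1 := h.card_TG_mul_dvd
  have h2 := card_hpair_mul_dvd b hb h.nondeg h4
  have h3 := card_hpair b h.nondeg
  have hV : Nat.card V = r ^ Module.finrank (ZMod r) V := by
    rw [Module.natCard_eq_pow_finrank (K := ZMod r), Nat.card_zmod]
  refine dvd_trans (dvd_of_eq ?_) ((Nat.mul_dvd_mul_right h2 _).trans h1)
  rw [h3, hV, two_mul, pow_add]
  ring

end Cfsg.Agent.H878
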