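import Cfsg.Agent.H878.SData
import Cfsg.Agent.H878.AdRep
import Cfsg.Agent.H878.KerKnown
import Cfsg.Agent.H878.TransRank
import Cfsg.Agent.H878.TransRank2
import Cfsg.Agent.H878.Nums
import Cfsg.Agent.H917.NatRep
import Cfsg.Agent.H912.BdSL
import Cfsg.Agent.H175.BdSU
import Cfsg.Agent.H7.ESixRep

/-!
# The known simple groups which can be the simple quotient of the core, `r` odd (helper878)
-/

set_option autoImplicit false

namespace Cfsg.Agent.H878

open Cfsg Cfsg.Geo Matrix
open scoped MatrixGroups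

universe u

variable {ι : Type} [Fintype ι] [DecidableEq ι] {F : Type u} [Field F]
  {r : ℕ} [hr : Fact r.Prime] {V : Type*} [AddCommGroup V] [Module (ZMod r) V] [Finite V]
  {ψ : AddChar (ZMod r) F} {b : V →ₗ[ZMod r] V →ₗ[ZMod r] ZMod r} {X : V → GL ι F}

/-- The projective representation of helper912's theory. -/
theorem pr_of [Finite F] {n : ℕ} (hcard : Fintype.card ι = n) {P : Subgroup (GL ι F)}
    (hker : IsPGroup r ((scalars ι F).subgroupOf P)) {s : ℕ} (hs : s.Prime) (hsr : s ≠ r) :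
    H912.Bd.PR F n s (SQ P) := by
  have hP : Finite P := inferInstance
  refine ⟨P, inferInstance, QuotientGroup.mk' _, (H7.ESixRep.reind hcard F).toMonoidHom.comp P.subtype,
    QuotientGroup.mk'_surjective _, ?_, ?_, ?_⟩
  · intro x hx y
    rw [QuotientGroup.mk'_apply, QuotientGroup.eq_one_iff, Subgroup.mem_subgroupOf] at hx
    exact Subtype.ext (H920.scalars_comm hx y)
  · rw [QuotientGroup.ker_mk']
    obtain ⟨j, hj⟩ := (IsPGroup.iff_card).1 hker
    rw [hj]
    exact Nat.Coprime.pow_left _ ((Nat.coprime_primes hr.out hs).2 (Ne.symm hsr))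
  · intro x hx
    have h1 : (H7.ESixRep.reind hcard F) (x : GL ι F) = 1 := hx
    rw [MulEquiv.map_eq_one_iff] at h1
    have h2 : x = 1 := Subtype.ext h1
    rw [h2]
    exact one_mem _

theorem five_le_cases {k : ℕ} (hodd : Odd r) (h5 : 5 ≤ r ^ k) : 1 ≤ k ∧ (5 ≤ r ∨ (r = 3 ∧ 2 ≤ k)) := by
  have hr2 := hr.out.two_le
  have hk : 1 ≤ k := by
    rcases Nat.eq_zero_or_pos k with rfl | h
    · rw [pow_zero] at h5; omega
    · exact h
  refine ⟨hk, ?_⟩
  by_cases h : 5 ≤ r
  · exact Or.inl h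
  · right
    have h3 : r = 3 := by
      obtain ⟨j, hj⟩ := hodd
      have : r ≠ 1 := hr.out.one_lt.ne'
      omega
    refine ⟨h3, ?_⟩
    by_contra hk2
    have : k = 1 := by omega
    rw [this, pow_one] at h5
    omega

omit hr in
/-- An extension with an element of order `r` in the kernel. -/
theorem not_away {P : Subgroup (GL ι F)} [Finite F] (hPP : ⁅P, P⁆ = P)
    (hx : ∃ x : P, x ∈ (scalars ι F).subgroupOf P ∧ orderOf x = r) : ¬ Away.{u} r (SQ P) := by
  rintro ⟨m, hm, hrm⟩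
  obtain ⟨x, hx, hxo⟩ := hx
  apply hrm
  rw [← hxo]
  apply orderOf_dvd_of_pow_eq_one
  have hcomm : commutator P = ⊤ := by
    rw [eq_top_iff]
    have h1 : (commutator P).map P.subtype = P := by
      rw [commutator_def, Subgroup.map_commutator, ← MonoidHom.range_eq_map, Subgroup.range_subtype, hPP]
    intro y _
    have h2 : (y : GL ι F) ∈ (commutator P).map P.subtype := by rw [h1]; exact y.2
    obtain ⟨z, hz, hzy⟩ := h2
    have : z = y := Subtype.ext hzy
    rw [← this]; exact hz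
  refine hm P (QuotientGroup.mk' _) (QuotientGroup.mk'_surjective _) ?_ hcomm x ?_
  · rw [QuotientGroup.ker_mk']
    intro y hy
    rw [Subgroup.mem_center_iff]
    intro g
    rw [Subgroup.mem_subgroupOf] at hy
    exact (Subtype.ext (H920.scalars_comm hy g)).symm
  · rw [QuotientGroup.ker_mk']; exact hx

/-- The outcome. -/
def OddOut (r n p : ℕ) (T : Type*) [Group T] : Prop :=
  (∃ (K : Type) (_ : Field K) (_ : Fintype K) (d : ℕ), CharP K p ∧ n ≤ d ∧ r ∣ Fintype.card K - 1 ∧
      Nonempty (T ≃* Matrix.ProjectiveSpecialLinearGroup (Fin d) K)) ∨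
    (∃ (K : Type) (_ : Field K) (_ : Fintype K) (d q : ℕ), Fintype.card K = q ^ 2 ∧ CharP K p ∧ n ≤ d ∧
      r ∣ q + 1 ∧ Nonempty (T ≃* PSU d K q)) ∨
    (r = 3 ∧ ∃ (K : Type) (_ : Field K) (_ : Fintype K), Fintype.card K = 3 ∧
      Nonempty (T ≃* POmega K (quadFormOdd 3 K))) ∨
    (r = 3 ∧ Spor.IsoFi22 T) ∨ (r = 3 ∧ Spor.IsoFi24' T)

theorem cast_ne_zero_of_dvd_sub {K : Type} [Field K] [Fintype K] (h : r ∣ Fintype.card K - 1) : (r : K) ≠ 0 := by
  intro h0
  have h1 : ringChar K ∣ r := (ringChar.spec K r).1 h0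
  have h2 : (ringChar K).Prime := CharP.char_is_prime K (ringChar K)
  have h3 : ringChar K = r := (Nat.prime_dvd_prime_iff_eq h2 hr.out).1 h1
  have h4 : r ∣ Fintype.card K := by
    rw [← h3]
    exact (CharP.cast_eq_zero_iff K (ringChar K) _).1 (FiniteField.cast_card_eq_zero K)
  have h5 : 1 ≤ Fintype.card K := Fintype.card_pos
  have h6 : r ∣ Fintype.card K - (Fintype.card K - 1) := Nat.dvd_sub h4 h
  have h7 : Fintype.card K - (Fintype.card K - 1) = 1 := by omega
  rw [h7] at h6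
  exact hr.out.one_lt.ne' (Nat.dvd_one.1 h6)

theorem cast_ne_zero_of_dvd_add {K : Type} [Field K] [Fintype K] {q : ℕ} (hK : Fintype.card K = q ^ 2)
    (h : r ∣ q + 1) : (r : K) ≠ 0 := by
  apply cast_ne_zero_of_dvd_sub
  have h1 : 1 < Fintype.card K := Fintype.one_lt_card
  rw [hK] at h1 ⊢
  have h2 : q ^ 2 - 1 = (q + 1) * (q - 1) := by
    have := Nat.sq_sub_sq q 1
    rw [one_pow] at this
    exact this
  rw [h2]
  exact h.mul_right _

/-- **The candidates.** -/
theorem odd_cases [Finite F] [Nonempty ι] (hodd : Odd r) {k p : ℕ} (h5 : 5 ≤ r ^ k)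
    (hcard : Fintype.card ι = r ^ k) (hpF : CharP F p)
    (hk : Module.finrank (ZMod r) V = 2 * k) (h : Frame ψ b X) (hn : Normed r X) {P : Subgroup (GL ι F)}
    (hP : NT1 h ≤ P) (hPP : ⁅P, P⁆ = P) (hPS : P ≤ specialLinear ι F) (hT : IsKnownSimple' (SQ P))
    (hna : ¬ IsMulCommutative (SQ P)) : OddOut r (r ^ k) p (SQ P) := by
  classical
  have hfin : Finite (SQ P) := inferInstance
  obtain ⟨hk1, hcase⟩ := five_le_cases hodd h5
  have hV : Nontrivial V := Module.nontrivial_of_finrank_pos (R := ZMod r) (by omega)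
  have hgood : GoodRank b := goodRank_of_finrank b (by
    rcases hcase with h | ⟨h, h'⟩
    · exact Or.inl h
    · exact Or.inr (Or.inl ⟨h, by omega⟩))
  have hTG : commutator (TG b h.alt) = ⊤ := TG_perfect b h.alt h.nondeg hgood
  have S := sctx h hn hP hTG
  have hker : IsPGroup r ((scalars ι F).subgroupOf P) := ker_isPGroup hcard hPS
  have hmain := known_away.{u} hT hna hr.out hodd (by
    intro h3
    have hk2 : 2 ≤ k := by
      rcases hcase with h | h
      · omega
      · exact h.2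
    have h1 := S.dvd_card_four (by omega)
    refine dvd_trans ?_ (dvd_trans (Dvd.intro_left _ rfl) h1)
    rw [hk, h3]
    exact pow_dvd_pow 3 (by omega)) (by
    intro _
    have h1 := S.dvd_card
    refine dvd_trans ?_ (dvd_trans (Dvd.intro_left _ rfl) h1)
    rw [hk]
    exact pow_dvd_pow r (by omega))
  have hp0 : p.Prime := by
    have := hpF
    exact (CharP.char_is_prime_or_zero F p).resolve_right (by
      rintro rfl
      exact (CharP.char_ne_zero_of_finite F 0) rfl)
  have hsr : ∀ (K : Type) [Field K] [Fintype K] (s : ℕ), CharP K s → (r : K) ≠ 0 → s.Prime ∧ s ≠ r := by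
    intro K _ _ s hs h0
    refine ⟨CharP.char_is_prime K s, ?_⟩
    rintro rfl
    exact h0 (CharP.cast_eq_zero K s)
  have hchar : ∀ s : ℕ, s.Prime → ((s : F) = 0) → s = p := by
    intro s hs h0
    have := hpF
    exact ((Nat.prime_dvd_prime_iff_eq hp0 hs).1 ((CharP.cast_eq_zero_iff F p s).1 h0)).symm
  have hE6 : ∀ (K : Type) [Field K] [Fintype K], r = 3 → (r : K) ≠ 0 → ∀ ρ : SQ P →* GL (Fin 78) K,
      Function.Injective ρ → False := by
    intro K _ _ h3 h0 ρ hρ
    have h1 := S.card_le_of_rep h0 ρ (by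
      obtain ⟨v, hv⟩ := exists_ne (0 : V)
      refine ⟨v, fun h1 => hv ?_⟩
      have h2 := hρ (h1.trans (map_one ρ).symm)
      have h4 := S.inj (h2.trans (map_one _).symm)
      exact Multiplicative.ofAdd.injective h4)
    have hk2 : 2 ≤ k := by
      rcases hcase with h | h
      · omega
      · exact h.2
    rw [Module.natCard_eq_pow_finrank (K := ZMod r), Nat.card_zmod, hk, Fintype.card_fin, h3] at h1
    have h2 : 3 ^ 4 ≤ 3 ^ (2 * k) := Nat.pow_le_pow_right (by norm_num) (by omega)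
    have h4 : (3 : ℕ) ^ 4 = 81 := by norm_num
    omega
  rcases hmain with h1 | h1 | h1 | h1 | h1 | h1 | h1 | h1
  · exact absurd h1 (not_away hPP (exists_ker_order h hn hP))
  · obtain ⟨K, _, _, d, hd2, hrd, hrK, ⟨e⟩⟩ := h1
    left
    have h0 : (r : K) ≠ 0 := cast_ne_zero_of_dvd_sub hrK
    obtain ⟨θ, hθ⟩ := (H917.natRep_psl K d).congr e
    have hdn : r ^ k ≤ d := by
      have := natdim_le S h0 hk θ hθ
      rwa [Fintype.card_fin] at this
    have hsc : CharP K (ringChar K) := inferInstance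
    obtain ⟨hs, hsr'⟩ := hsr K (ringChar K) hsc h0
    have hsp : ringChar K = p := by
      apply hchar _ hs
      by_contra hne
      have hb := ((H912.Bd.bd_psl (F := F) (r := ringChar K) hs hne (show 3 ≤ d by omega) hsc).congr e) _
        (pr_of hcard hker hs hsr')
      have h2 : 2 ≤ Fintype.card K := Fintype.one_lt_card
      have h3 : 2 ^ (d - 1) ≤ Fintype.card K ^ (d - 1) := Nat.pow_le_pow_left h2 _
      have h4 := (two_pow_gt (show 5 ≤ d by omega)).1
      have h6 : 2 ^ (d - 1) = 2 ^ (d - 2) * 2 := by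
        rw [← pow_succ]; congr 1; omega
      omega
    rw [hsp] at hsc
    exact ⟨K, inferInstance, inferInstance, d, hsc, hdn, hrK, ⟨e⟩⟩
  · obtain ⟨K, _, _, d, q, hK, hd3, hrd, hrK, -, ⟨e⟩⟩ := h1
    right; left
    have h0 : (r : K) ≠ 0 := cast_ne_zero_of_dvd_add hK hrK
    obtain ⟨θ, hθ⟩ := (H917.natRep_psu hK hd3).congr e
    have hdn : r ^ k ≤ d := by
      have := natdim_le S h0 hk θ hθ
      rwa [Fintype.card_fin] at this
    have hsc : CharP K (ringChar K) := inferInstance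
    obtain ⟨hs, hsr'⟩ := hsr K (ringChar K) hsc h0
    have hsp : ringChar K = p := by
      apply hchar _ hs
      by_contra hne
      have hb := (H175.BdSU.bd_psu (F := F) hs hK hd3 hne e) _ (pr_of hcard hker hs hsr')
      have hq2 : 2 ≤ q := by
        have h2 : r ≤ q + 1 := Nat.le_of_dvd (by omega) hrK
        have h3 : 3 ≤ r := by
          obtain ⟨j, hj⟩ := hodd
          have : r ≠ 1 := hr.out.one_lt.ne'
          omega
        omega
      have h3 : 2 ^ (d - 2) ≤ q ^ (d - 2) := Nat.pow_le_pow_left hq2 _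
      have h4 := (two_pow_gt (show 5 ≤ d by omega)).2
      have h6 : 1 * q ^ (d - 2) ≤ (q - 1) * q ^ (d - 2) := Nat.mul_le_mul_right _ (by omega)
      omega
    rw [hsp] at hsc
    exact ⟨K, inferInstance, inferInstance, d, q, hK, hsc, hdn, hrK, ⟨e⟩⟩
  · exact Or.inr (Or.inr (Or.inl h1))
  · exfalso
    obtain ⟨h3, K, _, _, hK, ⟨e⟩⟩ := h1
    obtain ⟨ρ, hρ⟩ := H7.ESixRep.chev e
    have h0 : (r : K) ≠ 0 := cast_ne_zero_of_dvd_sub (by rw [h3]; exact hK)
    exact hE6 K h3 h0 ρ hρ
  · exfalso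
    obtain ⟨h3, K, _, _, q, -, hK, h3q, ⟨e⟩⟩ := h1
    obtain ⟨ρ, hρ⟩ := H7.ESixRep.twisted e
    have h0 : (r : K) ≠ 0 := cast_ne_zero_of_dvd_add hK (by rw [h3]; exact h3q)
    exact hE6 K h3 h0 ρ hρ
  · exact Or.inr (Or.inr (Or.inr (Or.inl h1)))
  · exact Or.inr (Or.inr (Or.inr (Or.inr h1)))

end Cfsg.Agent.H878
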