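import Cfsg.Agent.H878.OddMain
import Cfsg.Agent.S0292

/-!
# The exceptional candidates `Ω₇(3)`, `Fi₂₂`, `Fi₂₄'` for `r = 3`: orders (helper878)
-/

set_option autoImplicit false

namespace Cfsg.Agent.H878

open Cfsg Cfsg.Geo Matrix
open scoped MatrixGroups

universe u

theorem card_o73 {K : Type} [Field K] [Fintype K] (hK : Fintype.card K = 3) :
    Nat.card (POmega K (quadFormOdd 3 K)) = 4585351680 := by
  have h := S0292.result hK (by decide) 3 (by norm_num)
  norm_num [Finset.prod_range_succ] at h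
  omega

/-- `k ≤ 2` in the cases `Ω₇(3)`, `Fi₂₂`, `k ≤ 3` in the case `Fi₂₄'`. -/
theorem k_le {r : ℕ} [hr : Fact r.Prime] {V : Type*} [AddCommGroup V] [Module (ZMod r) V] [Finite V]
    {b : V →ₗ[ZMod r] V →ₗ[ZMod r] ZMod r} {hb : ∀ v, b v v = 0} {T : Type*} [Group T] [Finite T]
    {ε : Multiplicative V →* T} (S : SCtx b hb ε) (h3 : r = 3) {k : ℕ} (hk : Module.finrank (ZMod r) V = 2 * k)
    (hk2 : 2 ≤ k) :
    ((Nat.card T = 4585351680 ∨ Nat.card T = 64561751654400) → k = 2) ∧
    (Nat.card T = 1255205709190661721292800 → k = 2 ∨ k = 3) := by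
  have h := S.dvd_card_four (by omega)
  rw [hk, h3] at h
  constructor
  · intro hT
    by_contra hne
    have h1 : 3 ^ 12 ∣ Nat.card T := by
      refine dvd_trans ?_ (dvd_trans (Dvd.intro_left _ rfl) h)
      exact pow_dvd_pow 3 (by omega)
    rcases hT with hT | hT <;> rw [hT] at h1 <;> norm_num at h1
  · intro hT
    by_contra hne
    rw [hT] at h
    by_cases h4 : k = 4
    · subst h4
      norm_num at h
    · have h1 : 3 ^ 20 ∣ 1255205709190661721292800 := by
        refine dvd_trans ?_ (dvd_trans (Dvd.intro_left _ rfl) h)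
        exact pow_dvd_pow 3 (by omega)
      norm_num at h1

/-- `29` does not divide the order of `PSU_n(2)` for `n = 9, 27`. -/
theorem not_dvd_psu {F : Type*} [Field F] [Fintype F] (hF : Fintype.card F = 2 ^ 2) {n : ℕ} (hn : n = 9 ∨ n = 27) :
    ¬ 29 ∣ Nat.card (PSU n F 2) := by
  intro h
  have hS := S0280.result hF n (by omega)
  have h1 : 29 ∣ 2 ^ (n * (n - 1) / 2) * ∏ i ∈ Finset.range n, (if Even i then 2 ^ (i + 1) + 1 else 2 ^ (i + 1) - 1) := by
    rw [← hS]
    exact (h.mul_left _).mul_left _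
  rcases hn with rfl | rfl
  · revert h1
    decide +kernel
  · revert h1
    decide +kernel

/-- The exceptional cases. -/
def Exc (T : Type*) [Group T] : Prop :=
  (∃ (K : Type) (_ : Field K) (_ : Fintype K), Fintype.card K = 3 ∧
      Nonempty (T ≃* POmega K (quadFormOdd 3 K))) ∨ Spor.IsoFi22 T ∨ Spor.IsoFi24' T

/-- `p = 2`, `r = 3`: the field has order 4. -/
theorem e_eq_two {e : ℕ} (hdvd : 3 ∣ 2 ^ e - 1) (hm : ∀ d, 0 < d → d < e → ¬ 3 ∣ 2 ^ d - 1) (he : 0 < e) : e = 2 := by
  by_contra hne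
  by_cases h1 : e = 1
  · subst h1; norm_num at hdvd
  · exact hm 2 (by norm_num) (by omega) (by norm_num)

end Cfsg.Agent.H878
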