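import Cfsg.Agent.H878.OddExc
import Cfsg.Agent.H878.Bridge
import Cfsg.Agent.H920.CsFinal

/-!
# The outcome for the overgroups in the shape of helper920's `IsOver` (helper878)
-/

set_option autoImplicit false

namespace Cfsg.Agent.H878

open Cfsg Cfsg.Geo Matrix Cfsg.Agent.H920
open scoped MatrixGroups

universe u

variable {ι : Type} [Fintype ι] [DecidableEq ι] {F : Type u} [Field F] {R : Subgroup (GL ι F)} {r k : ℕ}

/-- All data for an overgroup, `r` odd. -/
theorem outcome [Finite F] {p : ℕ} (hodd : Odd r) {C : Coord R r k} {Y X P : Subgroup (GL ι F)}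
    (hO : IsOver C Y X P) (hPS : P ≤ specialLinear ι F) (hpF : CharP F p) (hT : IsKnownSimple' (SQ P)) :
    OddOut r (r ^ k) p (SQ P) ∧
    (r = 3 → 2 ≤ k ∧ ((Nat.card (SQ P) = 4585351680 ∨ Nat.card (SQ P) = 64561751654400) → k = 2) ∧
      (Nat.card (SQ P) = 1255205709190661721292800 → k = 2 ∨ k = 3)) := by
  have hr : Fact r.Prime := ⟨hO.hR.prime⟩
  have hι : Nonempty ι := by
    apply Fintype.card_pos_iff.1
    rw [hO.card_eq]
    have := hO.five
    omega
  obtain ⟨X', h, hn, hY⟩ := exists_bridge hodd hO.hR hO.habs hO.type hO.five hO.core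
  have hP : NT1 h ≤ P := hY.trans hO.le
  refine ⟨odd_cases hodd hO.five hO.card_eq hpF finrank_vec h hn hP hO.isCore.perfect hPS hT hO.isCore.nonabelian, ?_⟩
  intro h3
  have hfin : Finite (SQ P) := inferInstance
  obtain ⟨hk1, hcase⟩ := five_le_cases (r := r) hodd hO.five
  have hk2 : 2 ≤ k := by
    rcases hcase with h | h
    · omega
    · exact h.2
  have hV : Nontrivial (Vec r k) := Module.nontrivial_of_finrank_pos (R := ZMod r) (by rw [finrank_vec]; omega)
  have hgood := goodRank_of_finrank (Agent.ClassicalGeometry.SympBasic.sympBilin k (ZMod r)) (by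
    rcases hcase with h | ⟨h, h'⟩
    · exact Or.inl h
    · exact Or.inr (Or.inl ⟨h, by rw [finrank_vec]; omega⟩))
  have hTG := TG_perfect _ h.alt h.nondeg hgood
  have S := sctx h hn hP hTG
  exact ⟨hk2, k_le S h3 finrank_vec hk2⟩

end Cfsg.Agent.H878
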