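import Cfsg.Agent.H878.CoreSplit
import Cfsg.Agent.Schreier.Basic

/-!
# A perfect subgroup of a group with a quasisimple core lies in the core (helper878)
-/

set_option autoImplicit false
set_option linter.unusedSimpArgs false
set_option linter.unusedSectionVars false

namespace Cfsg.Agent.H878

open Cfsg Cfsg.Geo Matrix
open scoped MatrixGroups

variable {ι : Type} [Fintype ι] [DecidableEq ι] {F : Type*} [Field F]

/-- The simple quotient. -/
abbrev SQ (P : Subgroup (GL ι F)) := P ⧸ (scalars ι F).subgroupOf P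

/-- Conjugation on a normalised subgroup. -/
def conjP {K P : Subgroup (GL ι F)} (hn : ∀ h ∈ K, ∀ x ∈ P, h * x * h⁻¹ ∈ P) (g : K) : MulAut P where
  toFun x := ⟨g * x * (g : GL ι F)⁻¹, hn g g.2 x x.2⟩
  invFun x := ⟨(g : GL ι F)⁻¹ * x * g, by
    have := hn (g : GL ι F)⁻¹ (inv_mem g.2) x x.2
    rwa [inv_inv] at this⟩
  left_inv x := by
    apply Subtype.ext
    simp only
    group
  right_inv x := by
    apply Subtype.ext
    simp only
    group
  map_mul' x y := by
    apply Subtype.ext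
    simp only [Subgroup.coe_mul]
    group

theorem conjP_map {K P : Subgroup (GL ι F)} (hn : ∀ h ∈ K, ∀ x ∈ P, h * x * h⁻¹ ∈ P) (g : K) :
    ((scalars ι F).subgroupOf P).map (conjP hn g).toMonoidHom = (scalars ι F).subgroupOf P := by
  ext x
  constructor
  · rintro ⟨y, hy, rfl⟩
    rw [Subgroup.mem_subgroupOf]
    exact (scalars_normal (ι := ι) (F := F)).conj_mem (y : GL ι F) (Subgroup.mem_subgroupOf.1 hy) (g : GL ι F)
  · intro hx
    refine ⟨(conjP hn g).symm x, ?_, (conjP hn g).apply_symm_apply x⟩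
    rw [SetLike.mem_coe, Subgroup.mem_subgroupOf]
    have := (scalars_normal (ι := ι) (F := F)).conj_mem (x : GL ι F) (Subgroup.mem_subgroupOf.1 hx) (g : GL ι F)⁻¹
    rw [inv_inv] at this
    exact this

/-- The action on the quotient. -/
def conjS {K P : Subgroup (GL ι F)} (hn : ∀ h ∈ K, ∀ x ∈ P, h * x * h⁻¹ ∈ P) : K →* MulAut (SQ P) where
  toFun g := QuotientGroup.congr _ _ (conjP hn g) (conjP_map hn g)
  map_one' := by
    ext q
    induction q using QuotientGroup.induction_on with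
    | H x =>
      change ((conjP hn 1 x : P) : SQ P) = (x : SQ P)
      congr 1
      apply Subtype.ext
      change (1 : GL ι F) * x * (1 : GL ι F)⁻¹ = x
      group
  map_mul' g h := by
    ext q
    induction q using QuotientGroup.induction_on with
    | H x =>
      change ((conjP hn (g * h) x : P) : SQ P) = ((conjP hn g (conjP hn h x) : P) : SQ P)
      congr 1
      apply Subtype.ext
      change ((g : GL ι F) * h) * x * ((g : GL ι F) * h)⁻¹ = g * (h * x * (h : GL ι F)⁻¹) * (g : GL ι F)⁻¹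
      group

theorem conjS_mk {K P : Subgroup (GL ι F)} (hn : ∀ h ∈ K, ∀ x ∈ P, h * x * h⁻¹ ∈ P) (g : K) (x : P) :
    conjS hn g (x : SQ P) = ((conjP hn g x : P) : SQ P) := rfl

/-- The derived group of `P Z` lies in `P`, for `Z` the scalars. -/
theorem commutator_scal_le {P D : Subgroup (GL ι F)} (hD : ∀ d ∈ D, ∃ y ∈ P, ∃ z ∈ scalars ι F, d = z * y) :
    ⁅D, D⁆ ≤ ⁅P, P⁆ := by
  rw [Subgroup.commutator_le]
  intro g₁ h₁ g₂ h₂
  obtain ⟨x, hx, z, hz, rfl⟩ := hD g₁ h₁
  obtain ⟨y, hy, w, hw, rfl⟩ := hD g₂ h₂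
  have key : z * x * (w * y) * (z * x)⁻¹ * (w * y)⁻¹ = x * y * x⁻¹ * y⁻¹ := by
    rw [scal_conj hz]
    have h1 : x * (w * y) * x⁻¹ * (w * y)⁻¹ = x * ((w * y) * x⁻¹ * (w * y)⁻¹) := by group
    rw [h1, scal_conj hw]
    group
  rw [commutatorElement_def, key, ← commutatorElement_def]
  exact Subgroup.commutator_mem_commutator hx hy

/-- **A perfect subgroup of `K` lies in the core.** -/
theorem perfect_le_core {K P D : Subgroup (GL ι F)} (hP : H919.CoreNS K P) (hDK : D ≤ K) (hD : ⁅D, D⁆ = D)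
    (hsch : Schreier.Basic.Sch (SQ P)) : D ≤ P := by
  have h1 : ⁅(D.subgroupOf K).map (conjS hP.normal), (D.subgroupOf K).map (conjS hP.normal)⁆ =
      (D.subgroupOf K).map (conjS hP.normal) := by
    apply Schreier.Basic.map_perfect
    apply Subgroup.map_injective K.subtype_injective
    rw [Subgroup.map_commutator, Subgroup.map_subgroupOf_eq_of_le hDK, hD]
  have h2 := hsch _ h1
  have h3 : ∀ d ∈ D, ∃ y ∈ P, ∃ z ∈ scalars ι F, d = z * y := by
    intro d hd
    obtain ⟨s, hs⟩ := h2 ⟨⟨d, hDK hd⟩, hd, rfl⟩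
    obtain ⟨y, rfl⟩ := QuotientGroup.mk_surjective s
    have h4 : d * (y : GL ι F)⁻¹ ∈ scalars ι F := by
      -- work with `y⁻¹ d`
      have h5 : (y : GL ι F)⁻¹ * d ∈ scalars ι F := by
        apply hP.centralizer_scalar _ (mul_mem (inv_mem (hP.le y.2)) (hDK hd))
        intro x hx
        have h6 : MulAut.conj (y : SQ P) ((⟨x, hx⟩ : P) : SQ P) =
            conjS hP.normal ⟨d, hDK hd⟩ ((⟨x, hx⟩ : P) : SQ P) := by rw [hs]
        rw [conjS_mk, MulAut.conj_apply, ← QuotientGroup.mk_mul, ← QuotientGroup.mk_inv, ← QuotientGroup.mk_mul,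
          QuotientGroup.eq] at h6
        have h7 : ((y : GL ι F) * x * (y : GL ι F)⁻¹)⁻¹ * (d * x * d⁻¹) ∈ scalars ι F := h6
        have h8 := (scalars_normal (ι := ι) (F := F)).conj_mem _ h7 ((y : GL ι F)⁻¹ )
        have h9 := (scalars_normal (ι := ι) (F := F)).conj_mem _ h8 x
        have h10 : x * ((y : GL ι F)⁻¹ * (((y : GL ι F) * x * (y : GL ι F)⁻¹)⁻¹ * (d * x * d⁻¹)) * ((y : GL ι F)⁻¹)⁻¹) * x⁻¹ =
            (y : GL ι F)⁻¹ * d * x * ((y : GL ι F)⁻¹ * d)⁻¹ * x⁻¹ := by group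
        rw [h10] at h9
        exact h9
      have h6 := (scalars_normal (ι := ι) (F := F)).conj_mem _ h5 (y : GL ι F)
      have h7 : (y : GL ι F) * ((y : GL ι F)⁻¹ * d) * (y : GL ι F)⁻¹ = d * (y : GL ι F)⁻¹ := by group
      rwa [h7] at h6
    exact ⟨y, y.2, _, h4, by group⟩
  have h4 := commutator_scal_le h3
  rw [hD, hP.perfect] at h4
  exact h4

end Cfsg.Agent.H878
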