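import Cfsg.Agent.H878.NT2

/-!
# Symplectic-type groups and frames (helper878)
-/

set_option autoImplicit false
set_option linter.unusedSimpArgs false
set_option linter.unusedSectionVars false

namespace Cfsg.Agent.H878

open Cfsg Cfsg.Geo Matrix
open scoped MatrixGroups

variable {ι : Type} [Fintype ι] [DecidableEq ι] {F : Type*} [Field F]
  {r : ℕ} [hr : Fact r.Prime] {V : Type*} [AddCommGroup V] [Module (ZMod r) V] [Finite V]
  {ψ : AddChar (ZMod r) F} {b : V →ₗ[ZMod r] V →ₗ[ZMod r] ZMod r} {X : V → GL ι F}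

/-- `R` is the group of the `c • X v`, `c ^ z = 1`. -/
structure RData (r : ℕ) (R : Subgroup (GL ι F)) (z : ℕ) (X : V → GL ι F) : Prop where
  normed : Normed r X
  hz : (Odd r ∧ z = r) ∨ (r = 2 ∧ z = 4)
  mem_iff : ∀ g : GL ι F, g ∈ R ↔ ∃ v, ∃ c : F, c ^ z = 1 ∧ (g : Matrix ι ι F) = c • (X v : Matrix ι ι F)

theorem conj_pow_val (g : GL ι F) (M : Matrix ι ι F) (m : ℕ) :
    ((g : Matrix ι ι F) * M * ((g⁻¹ : GL ι F) : Matrix ι ι F)) ^ m =
      (g : Matrix ι ι F) * M ^ m * ((g⁻¹ : GL ι F) : Matrix ι ι F) := by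
  induction m with
  | zero => rw [pow_zero, pow_zero, mul_one, ← Units.val_mul, mul_inv_cancel, Units.val_one]
  | succ m ih =>
    rw [pow_succ, ih, pow_succ]
    calc (g : Matrix ι ι F) * M ^ m * ((g⁻¹ : GL ι F) : Matrix ι ι F) *
          ((g : Matrix ι ι F) * M * ((g⁻¹ : GL ι F) : Matrix ι ι F))
        = (g : Matrix ι ι F) * M ^ m * ((((g⁻¹ : GL ι F) : Matrix ι ι F) * (g : Matrix ι ι F)) * M) *
          ((g⁻¹ : GL ι F) : Matrix ι ι F) := by simp only [mul_assoc]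
      _ = _ := by rw [← Units.val_mul g⁻¹, inv_mul_cancel, Units.val_one, one_mul]; simp only [mul_assoc]

/-- The scalar occurring when one `X v` is conjugated to a multiple of another. -/
theorem scal_pow [Nonempty ι] (hn : Normed r X) {g : GL ι F} {v u : V} {d : F}
    (hd : (g : Matrix ι ι F) * (X v : Matrix ι ι F) * ((g⁻¹ : GL ι F) : Matrix ι ι F) =
      d • (X u : Matrix ι ι F)) : d ^ r = 1 := by
  rcases hn with ⟨_, hX⟩ | ⟨h2, hX⟩
  · have h1 := conj_pow_val g (X v : Matrix ι ι F) r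
    rw [hd, smul_pow, hX, hX, mul_one, ← Units.val_mul, mul_inv_cancel, Units.val_one] at h1
    have h3 : (d ^ r - 1) • (1 : Matrix ι ι F) = 0 := by rw [sub_smul, h1, one_smul, sub_self]
    rcases smul_eq_zero.1 h3 with h4 | h4
    · exact sub_eq_zero.1 h4
    · exact absurd h4 one_ne_zero
  · have h1 := conj_pow_val g (X v : Matrix ι ι F) 2
    rw [hd, smul_pow, sq (X u : Matrix ι ι F), sq (X v : Matrix ι ι F), hX, hX] at h1
    rw [mul_neg, mul_one, neg_mul, ← Units.val_mul, mul_inv_cancel, Units.val_one, smul_neg, neg_inj] at h1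
    rw [h2]
    have h3 : (d ^ 2 - 1) • (1 : Matrix ι ι F) = 0 := by rw [sub_smul, h1, one_smul, sub_self]
    rcases smul_eq_zero.1 h3 with h4 | h4
    · exact sub_eq_zero.1 h4
    · exact absurd h4 one_ne_zero

namespace RData

variable {R : Subgroup (GL ι F)} {z : ℕ}

theorem r_dvd_z (hR : RData r R z X) : r ∣ z := by
  rcases hR.hz with ⟨_, h⟩ | ⟨h, h'⟩
  · rw [h]
  · rw [h, h']; decide

theorem conj_mem [Nonempty ι] (hR : RData r R z X) {g : GL ι F}
    (hg : ∀ w, ∃ u, ∃ c : F, c ≠ 0 ∧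
      (g : Matrix ι ι F) * (X w : Matrix ι ι F) * ((g⁻¹ : GL ι F) : Matrix ι ι F) = c • (X u : Matrix ι ι F))
    {x : GL ι F} (hx : x ∈ R) : g * x * g⁻¹ ∈ R := by
  obtain ⟨v, c, hc, hxc⟩ := (hR.mem_iff x).1 hx
  obtain ⟨u, d, hd0, hd⟩ := hg v
  have h1 := scal_pow (r := r) hR.normed hd
  refine (hR.mem_iff _).2 ⟨u, c * d, ?_, ?_⟩
  · obtain ⟨m, hm⟩ := hR.r_dvd_z
    rw [mul_pow, hc, one_mul, hm, pow_mul, h1, one_pow]
  · rw [Units.val_mul, Units.val_mul, hxc, Matrix.mul_smul, Matrix.smul_mul, hd, smul_smul]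

theorem le_normalizer [Nonempty ι] (hR : RData r R z X) {K : Subgroup (GL ι F)}
    (hK : ∀ g ∈ K, ∀ w, ∃ u, ∃ c : F, c ≠ 0 ∧
      (g : Matrix ι ι F) * (X w : Matrix ι ι F) * ((g⁻¹ : GL ι F) : Matrix ι ι F) = c • (X u : Matrix ι ι F)) :
    K ≤ subgroupNormalizer R := by
  intro g hg
  rw [subgroupNormalizer, Subgroup.mem_normalizer_iff]
  intro x
  constructor
  · intro hx
    exact hR.conj_mem (hK g hg) hx
  · intro hx
    have h1 := hR.conj_mem (hK g⁻¹ (inv_mem hg)) hx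
    rwa [show g⁻¹ * (g * x * g⁻¹) * (g⁻¹)⁻¹ = x by group] at h1

theorem X_mem (hR : RData r R z X) (v : V) : X v ∈ R :=
  (hR.mem_iff _).2 ⟨v, 1, one_pow _, (one_smul _ _).symm⟩

theorem NT1_le_normalizer [Nonempty ι] (hR : RData r R z X) (h : Frame ψ b X) :
    NT1 h ≤ subgroupNormalizer R := by
  apply hR.le_normalizer
  intro g hg w
  obtain ⟨γ, _, hγ⟩ := NT1_le h hg
  obtain ⟨c, hc0, hc⟩ := acts_iff.1 hγ w
  exact ⟨γ w, c, hc0, hc⟩

end RData

end Cfsg.Agent.H878
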