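import Cfsg.Agent.H878.TransRank

/-!
# A finite group containing a copy of a symplectic space, normalised by transvections (helper878)

`SCtx`: `ε : Multiplicative V →* S` injective such that every element of the transvection group `TG` is induced
by conjugation.  Consequences: a linear representation of `S` in characteristic `≠ r` that is non-trivial on the
image of `V` has degree at least `|V| - 1` (`card_le_of_rep`), and `(|V| - 1) * r ^ (2 * finrank - 1)` divides `|S|`
(`dvd_card`).
-/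

set_option autoImplicit false
set_option linter.unusedSimpArgs false
set_option linter.unusedSectionVars false

namespace Cfsg.Agent.H878

open Matrix
open scoped MatrixGroups

variable {r : ℕ} [hr : Fact r.Prime] {V : Type*} [AddCommGroup V] [Module (ZMod r) V] [Finite V]

/-- The context. -/
structure SCtx (b : V →ₗ[ZMod r] V →ₗ[ZMod r] ZMod r) (hb : ∀ v, b v v = 0) {S : Type*} [Group S]
    (ε : Multiplicative V →* S) : Prop where
  nondeg : ∀ v, (∀ w, b v w = 0) → v = 0
  inj : Function.Injective ε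
  act : ∀ γ ∈ TG b hb, ∃ g : S, ∀ v, g * ε (Multiplicative.ofAdd v) * g⁻¹ = ε (Multiplicative.ofAdd (γ v))

namespace SCtx

variable {b : V →ₗ[ZMod r] V →ₗ[ZMod r] ZMod r} {hb : ∀ v, b v v = 0} {S : Type*} [Group S]
  {ε : Multiplicative V →* S}

/-- Transport. -/
theorem map (h : SCtx b hb ε) {S' : Type*} [Group S'] (f : S ≃* S') :
    SCtx b hb (f.toMonoidHom.comp ε) where
  nondeg := h.nondeg
  inj := f.injective.comp h.inj
  act := fun γ hγ => by
    obtain ⟨g, hg⟩ := h.act γ hγ
    refine ⟨f g, fun v => ?_⟩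
    change f g * f (ε _) * (f g)⁻¹ = f (ε _)
    rw [← map_inv, ← map_mul, ← map_mul, hg]

section rep

variable {m : Type*} [Fintype m] [DecidableEq m] {L : Type*} [Field L]

/-- The projections. -/
noncomputable def ee [Fintype V] (b : V →ₗ[ZMod r] V →ₗ[ZMod r] ZMod r) (ε : Multiplicative V →* S) (χ : AddChar (ZMod r) L) (τ : S →* GL m L) (u : V) : Matrix m m L :=
  ∑ w : V, χ (-(b w u)) • ((τ (ε (Multiplicative.ofAdd w)) : GL m L) : Matrix m m L)

theorem tau_ee [Fintype V] (χ : AddChar (ZMod r) L) (τ : S →* GL m L) (s u : V) :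
    ((τ (ε (Multiplicative.ofAdd s)) : GL m L) : Matrix m m L) * ee b ε χ τ u = χ (b s u) • ee b ε χ τ u := by
  unfold ee
  rw [Finset.mul_sum, Finset.smul_sum]
  rw [← Equiv.sum_comp (Equiv.addLeft s)
    (fun w => χ (b s u) • χ (-(b w u)) • ((τ (ε (Multiplicative.ofAdd w)) : GL m L) : Matrix m m L))]
  apply Finset.sum_congr rfl
  intro w _
  rw [Matrix.mul_smul, Equiv.coe_addLeft, smul_smul, ← AddChar.map_add_eq_mul, ofAdd_add, map_mul, map_mul,
    Units.val_mul]
  congr 2
  rw [map_add, LinearMap.add_apply]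
  ring

theorem conj_ee [Fintype V] (χ : AddChar (ZMod r) L) (τ : S →* GL m L) {γ : V ≃ₗ[ZMod r] V}
    (hγ : γ ∈ TG b hb) {g : S}
    (hg : ∀ v, g * ε (Multiplicative.ofAdd v) * g⁻¹ = ε (Multiplicative.ofAdd (γ v))) (u : V) :
    (τ g : Matrix m m L) * ee b ε χ τ u * ((τ g)⁻¹ : GL m L) = ee b ε χ τ (γ u) := by
  unfold ee
  rw [Finset.mul_sum, Finset.sum_mul]
  rw [← Equiv.sum_comp γ.toEquiv
    (fun w => χ (-(b w (γ u))) • ((τ (ε (Multiplicative.ofAdd w)) : GL m L) : Matrix m m L))]
  apply Finset.sum_congr rfl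
  intro w _
  change _ = χ (-(b (γ w) (γ u))) • ((τ (ε (Multiplicative.ofAdd (γ w))) : GL m L) : Matrix m m L)
  rw [b_TG b hb hγ, ← hg, map_mul, map_mul, map_inv, Units.val_mul, Units.val_mul, Matrix.mul_smul, Matrix.smul_mul]

theorem sum_chi [Fintype V] [DecidableEq V] (hnd : ∀ v, (∀ w, b v w = 0) → v = 0) (χ : AddChar (ZMod r) L)
    (hχ : ∀ a, χ a = 1 → a = 0) (w : V) :
    ∑ u : V, χ (-(b w u)) = if w = 0 then ((Nat.card V : ℕ) : L) else 0 := by
  classical
  split_ifs with hw
  · subst hw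
    simp [Nat.card_eq_fintype_card]
  · let φ : AddChar V L :=
      { toFun := fun u => χ (-(b w u))
        map_zero_eq_one' := by simp
        map_add_eq_mul' := fun x y => by
          rw [map_add, neg_add, AddChar.map_add_eq_mul] }
    have hφ : φ ≠ 1 := by
      intro h1
      apply hw
      apply hnd
      intro u
      have h2 : φ u = 1 := by rw [h1]; rfl
      have h3 := hχ _ h2
      rwa [neg_eq_zero] at h3
    exact AddChar.sum_eq_zero_of_ne_one hφ

theorem sum_chi' [Fintype V] [DecidableEq V] (hb : ∀ v, b v v = 0) (hnd : ∀ v, (∀ w, b v w = 0) → v = 0)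
    (χ : AddChar (ZMod r) L)
    (hχ : ∀ a, χ a = 1 → a = 0) (u : V) :
    ∑ w : V, χ (b w u) = if u = 0 then ((Nat.card V : ℕ) : L) else 0 := by
  rw [← sum_chi hnd χ hχ u]
  apply Finset.sum_congr rfl
  intro w _
  rw [b_skew b hb w u]

theorem sum_ee [Fintype V] (hnd : ∀ v, (∀ w, b v w = 0) → v = 0) (χ : AddChar (ZMod r) L)
    (hχ : ∀ a, χ a = 1 → a = 0) (τ : S →* GL m L) (s : V) :
    ∑ u : V, χ (b s u) • ee b ε χ τ u =
      ((Nat.card V : ℕ) : L) • ((τ (ε (Multiplicative.ofAdd s)) : GL m L) : Matrix m m L) := by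
  classical
  unfold ee
  simp only [Finset.smul_sum, smul_smul]
  rw [Finset.sum_comm]
  have h1 : ∀ w : V, ∑ u : V, (χ (b s u) * χ (-(b w u))) •
      ((τ (ε (Multiplicative.ofAdd w)) : GL m L) : Matrix m m L) =
      (if w - s = 0 then ((Nat.card V : ℕ) : L) else 0) •
      ((τ (ε (Multiplicative.ofAdd w)) : GL m L) : Matrix m m L) := by
    intro w
    rw [← Finset.sum_smul, ← sum_chi hnd χ hχ (w - s)]
    congr 1
    apply Finset.sum_congr rfl
    intro u _
    rw [← AddChar.map_add_eq_mul, map_sub, LinearMap.sub_apply]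
    congr 1
    ring
  rw [Finset.sum_congr rfl fun w _ => h1 w, Finset.sum_eq_single s]
  · rw [sub_self, if_pos rfl]
  · intro w _ hw
    rw [if_neg (sub_ne_zero.2 hw), zero_smul]
  · intro h; exact absurd (Finset.mem_univ _) h

/-- The degree bound over a field with a character of order `r`. -/
theorem card_le_aux [Nontrivial V] (h : SCtx b hb ε) (χ : AddChar (ZMod r) L)
    (hχ : ∀ a, χ a = 1 → a = 0) (hrL : (r : L) ≠ 0) (τ : S →* GL m L)
    (hτ : ∃ v, τ (ε (Multiplicative.ofAdd v)) ≠ 1) : Nat.card V - 1 ≤ Fintype.card m := by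
  classical
  let _ : Fintype V := Fintype.ofFinite V
  have hc0 : ((Nat.card V : ℕ) : L) ≠ 0 := by
    have h1 : Nat.card V = r ^ Module.finrank (ZMod r) V := by
      rw [Module.natCard_eq_pow_finrank (K := ZMod r), Nat.card_zmod]
    rw [h1, Nat.cast_pow]
    exact pow_ne_zero _ hrL
  -- none of the projections vanishes
  have hne : ∀ u, u ≠ 0 → ee b ε χ τ u ≠ 0 := by
    intro u hu h0
    have hall : ∀ u', u' ≠ 0 → ee b ε χ τ u' = 0 := by
      intro u' hu'
      obtain ⟨γ, hγ, hγu⟩ := TG_transitive b hb h.nondeg hu hu'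
      obtain ⟨g, hg⟩ := h.act γ hγ
      rw [← hγu, ← conj_ee χ τ hγ hg, h0, mul_zero, zero_mul]
    obtain ⟨v, hv⟩ := hτ
    apply hv
    apply Units.ext
    have e1 := sum_ee (ε := ε) h.nondeg χ hχ τ v
    have e2 := sum_ee (ε := ε) h.nondeg χ hχ τ 0
    rw [Finset.sum_eq_single 0 (fun u _ hu => by rw [hall u hu, smul_zero])
      (fun h => absurd (Finset.mem_univ _) h)] at e1 e2
    rw [map_zero, AddChar.map_zero_eq_one] at e1 e2
    rw [e2] at e1
    have e3 := smul_right_injective _ hc0 e1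
    change ((τ (ε (Multiplicative.ofAdd 0)) : GL m L) : Matrix m m L) =
      ((τ (ε (Multiplicative.ofAdd v)) : GL m L) : Matrix m m L) at e3
    rw [← e3, ofAdd_zero, map_one, map_one]
  -- eigenvectors
  have hx : ∀ u : {u : V // u ≠ 0}, ∃ x : m → L, x ≠ 0 ∧
      ∀ s : V, ((τ (ε (Multiplicative.ofAdd s)) : GL m L) : Matrix m m L) *ᵥ x = χ (b s u) • x := by
    intro u
    obtain ⟨y, hy⟩ : ∃ y : m → L, ee b ε χ τ u *ᵥ y ≠ 0 := by
      by_contra hcon
      push Not at hcon
      apply hne u u.2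
      ext i j
      have h1 := congrFun (hcon (Pi.single j 1)) i
      rw [Matrix.mulVec_single_one] at h1
      simpa using h1
    refine ⟨ee b ε χ τ u *ᵥ y, hy, fun s => ?_⟩
    rw [Matrix.mulVec_mulVec, tau_ee, Matrix.smul_mulVec]
  choose x hx0 hx using hx
  have hee : ∀ (u : {u : V // u ≠ 0}) (u' : V), ee b ε χ τ u' *ᵥ x u =
      (if (u : V) - u' = 0 then ((Nat.card V : ℕ) : L) else 0) • x u := by
    intro u u'
    unfold ee
    rw [Matrix.sum_mulVec, ← sum_chi' hb h.nondeg χ hχ ((u : V) - u'), Finset.sum_smul]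
    apply Finset.sum_congr rfl
    intro w _
    rw [Matrix.smul_mulVec, hx, smul_smul, ← AddChar.map_add_eq_mul, map_sub]
    congr 2
    ring
  have hli : LinearIndependent L x := by
    rw [Fintype.linearIndependent_iff]
    intro c hc u
    have h1 := congrArg (fun y => ee b ε χ τ (u : V) *ᵥ y) hc
    simp only [Matrix.mulVec_zero] at h1
    rw [Matrix.mulVec_sum, Finset.sum_eq_single u] at h1
    · rw [Matrix.mulVec_smul, hee, sub_self, if_pos rfl, smul_smul] at h1
      rcases smul_eq_zero.1 h1 with h2 | h2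
      · rcases mul_eq_zero.1 h2 with h3 | h3
        · exact h3
        · exact absurd h3 hc0
      · exact absurd h2 (hx0 u)
    · intro u' _ hu'
      rw [Matrix.mulVec_smul, hee, if_neg, zero_smul, smul_zero]
      intro h2
      exact hu' (Subtype.ext (sub_eq_zero.1 h2))
    · intro h; exact absurd (Finset.mem_univ _) h
  have h2 := hli.fintype_card_le_finrank
  rw [Module.finrank_fintype_fun_eq_card] at h2
  have h3 : Fintype.card {u : V // u ≠ 0} = Nat.card V - 1 := by
    rw [Fintype.card_subtype_compl, Fintype.card_subtype_eq, Nat.card_eq_fintype_card]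
  rwa [h3] at h2

/-- **The degree bound.** -/
theorem card_le_of_rep [Nontrivial V] (h : SCtx b hb ε) (hrL : (r : L) ≠ 0) (τ : S →* GL m L)
    (hτ : ∃ v, τ (ε (Multiplicative.ofAdd v)) ≠ 1) : Nat.card V - 1 ≤ Fintype.card m := by
  classical
  let L' := AlgebraicClosure L
  have hrL' : (r : L') ≠ 0 := by
    intro h0
    apply hrL
    have h1 : algebraMap L L' (r : L) = 0 := by rw [map_natCast]; exact h0
    exact (FaithfulSMul.algebraMap_injective L L') (by rw [h1, map_zero])
  have hNZ : NeZero (r : L') := ⟨hrL'⟩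
  obtain ⟨ζ, hζ⟩ := HasEnoughRootsOfUnity.exists_primitiveRoot L' r
  have hζr : ζ ^ r = 1 := hζ.pow_eq_one
  have hr0 : NeZero r := ⟨hr.out.ne_zero⟩
  have hχ : ∀ a, AddChar.zmodChar r hζr a = 1 → a = 0 := by
    intro a ha
    rw [AddChar.zmodChar_apply] at ha
    have h1 := (hζ.pow_eq_one_iff_dvd _).1 ha
    have h2 := Nat.eq_zero_of_dvd_of_lt h1 (ZMod.val_lt a)
    exact (ZMod.val_eq_zero a).1 h2
  refine card_le_aux h (AddChar.zmodChar r hζr) hχ hrL'
    ((Matrix.GeneralLinearGroup.map (n := m) (algebraMap L L')).comp τ) ?_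
  obtain ⟨v, hv⟩ := hτ
  refine ⟨v, fun h1 => hv ?_⟩
  apply Units.ext
  have h2 := congrArg Units.val h1
  ext i j
  have h3 := congrFun (congrFun h2 i) j
  have hinj : Function.Injective (algebraMap L L') := FaithfulSMul.algebraMap_injective L L'
  apply hinj
  have h4 : algebraMap L L' ((1 : Matrix m m L) i j) = (1 : Matrix m m L') i j := by
    rw [Matrix.one_apply, Matrix.one_apply]
    split_ifs <;> simp
  rw [Units.val_one, h4]
  exact h3

end rep

section order

/-- The stabiliser: the elements of `S` inducing an element of `TG` on the copy of `V`. -/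
def NS (b : V →ₗ[ZMod r] V →ₗ[ZMod r] ZMod r) (hb : ∀ v, b v v = 0) (ε : Multiplicative V →* S) : Subgroup S where
  carrier := {g | ∃ γ ∈ TG b hb, ∀ v, g * ε (Multiplicative.ofAdd v) * g⁻¹ = ε (Multiplicative.ofAdd (γ v))}
  mul_mem' := by
    rintro a c ⟨γ, hγ, ha⟩ ⟨δ, hδ, hc⟩
    refine ⟨γ * δ, mul_mem hγ hδ, fun v => ?_⟩
    have h1 : a * c * ε (Multiplicative.ofAdd v) * (a * c)⁻¹ = a * (c * ε (Multiplicative.ofAdd v) * c⁻¹) * a⁻¹ := by
      group
    rw [h1, hc, ha]
    rfl
  one_mem' := ⟨1, one_mem _, fun v => by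
    rw [one_mul, inv_one, mul_one]
    rfl⟩
  inv_mem' := by
    rintro a ⟨γ, hγ, ha⟩
    refine ⟨γ⁻¹, inv_mem hγ, fun v => ?_⟩
    have h1 := ha (γ⁻¹ v)
    have h2 : γ (γ⁻¹ v) = v := γ.apply_symm_apply v
    rw [h2] at h1
    rw [← h1]
    group

theorem card_TG_mul_dvd [Finite S] [Nontrivial V] (h : SCtx b hb ε) :
    Nat.card (TG b hb) * Nat.card V ∣ Nat.card S := by
  classical
  -- the homomorphism `NS → TG`
  have hspec : ∀ g : NS b hb ε, ∃ γ : TG b hb, ∀ v,
      (g : S) * ε (Multiplicative.ofAdd v) * (g : S)⁻¹ = ε (Multiplicative.ofAdd ((γ : V ≃ₗ[ZMod r] V) v)) := by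
    rintro ⟨g, γ, hγ, hg⟩
    exact ⟨⟨γ, hγ⟩, hg⟩
  choose f hf using hspec
  have huniq : ∀ (g : S) (γ δ : V ≃ₗ[ZMod r] V),
      (∀ v, g * ε (Multiplicative.ofAdd v) * g⁻¹ = ε (Multiplicative.ofAdd (γ v))) →
      (∀ v, g * ε (Multiplicative.ofAdd v) * g⁻¹ = ε (Multiplicative.ofAdd (δ v))) → γ = δ := by
    intro g γ δ h1 h2
    ext v
    have h3 := (h1 v).symm.trans (h2 v)
    exact Multiplicative.ofAdd.injective (h.inj h3)
  let φ : NS b hb ε →* TG b hb :=
    { toFun := f
      map_one' := by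
        apply Subtype.ext
        apply huniq 1 _ _ (hf 1)
        intro v
        rw [one_mul, inv_one, mul_one]
        rfl
      map_mul' := fun a c => by
        apply Subtype.ext
        apply huniq (a * c : S) _ _ (hf (a * c))
        intro v
        have h1 : (a : S) * c * ε (Multiplicative.ofAdd v) * ((a : S) * c)⁻¹ =
            a * (c * ε (Multiplicative.ofAdd v) * (c : S)⁻¹) * (a : S)⁻¹ := by group
        rw [h1, hf c, hf a]
        rfl }
  have hsurj : Function.Surjective φ := by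
    rintro ⟨γ, hγ⟩
    obtain ⟨g, hg⟩ := h.act γ hγ
    refine ⟨⟨g, γ, hγ, hg⟩, ?_⟩
    apply Subtype.ext
    exact huniq g _ _ (hf ⟨g, γ, hγ, hg⟩) hg
  -- the kernel contains the image of `V`
  have hker : ∃ j : Multiplicative V →* φ.ker, Function.Injective j := by
    have hmem : ∀ v : Multiplicative V, ε v ∈ NS b hb ε := by
      intro v
      refine ⟨1, one_mem _, fun w => ?_⟩
      rw [← map_mul, ← map_inv, ← map_mul, mul_comm v, mul_assoc, mul_inv_cancel, mul_one]
      rfl
    refine ⟨{ toFun := fun v => ⟨⟨ε v, hmem v⟩, ?_⟩, map_one' := ?_, map_mul' := ?_ }, ?_⟩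
    · rw [MonoidHom.mem_ker]
      apply Subtype.ext
      apply huniq (ε v) _ _ (hf ⟨ε v, hmem v⟩)
      intro w
      rw [← map_mul, ← map_inv, ← map_mul, mul_comm v, mul_assoc, mul_inv_cancel, mul_one]
      rfl
    · apply Subtype.ext; apply Subtype.ext
      exact map_one ε
    · intro v w
      apply Subtype.ext; apply Subtype.ext
      exact map_mul ε v w
    · intro v w hvw
      exact h.inj (congrArg (fun x : φ.ker => ((x : NS b hb ε) : S)) hvw)
  obtain ⟨j, hj⟩ := hker
  have h1 : Nat.card (Multiplicative V) ∣ Nat.card φ.ker := Subgroup.card_dvd_of_injective j hj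
  have h2 : Nat.card (TG b hb) * Nat.card φ.ker = Nat.card (NS b hb ε) := by
    have := Subgroup.card_eq_card_quotient_mul_card_subgroup φ.ker
    rw [this, Nat.card_congr (QuotientGroup.quotientKerEquivOfSurjective φ hsurj).toEquiv]
  refine dvd_trans ?_ (Subgroup.card_subgroup_dvd_card (NS b hb ε))
  rw [← h2]
  exact Nat.mul_dvd_mul_left _ h1

theorem dvd_card [Finite S] [Nontrivial V] (h : SCtx b hb ε) :
    (r ^ Module.finrank (ZMod r) V - 1) * r ^ (2 * Module.finrank (ZMod r) V - 1) ∣ Nat.card S := by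
  have h3 : Nat.card (HPair b) * Nat.card V ∣ Nat.card S :=
    (Nat.mul_dvd_mul_right (card_hpair_dvd b hb h.nondeg inferInstance) _).trans h.card_TG_mul_dvd
  have h4 := card_hpair b h.nondeg
  have hV : Nat.card V = r ^ Module.finrank (ZMod r) V := by
    rw [Module.natCard_eq_pow_finrank (K := ZMod r), Nat.card_zmod]
  have hpos : 0 < Module.finrank (ZMod r) V := Module.finrank_pos
  refine dvd_trans (dvd_of_eq ?_) h3
  apply Nat.eq_of_mul_eq_mul_right hr.out.pos
  calc (r ^ Module.finrank (ZMod r) V - 1) * r ^ (2 * Module.finrank (ZMod r) V - 1) * r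
      = (r ^ Module.finrank (ZMod r) V - 1) * r ^ (2 * Module.finrank (ZMod r) V) := by
        rw [mul_assoc, ← pow_succ]; congr 2; omega
    _ = (Nat.card V - 1) * Nat.card V * Nat.card V := by rw [hV, mul_assoc, ← pow_add, two_mul]
    _ = _ := by rw [← h4]; ring

end order

end SCtx

end Cfsg.Agent.H878
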