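import Mathlib

/-!
# The group generated by the transvections of a symplectic space over `ZMod r` (helper878)

`V` a module over `ZMod r`, `b` alternating and non-degenerate, `tv b hb v c : y ↦ y + (c * b y v) • v`,
`TG b hb` the group generated by the `tv b hb v 1`: transitive on non-zero vectors and on hyperbolic pairs, and
perfect when `r ≥ 5`, or `r = 3` and `V` has an isotropic plane, or `r = 2` and `V` has an isotropic 3-space.
-/

set_option autoImplicit false
set_option linter.unusedSimpArgs false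

namespace Cfsg.Agent.H878

variable {r : ℕ} [hr : Fact r.Prime] {V : Type*} [AddCommGroup V] [Module (ZMod r) V]
  (b : V →ₗ[ZMod r] V →ₗ[ZMod r] ZMod r) (hb : ∀ v, b v v = 0)

include hb in
theorem b_skew (v w : V) : b v w = - b w v := by
  have h := hb (v + w)
  simp only [map_add, LinearMap.add_apply, hb] at h
  rw [zero_add, add_zero] at h
  exact eq_neg_of_add_eq_zero_right h

/-- The transvection `y ↦ y + (c * b y v) • v`. -/
def tv (v : V) (c : ZMod r) : V ≃ₗ[ZMod r] V where
  toFun y := y + (c * b y v) • v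
  invFun y := y + (-c * b y v) • v
  map_add' x y := by
    simp only [map_add, LinearMap.add_apply, mul_add, add_smul]
    abel
  map_smul' a x := by
    simp only [map_smul, LinearMap.smul_apply, smul_eq_mul, smul_add, smul_smul, RingHom.id_apply]
    congr 2
    ring
  left_inv y := by
    have h : b (y + (c * b y v) • v) v = b y v := by
      simp only [map_add, map_smul, LinearMap.add_apply, LinearMap.smul_apply, hb, smul_zero, smul_eq_mul, mul_zero,
        add_zero]
    change (y + (c * b y v) • v) + (-c * b (y + (c * b y v) • v) v) • v = y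
    rw [h, neg_mul, neg_smul]
    abel
  right_inv y := by
    have h : b (y + (-c * b y v) • v) v = b y v := by
      simp only [map_add, map_smul, LinearMap.add_apply, LinearMap.smul_apply, hb, smul_zero, smul_eq_mul, mul_zero,
        add_zero]
    change (y + (-c * b y v) • v) + (c * b (y + (-c * b y v) • v) v) • v = y
    rw [h, neg_mul, neg_smul]
    abel

theorem tv_apply (v : V) (c : ZMod r) (y : V) : tv b hb v c y = y + (c * b y v) • v := rfl

theorem tv_mul (v : V) (c d : ZMod r) : tv b hb v c * tv b hb v d = tv b hb v (c + d) := by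
  ext y
  change tv b hb v c (tv b hb v d y) = _
  simp only [tv_apply, map_add, map_smul, LinearMap.add_apply, LinearMap.smul_apply, hb, smul_zero, smul_eq_mul, mul_zero, zero_smul, add_zero,
    add_mul, add_smul]
  abel

theorem tv_zero (v : V) : tv b hb v 0 = 1 := by
  ext y
  change tv b hb v 0 y = y
  simp [tv_apply]

theorem tv_pow (v : V) (c : ZMod r) (m : ℕ) : tv b hb v c ^ m = tv b hb v (m * c) := by
  induction m with
  | zero => rw [pow_zero, Nat.cast_zero, zero_mul, tv_zero]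
  | succ m ih => rw [pow_succ, ih, tv_mul, Nat.cast_succ, add_mul, one_mul]

theorem tv_smul (v : V) (m c : ZMod r) : tv b hb (m • v) c = tv b hb v (m ^ 2 * c) := by
  ext y
  change tv b hb (m • v) c y = tv b hb v (m ^ 2 * c) y
  simp only [tv_apply, map_smul, smul_eq_mul, smul_smul]
  congr 2
  ring

/-- The group generated by the transvections. -/
def TG : Subgroup (V ≃ₗ[ZMod r] V) := Subgroup.closure (Set.range fun v => tv b hb v 1)

theorem tv_mem (v : V) (c : ZMod r) : tv b hb v c ∈ TG b hb := by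
  have h : tv b hb v c = tv b hb v 1 ^ c.val := by
    rw [tv_pow, mul_one, ZMod.natCast_zmod_val]
  rw [h]
  exact (TG b hb).pow_mem (Subgroup.subset_closure ⟨v, rfl⟩) _

theorem b_tv (v : V) (c : ZMod r) (x y : V) : b (tv b hb v c x) (tv b hb v c y) = b x y := by
  simp only [tv_apply, map_add, map_smul, LinearMap.add_apply, LinearMap.smul_apply, hb, smul_zero, add_zero,
    smul_eq_mul]
  rw [b_skew b hb v y]
  ring

theorem b_TG {g : V ≃ₗ[ZMod r] V} (hg : g ∈ TG b hb) : ∀ x y : V, b (g x) (g y) = b x y := by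
  induction hg using Subgroup.closure_induction with
  | mem x hx =>
    obtain ⟨v, rfl⟩ := hx
    exact b_tv b hb v 1
  | one => intro x y; rfl
  | mul g h _ _ hg hh =>
    intro x y
    change b (g (h x)) (g (h y)) = _
    rw [hg, hh]
  | inv g _ hg =>
    intro x y
    have := hg (g⁻¹ x) (g⁻¹ y)
    have h1 : ∀ z, g (g⁻¹ z) = z := fun z => by
      change (g * g⁻¹) z = z
      rw [mul_inv_cancel]; rfl
    rw [h1, h1] at this
    exact this.symm

theorem conj_tv {g : V ≃ₗ[ZMod r] V} (hg : ∀ x y : V, b (g x) (g y) = b x y) (v : V) (c : ZMod r) :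
    g * tv b hb v c * g⁻¹ = tv b hb (g v) c := by
  have h1 : ∀ z, g (g⁻¹ z) = z := fun z => by
    change (g * g⁻¹) z = z
    rw [mul_inv_cancel]; rfl
  ext y
  change g (tv b hb v c (g⁻¹ y)) = tv b hb (g v) c y
  rw [tv_apply, tv_apply, map_add, map_smul, h1]
  congr 3
  rw [← hg (g⁻¹ y) v, h1]

theorem exists_nonorth [Finite V] (hnd : ∀ v, (∀ w, b v w = 0) → v = 0) {x y : V} (hx : x ≠ 0) (hy : y ≠ 0) :
    ∃ z, b x z ≠ 0 ∧ b y z ≠ 0 := by
  obtain ⟨z₁, h₁⟩ : ∃ z, b x z ≠ 0 := by
    by_contra h; push Not at h; exact hx (hnd x h)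
  obtain ⟨z₂, h₂⟩ : ∃ z, b y z ≠ 0 := by
    by_contra h; push Not at h; exact hy (hnd y h)
  by_cases h3 : b y z₁ = 0
  · by_cases h4 : b x z₂ = 0
    · exact ⟨z₁ + z₂, by rw [map_add, h4, add_zero]; exact h₁, by rw [map_add, h3, zero_add]; exact h₂⟩
    · exact ⟨z₂, h4, h₂⟩
  · exact ⟨z₁, h₁, h3⟩

/-- If `b x y ≠ 0` a transvection maps `x` to `y`. -/
theorem exists_tv_map {x y : V} (hxy : b x y ≠ 0) : ∃ c, tv b hb (y - x) c x = y := by
  refine ⟨(b x y)⁻¹, ?_⟩
  rw [tv_apply, map_sub, hb, sub_zero, inv_mul_cancel₀ hxy, one_smul, add_sub_cancel]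

/-- Transitivity on non-zero vectors. -/
theorem TG_transitive [Finite V] (hnd : ∀ v, (∀ w, b v w = 0) → v = 0) {x y : V} (hx : x ≠ 0) (hy : y ≠ 0) :
    ∃ g ∈ TG b hb, g x = y := by
  obtain ⟨z, h1, h2⟩ := exists_nonorth b hnd hx hy
  obtain ⟨c, hc⟩ := exists_tv_map b hb h1
  have h3 : b z y ≠ 0 := by
    rw [b_skew b hb z y]
    exact neg_ne_zero.2 h2
  obtain ⟨d, hd⟩ := exists_tv_map b hb h3
  refine ⟨tv b hb (y - z) d * tv b hb (z - x) c, (TG b hb).mul_mem (tv_mem b hb _ _) (tv_mem b hb _ _), ?_⟩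
  change tv b hb (y - z) d (tv b hb (z - x) c x) = y
  rw [hc, hd]

/-- Transitivity on hyperbolic pairs. -/
theorem TG_transitive_pair [Finite V] (hnd : ∀ v, (∀ w, b v w = 0) → v = 0) {x y x' y' : V}
    (h1 : b x y = 1) (h2 : b x' y' = 1) : ∃ g ∈ TG b hb, g x = x' ∧ g y = y' := by
  have h10 : (1 : ZMod r) ≠ 0 := one_ne_zero
  have hx : x ≠ 0 := by rintro rfl; rw [map_zero, LinearMap.zero_apply] at h1; exact h10 h1.symm
  have hx' : x' ≠ 0 := by rintro rfl; rw [map_zero, LinearMap.zero_apply] at h2; exact h10 h2.symm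
  obtain ⟨g, hg, hgx⟩ := TG_transitive b hb hnd hx hx'
  -- reduce to `x = x'`
  have key : ∀ y₁ y₂ : V, b x' y₁ = 1 → b x' y₂ = 1 → ∃ g ∈ TG b hb, g x' = x' ∧ g y₁ = y₂ := by
    -- one step
    have step : ∀ y₁ y₂ : V, b x' y₁ = 1 → b x' y₂ = 1 → b y₁ y₂ ≠ 0 →
        ∃ g ∈ TG b hb, g x' = x' ∧ g y₁ = y₂ := by
      intro y₁ y₂ e1 e2 e3
      obtain ⟨c, hc⟩ := exists_tv_map b hb e3
      refine ⟨_, tv_mem b hb _ c, ?_, hc⟩
      rw [tv_apply, map_sub, e1, e2, sub_self, mul_zero, zero_smul, add_zero]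
    intro y₁ y₂ e1 e2
    by_cases e3 : b y₁ y₂ = 0
    · -- `z = y₁ + m x'`: choose `z = y₁ + x'` : `b y₁ z = - 1`, `b z y₂ = 0 + 1`
      have f1 : b y₁ (y₁ + x') ≠ 0 := by
        rw [map_add, hb, zero_add, b_skew b hb, e1]; exact neg_ne_zero.2 h10
      have f2 : b (y₁ + x') y₂ ≠ 0 := by
        rw [map_add, LinearMap.add_apply, e3, e2, zero_add]; exact h10
      have f3 : b x' (y₁ + x') = 1 := by rw [map_add, hb, add_zero, e1]
      obtain ⟨g₁, hg₁, ha, hb'⟩ := step y₁ _ e1 f3 f1
      obtain ⟨g₂, hg₂, ha2, hb2⟩ := step _ y₂ f3 e2 f2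
      refine ⟨g₂ * g₁, (TG b hb).mul_mem hg₂ hg₁, ?_, ?_⟩
      · change g₂ (g₁ x') = x'; rw [ha, ha2]
      · change g₂ (g₁ y₁) = y₂; rw [hb', hb2]
    · exact step y₁ y₂ e1 e2 e3
  obtain ⟨h, hh, hhx, hhy⟩ := key (g y) y' (by rw [← hgx, b_TG b hb hg, h1]) h2
  refine ⟨h * g, (TG b hb).mul_mem hh hg, ?_, ?_⟩
  · change h (g x) = x'; rw [hgx, hhx]
  · change h (g y) = y'; rw [hhy]

/-- A homomorphism from `TG` to an abelian group takes the same value at all transvections `tv v 1`. -/
theorem hom_eq [Finite V] (hnd : ∀ v, (∀ w, b v w = 0) → v = 0) {A : Type*} [CommGroup A]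
    (φ : TG b hb →* A) {v w : V} (hv : v ≠ 0) (hw : w ≠ 0) :
    φ ⟨tv b hb v 1, tv_mem b hb v 1⟩ = φ ⟨tv b hb w 1, tv_mem b hb w 1⟩ := by
  obtain ⟨g, hg, hgv⟩ := TG_transitive b hb hnd hv hw
  have h1 : (⟨tv b hb w 1, tv_mem b hb w 1⟩ : TG b hb) = ⟨g, hg⟩ * ⟨tv b hb v 1, tv_mem b hb v 1⟩ * ⟨g, hg⟩⁻¹ := by
    apply Subtype.ext
    change tv b hb w 1 = g * tv b hb v 1 * g⁻¹
    rw [conj_tv b hb (b_TG b hb hg), hgv]
  rw [h1, map_mul, map_mul, map_inv, mul_comm (φ ⟨g, hg⟩), mul_assoc, mul_inv_cancel, mul_one]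

/-- The arithmetic conditions for perfectness. -/
def GoodRank : Prop :=
  5 ≤ r ∨ (r = 3 ∧ ∃ x y : V, x ≠ 0 ∧ y ≠ 0 ∧ x + y ≠ 0 ∧ x - y ≠ 0 ∧ b x y = 0) ∨
  (r = 2 ∧ ∃ x y z : V, x ≠ 0 ∧ y ≠ 0 ∧ z ≠ 0 ∧ x + y ≠ 0 ∧ x + z ≠ 0 ∧ y + z ≠ 0 ∧ x + y + z ≠ 0 ∧
    b x y = 0 ∧ b x z = 0 ∧ b y z = 0)

theorem hom_trivial [Finite V] (hnd : ∀ v, (∀ w, b v w = 0) → v = 0) (hgood : GoodRank b) {A : Type*}
    [CommGroup A] (φ : TG b hb →* A) : ∀ g, φ g = 1 := by
  -- the common value
  have hpow : ∀ v : V, φ ⟨tv b hb v 1, tv_mem b hb v 1⟩ ^ r = 1 := by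
    intro v
    rw [← map_pow]
    have : (⟨tv b hb v 1, tv_mem b hb v 1⟩ : TG b hb) ^ r = 1 := by
      apply Subtype.ext
      change tv b hb v 1 ^ r = 1
      rw [tv_pow, CharP.cast_eq_zero, zero_mul, tv_zero]
    rw [this, map_one]
  have hmain : ∀ v : V, φ ⟨tv b hb v 1, tv_mem b hb v 1⟩ = 1 := by
    intro v
    by_cases hv : v = 0
    · subst hv
      have : (⟨tv b hb 0 1, tv_mem b hb 0 1⟩ : TG b hb) = 1 := by
        apply Subtype.ext
        ext y
        change tv b hb 0 1 y = y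
        simp [tv_apply]
      rw [this, map_one]
    rcases hgood with h5 | ⟨h3, x, y, hx, hy, hxy, hxy', hbxy⟩ | ⟨h2, x, y, z, hx, hy, hz, hxy, hxz, hyz, hxyz,
      hbxy, hbxz, hbyz⟩
    · -- `tv (2 v) 1 = (tv v 1) ^ 4`
      have h2 : (2 : ZMod r) ≠ 0 := by
        intro h
        have h' : ((2 : ℕ) : ZMod r) = 0 := by exact_mod_cast h
        rw [ZMod.natCast_eq_zero_iff] at h'
        have := Nat.le_of_dvd (by norm_num) h'
        omega
      have h2v : (2 : ZMod r) • v ≠ 0 := by
        intro h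
        rw [smul_eq_zero] at h
        rcases h with h | h
        · exact h2 h
        · exact hv h
      have e1 := hom_eq b hb hnd φ h2v hv
      have e2 : (⟨tv b hb ((2 : ZMod r) • v) 1, tv_mem b hb _ 1⟩ : TG b hb) = ⟨tv b hb v 1, tv_mem b hb v 1⟩ ^ 4 := by
        apply Subtype.ext
        change tv b hb ((2 : ZMod r) • v) 1 = tv b hb v 1 ^ 4
        rw [tv_pow, tv_smul]
        congr 1
        norm_num
      rw [e2, map_pow] at e1
      set g := φ ⟨tv b hb v 1, tv_mem b hb v 1⟩ with hg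
      have e3 : g ^ 3 = 1 := by
        have : g ^ 3 * g = g := by rw [← pow_succ]; exact e1
        exact mul_eq_right.mp this
      have e4 : orderOf g ∣ 3 := orderOf_dvd_of_pow_eq_one e3
      have e5 : orderOf g ∣ r := orderOf_dvd_of_pow_eq_one (hpow v)
      have hcop : Nat.Coprime 3 r := by
        rw [Nat.coprime_primes Nat.prime_three hr.out]
        omega
      have e6 : orderOf g ∣ 1 := by
        rw [← hcop.gcd_eq_one]
        exact Nat.dvd_gcd e4 e5
      exact orderOf_eq_one_iff.1 (Nat.dvd_one.1 e6)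
    · subst h3
      have e1 := hom_eq b hb hnd φ hx hv
      have e2 := hom_eq b hb hnd φ hy hv
      have e3 := hom_eq b hb hnd φ hxy hv
      have e4 := hom_eq b hb hnd φ hxy' hv
      have hyx : b y x = 0 := by rw [b_skew b hb, hbxy, neg_zero]
      have e5 : (⟨tv b hb x 1, tv_mem b hb x 1⟩ : TG b hb) * ⟨tv b hb y 1, tv_mem b hb y 1⟩ *
          ⟨tv b hb (x + y) 1, tv_mem b hb _ 1⟩ * ⟨tv b hb (x - y) 1, tv_mem b hb _ 1⟩ = 1 := by
        apply Subtype.ext
        ext w
        change tv b hb x 1 (tv b hb y 1 (tv b hb (x + y) 1 (tv b hb (x - y) 1 w))) = w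
        simp only [tv_apply, map_add, map_sub, map_smul, LinearMap.add_apply, LinearMap.sub_apply,
          LinearMap.smul_apply, hb, hbxy, hyx, smul_zero, smul_eq_mul, mul_zero, zero_smul, add_zero, sub_zero, one_mul,
          sub_self]
        generalize b w x = s
        generalize b w y = t
        have h3s : ∀ (c : ZMod 3) (u : V), c • u + c • u + c • u = 0 := by
          intro c u
          rw [← add_smul, ← add_smul]
          have : c + c + c = 0 := by
            have h3 : (3 : ZMod 3) = 0 := rfl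
            calc c + c + c = 3 * c := by ring
              _ = 0 := by rw [h3, zero_mul]
          rw [this, zero_smul]
        have hA := h3s s x
        have hB := h3s t y
        have : w + s • x + t • y + (s + t) • (x + y) + (s - t) • (x - y) =
            w + (s • x + s • x + s • x) + (t • y + t • y + t • y) := by
          simp only [sub_smul, add_smul, smul_sub, smul_add]
          abel
        rw [this, hA, hB, add_zero, add_zero]
      have e6 := congrArg φ e5
      rw [map_mul, map_mul, map_mul, map_one, e1, e2, e3, e4] at e6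
      have e7 := hpow v
      set g := φ ⟨tv b hb v 1, tv_mem b hb v 1⟩ with hg
      have e8 : g ^ 3 * g = 1 := by rw [← e6]; rw [pow_succ, pow_two]
      rwa [e7, one_mul] at e8
    · subst h2
      have e1 := hom_eq b hb hnd φ hx hv
      have e2 := hom_eq b hb hnd φ hy hv
      have e3 := hom_eq b hb hnd φ hz hv
      have e4 := hom_eq b hb hnd φ hxy hv
      have e5 := hom_eq b hb hnd φ hxz hv
      have e6 := hom_eq b hb hnd φ hyz hv
      have e7 := hom_eq b hb hnd φ hxyz hv
      have hyx : b y x = 0 := by rw [b_skew b hb, hbxy, neg_zero]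
      have hzx : b z x = 0 := by rw [b_skew b hb, hbxz, neg_zero]
      have hzy : b z y = 0 := by rw [b_skew b hb, hbyz, neg_zero]
      have e8 : (⟨tv b hb x 1, tv_mem b hb x 1⟩ : TG b hb) * ⟨tv b hb y 1, tv_mem b hb y 1⟩ *
          ⟨tv b hb z 1, tv_mem b hb _ 1⟩ * ⟨tv b hb (x + y) 1, tv_mem b hb _ 1⟩ *
          ⟨tv b hb (x + z) 1, tv_mem b hb _ 1⟩ * ⟨tv b hb (y + z) 1, tv_mem b hb _ 1⟩ *
          ⟨tv b hb (x + y + z) 1, tv_mem b hb _ 1⟩ = 1 := by
        apply Subtype.ext
        ext w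
        change tv b hb x 1 (tv b hb y 1 (tv b hb z 1 (tv b hb (x + y) 1 (tv b hb (x + z) 1
          (tv b hb (y + z) 1 (tv b hb (x + y + z) 1 w)))))) = w
        simp only [tv_apply, map_add, map_smul, LinearMap.add_apply, LinearMap.smul_apply, hb, hbxy, hyx, hbxz,
          hzx, hbyz, hzy, smul_zero, smul_eq_mul, mul_zero, zero_smul, add_zero, one_mul]
        generalize b w x = s
        generalize b w y = t
        generalize b w z = u
        have h2s : ∀ (c : ZMod 2) (v : V), c • v + c • v = 0 := by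
          intro c u
          rw [← add_smul]
          have : c + c = 0 := by
            have h3 : (2 : ZMod 2) = 0 := rfl
            calc c + c = 2 * c := by ring
              _ = 0 := by rw [h3, zero_mul]
          rw [this, zero_smul]
        have key : w + s • x + t • y + u • z + (s + t) • (x + y) + (s + u) • (x + z) + (t + u) • (y + z) +
            (s + t + u) • (x + y + z) = w + (s • x + s • x) + (s • x + s • x) + (t • y + t • y) + (t • y + t • y) +
              (u • z + u • z) + (u • z + u • z) + (s • y + s • y) + (s • z + s • z) + (t • x + t • x) +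
              (t • z + t • z) + (u • x + u • x) + (u • y + u • y) := by
          simp only [add_smul, smul_add]
          abel
        rw [key]
        simp only [h2s, add_zero]
      have e9 := congrArg φ e8
      rw [map_mul, map_mul, map_mul, map_mul, map_mul, map_mul, map_one, e1, e2, e3, e4, e5, e6, e7] at e9
      have e10 := hpow v
      set g := φ ⟨tv b hb v 1, tv_mem b hb v 1⟩ with hg
      have e11 : g ^ 2 * g ^ 2 * g ^ 2 * g = 1 := by rw [← e9]; simp only [pow_two, mul_assoc]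
      rwa [e10, one_mul, one_mul, one_mul] at e11
  rintro ⟨g, hg⟩
  induction hg using Subgroup.closure_induction with
  | mem x hx =>
    obtain ⟨v, rfl⟩ := hx
    exact hmain v
  | one => exact map_one φ
  | mul g h hg hh ihg ihh =>
    have : (⟨g * h, (TG b hb).mul_mem hg hh⟩ : TG b hb) = ⟨g, hg⟩ * ⟨h, hh⟩ := rfl
    rw [this, map_mul, ihg, ihh, one_mul]
  | inv g hg ihg =>
    have : (⟨g⁻¹, (TG b hb).inv_mem hg⟩ : TG b hb) = ⟨g, hg⟩⁻¹ := rfl
    rw [this, map_inv, ihg, inv_one]

/-- The transvection group is perfect. -/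
theorem TG_perfect [Finite V] (hnd : ∀ v, (∀ w, b v w = 0) → v = 0) (hgood : GoodRank b) :
    commutator (TG b hb) = ⊤ := by
  rw [eq_top_iff]
  intro g _
  have h := hom_trivial b hb hnd hgood (Abelianization.of (G := TG b hb)) g
  rwa [← MonoidHom.mem_ker, Abelianization.ker_of] at h

end Cfsg.Agent.H878
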