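import Cfsg.Agent.H878.OddCases
import Cfsg.Agent.H917.Four
import Cfsg.Agent.S2086
import Cfsg.Agent.S2089
import Cfsg.Agent.S2096
import Cfsg.Agent.S2099
import Cfsg.Agent.LieClassical.OrthForms
import Cfsg.Agent.LieClassical.OrthFinite

/-!
# The known simple groups which can be the simple quotient of the core, `r = 2`, `n ≥ 16` (helper878)
-/

set_option autoImplicit false

namespace Cfsg.Agent.H878

open Cfsg Cfsg.Geo Matrix
open scoped MatrixGroups

universe u

section mult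

variable {ι : Type} [Fintype ι] [DecidableEq ι] {F : Type u} [Field F]

/-- The exponent of the multiplier is divisible by the order of an element of the kernel. -/
theorem order_dvd_of_kerExp {P : Subgroup (GL ι F)} [Finite F] (hPP : ⁅P, P⁆ = P) {g N : ℕ}
    (hx : ∃ x : P, x ∈ (scalars ι F).subgroupOf P ∧ orderOf x = N) (hg : KerExp.{u} g (SQ P)) : N ∣ g := by
  obtain ⟨x, hx, hxo⟩ := hx
  rw [← hxo]
  apply orderOf_dvd_of_pow_eq_one
  have hcomm : commutator P = ⊤ := by
    rw [eq_top_iff]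
    have h1 : (commutator P).map P.subtype = P := by
      rw [commutator_def, Subgroup.map_commutator, ← MonoidHom.range_eq_map, Subgroup.range_subtype, hPP]
    intro y _
    have h2 : (y : GL ι F) ∈ (commutator P).map P.subtype := by rw [h1]; exact y.2
    obtain ⟨z, hz, hzy⟩ := h2
    have : z = y := Subtype.ext hzy
    rw [← this]; exact hz
  refine hg P (QuotientGroup.mk' _) (QuotientGroup.mk'_surjective _) ?_ hcomm x ?_
  · rw [QuotientGroup.ker_mk']
    intro y hy
    rw [Subgroup.mem_center_iff]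
    intro g
    rw [Subgroup.mem_subgroupOf] at hy
    exact (Subtype.ext (H920.scalars_comm hy g)).symm
  · rw [QuotientGroup.ker_mk']; exact hx

theorem order_dvd_of_cyc {P : Subgroup (GL ι F)} [Finite F] (hPP : ⁅P, P⁆ = P) {g N : ℕ}
    (hx : ∃ x : P, x ∈ (scalars ι F).subgroupOf P ∧ orderOf x = N) {T : Type*} [Group T]
    (hT : HasCyclicSchurMultiplier T g) (e : SQ P ≃* T) : N ∣ g :=
  order_dvd_of_kerExp hPP hx ((kerExp_of_cyc hT).congr e)

theorem not_noFour {P : Subgroup (GL ι F)} [Finite F] (hPP : ⁅P, P⁆ = P)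
    (hker : IsPGroup 2 ((scalars ι F).subgroupOf P))
    (hx : ∃ x : P, x ∈ (scalars ι F).subgroupOf P ∧ orderOf x = 4) : ¬ H917.NoFour.{u} (SQ P) := by
  intro hno
  obtain ⟨x, hx, hxo⟩ := hx
  have hcomm : commutator P = ⊤ := by
    rw [eq_top_iff]
    have h1 : (commutator P).map P.subtype = P := by
      rw [commutator_def, Subgroup.map_commutator, ← MonoidHom.range_eq_map, Subgroup.range_subtype, hPP]
    intro y _
    have h2 : (y : GL ι F) ∈ (commutator P).map P.subtype := by rw [h1]; exact y.2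
    obtain ⟨z, hz, hzy⟩ := h2
    have : z = y := Subtype.ext hzy
    rw [← this]; exact hz
  have h2 : x ^ 2 = 1 := by
    refine hno P (QuotientGroup.mk' _) (QuotientGroup.mk'_surjective _) ?_ hcomm ?_ x ?_
    · rw [QuotientGroup.ker_mk']
      intro y hy
      rw [Subgroup.mem_center_iff]
      intro g
      rw [Subgroup.mem_subgroupOf] at hy
      exact (Subtype.ext (H920.scalars_comm hy g)).symm
    · rw [QuotientGroup.ker_mk']; exact hker
    · rw [QuotientGroup.ker_mk']; exact hx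
  have h3 := orderOf_dvd_of_pow_eq_one h2
  rw [hxo] at h3
  exact absurd h3 (by decide)

end mult

/-- The outcome, `r = 2`. -/
def TwoOut (n p : ℕ) (T : Type*) [Group T] : Prop :=
  (∃ (K : Type) (_ : Field K) (_ : Fintype K) (d : ℕ), CharP K p ∧ n ≤ d ∧ 4 ∣ Fintype.card K - 1 ∧
      Nonempty (T ≃* Matrix.ProjectiveSpecialLinearGroup (Fin d) K)) ∨
    (∃ (K : Type) (_ : Field K) (_ : Fintype K) (d q : ℕ), Fintype.card K = q ^ 2 ∧ CharP K p ∧ n ≤ d ∧
      4 ∣ q + 1 ∧ Nonempty (T ≃* PSU d K q)) ∨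
    (∃ (K : Type) (_ : Field K) (_ : Fintype K) (l : ℕ), 5 ≤ l ∧ Odd l ∧ 4 ∣ Fintype.card K - 1 ∧ n ≤ 2 * l ∧
      Nonempty (T ≃* POmega K (quadFormPlus l K))) ∨
    (∃ (K : Type) (_ : Field K) (_ : Fintype K) (l : ℕ) (a b : K), 5 ≤ l ∧ Odd l ∧ 4 ∣ Fintype.card K + 1 ∧
      n ≤ 2 * l ∧ (∀ z₁ z₂ : K, z₁ ^ 2 + a * z₁ * z₂ + b * z₂ ^ 2 = 0 → z₁ = 0 ∧ z₂ = 0) ∧
      Nonempty (T ≃* POmega K (quadFormMinus (l - 1) K a b)))

theorem dvd_of_odd_pow {q l : ℕ} (hl : Odd l) (hq : 1 ≤ q) (h : 4 ∣ q ^ l - 1) : 4 ∣ q - 1 := by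
  obtain ⟨j, rfl⟩ := hl
  have h1 : 1 ≤ q ^ (2 * j + 1) := Nat.one_le_pow _ _ hq
  have h2 : q ^ (2 * j + 1) % 4 = 1 := by omega
  have h3 : q % 4 = 0 ∨ q % 4 = 1 ∨ q % 4 = 2 ∨ q % 4 = 3 := by omega
  rw [pow_succ, pow_mul, Nat.mul_mod, Nat.pow_mod, Nat.pow_mod q 2] at h2
  rcases h3 with h3 | h3 | h3 | h3 <;> rw [h3] at h2
  · simp at h2
  · omega
  · norm_num [Nat.mod_mod] at h2
    rcases j with _ | j <;> simp at h2
  · norm_num at h2

theorem dvd_of_odd_pow_add {q l : ℕ} (hl : Odd l) (h : 4 ∣ q ^ l + 1) : 4 ∣ q + 1 := by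
  obtain ⟨j, rfl⟩ := hl
  have h2 : q ^ (2 * j + 1) % 4 = 3 := by omega
  have h3 : q % 4 = 0 ∨ q % 4 = 1 ∨ q % 4 = 2 ∨ q % 4 = 3 := by omega
  rw [pow_succ, pow_mul, Nat.mul_mod, Nat.pow_mod, Nat.pow_mod q 2] at h2
  rcases h3 with h3 | h3 | h3 | h3 <;> rw [h3] at h2
  · simp at h2
  · norm_num at h2
  · norm_num [Nat.mod_mod] at h2
    rcases j with _ | j <;> simp at h2
  · omega

/-- The field of order divisible by 4 plus or minus 1 is odd. -/
theorem two_ne_of_sub {K : Type} [Field K] [Fintype K] (h : 4 ∣ Fintype.card K - 1) : ((2 : ℕ) : K) ≠ 0 := by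
  have : Fact (Nat.Prime 2) := ⟨Nat.prime_two⟩
  exact cast_ne_zero_of_dvd_sub ((show 2 ∣ 4 by decide).trans h)

theorem two_ne_of_add {K : Type} [Field K] [Fintype K] (h : 4 ∣ Fintype.card K + 1) : ((2 : ℕ) : K) ≠ 0 := by
  have : Fact (Nat.Prime 2) := ⟨Nat.prime_two⟩
  apply cast_ne_zero_of_dvd_sub
  have h1 : 1 ≤ Fintype.card K := Fintype.card_pos
  obtain ⟨j, hj⟩ := h
  exact ⟨2 * j - 1, by omega⟩

section main

variable {ι : Type} [Fintype ι] [DecidableEq ι] {F : Type u} [Field F]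
  {V : Type*} [AddCommGroup V] [Module (ZMod 2) V] [Finite V]
  {ψ : AddChar (ZMod 2) F} {b : V →ₗ[ZMod 2] V →ₗ[ZMod 2] ZMod 2} {X : V → GL ι F}

/-- An element of order 4 in the kernel. -/
theorem exists_ker_four [Nonempty ι] (h : Frame ψ b X) (hn : Normed 2 X) {P : Subgroup (GL ι F)} (hP : NT1 h ≤ P)
    (hperf : commutator (TG b h.alt) = ⊤) (hV : 4 ≤ Module.finrank (ZMod 2) V) {m : ℕ}
    (hm : Fintype.card ι = 2 ^ m) : ∃ x : P, x ∈ (scalars ι F).subgroupOf P ∧ orderOf x = 4 := by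
  obtain ⟨g, hg, c, hc, hgc⟩ := exists_i_mem h hn hperf hV hm
  refine ⟨⟨g, hP hg⟩, ?_, ?_⟩
  · rw [Subgroup.mem_subgroupOf]
    exact H920.mem_scalars_of_val hgc
  · have h1 : orderOf g = 2 ^ (1 + 1) := by
      have : Fact (Nat.Prime 2) := ⟨Nat.prime_two⟩
      refine orderOf_eq_prime_pow ?_ ?_
      · intro h2
        have h3 := scalar_pow_val hgc (2 ^ 1)
        rw [h2, Units.val_one, pow_one, hc] at h3
        have h4 : (1 : F) • (1 : Matrix ι ι F) = (-1 : F) • 1 := by rw [one_smul]; exact h3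
        have h5 := smul_one_inj h4
        have h6 := h.inj 1
        rw [psi_one_two h] at h6
        exact absurd (h6 h5.symm) one_ne_zero
      · apply Units.ext
        rw [scalar_pow_val hgc]
        have : c ^ 2 ^ (1 + 1) = 1 := by
          have : c ^ 2 ^ (1 + 1) = (c ^ 2) ^ 2 := by norm_num [← pow_mul]
          rw [this, hc]; ring
        rw [this, one_smul, Units.val_one]
    rw [← Subgroup.orderOf_coe]
    exact h1

open Cfsg.Agent.LieClassical Cfsg.Agent.LieClassical.OrthCore Cfsg.Agent.LieClassical.OrthTrans Cfsg.Agent.LieClassical.OrthForms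
  Cfsg.Agent.LieClassical.OrthFinite in
/-- **The candidates, `r = 2`.** -/
theorem two_cases [Finite F] [Nonempty ι] {k p : ℕ} (hk4 : 4 ≤ k)
    (hcard : Fintype.card ι = 2 ^ k) (hpF : CharP F p)
    (hk : Module.finrank (ZMod 2) V = 2 * k) (h : Frame ψ b X) (hn : Normed 2 X) {P : Subgroup (GL ι F)}
    (hP : NT1 h ≤ P) (hPP : ⁅P, P⁆ = P) (hPS : P ≤ specialLinear ι F) (hT : IsKnownSimple' (SQ P))
    (hna : ¬ IsMulCommutative (SQ P)) : TwoOut (2 ^ k) p (SQ P) := by
  classical
  have hfin : Finite (SQ P) := inferInstance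
  have h16 : 16 ≤ 2 ^ k := by
    have : 2 ^ 4 ≤ 2 ^ k := Nat.pow_le_pow_right (by norm_num) hk4
    omega
  have hV : Nontrivial V := Module.nontrivial_of_finrank_pos (R := ZMod 2) (by omega)
  have hgood : GoodRank b := goodRank_of_finrank b (Or.inr (Or.inr ⟨rfl, by omega⟩))
  have hTG : commutator (TG b h.alt) = ⊤ := TG_perfect b h.alt h.nondeg hgood
  have S := sctx h hn hP hTG
  have hker : IsPGroup 2 ((scalars ι F).subgroupOf P) := ker_isPGroup hcard hPS
  have hx4 := exists_ker_four h hn hP hTG (by omega) hcard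
  have hp0 : p.Prime := by
    have := hpF
    exact (CharP.char_is_prime_or_zero F p).resolve_right (by
      rintro rfl
      exact (CharP.char_ne_zero_of_finite F 0) rfl)
  have hsr : ∀ (K : Type) [Field K] [Fintype K] (s : ℕ), CharP K s → ((2 : ℕ) : K) ≠ 0 → s.Prime ∧ s ≠ 2 := by
    intro K _ _ s hs h0
    refine ⟨CharP.char_is_prime K s, ?_⟩
    rintro rfl
    exact h0 (CharP.cast_eq_zero K 2)
  have hchar : ∀ s : ℕ, s.Prime → ((s : F) = 0) → s = p := by
    intro s hs h0
    have := hpF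
    exact ((Nat.prime_dvd_prime_iff_eq hp0 hs).1 ((CharP.cast_eq_zero_iff F p s).1 h0)).symm
  have hd := S.dvd_card_four (by omega)
  have h15 : 2 ^ 15 ∣ Nat.card (SQ P) := by
    refine dvd_trans ?_ (dvd_trans (Dvd.intro_left _ rfl) hd)
    rw [hk]
    exact pow_dvd_pow 2 (by omega)
  rcases H917.no_four.{u} hT (fun hc => hna ⟨⟨hc⟩⟩) h15 with h1 | h1 | h1 | h1 | h1
  · exact absurd h1 (not_noFour hPP hker hx4)
  · obtain ⟨K, _, _, d, hd2, hodd, ⟨e⟩⟩ := h1
    left
    have h0 : ((2 : ℕ) : K) ≠ 0 := by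
      intro h2
      have h3 : ringChar K ∣ 2 := (ringChar.spec K 2).1 h2
      have h4 : ringChar K = 2 :=
        (Nat.prime_dvd_prime_iff_eq (CharP.char_is_prime K (ringChar K)) Nat.prime_two).1 h3
      have h5 : 2 ∣ Fintype.card K := by
        rw [← h4]
        exact (CharP.cast_eq_zero_iff K (ringChar K) _).1 (FiniteField.cast_card_eq_zero K)
      rw [← Nat.not_even_iff_odd, even_iff_two_dvd] at hodd
      exact hodd h5
    obtain ⟨θ, hθ⟩ := (H917.natRep_psl K d).congr e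
    have hdn : 2 ^ k ≤ d := by
      have := natdim_le S h0 hk θ hθ
      rwa [Fintype.card_fin] at this
    have h4 : 4 ∣ Fintype.card K - 1 := by
      refine (order_dvd_of_cyc hPP hx4 (S2086.result rfl d hd2 (by omega) ?_) e).trans (Nat.gcd_dvd_right _ _)
      simp only [Set.mem_insert_iff, Prod.mk.injEq, Set.mem_singleton_iff]
      omega
    have hsc : CharP K (ringChar K) := inferInstance
    obtain ⟨hs, hsr'⟩ := hsr K (ringChar K) hsc h0
    have hsp : ringChar K = p := by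
      apply hchar _ hs
      by_contra hne
      have hb := ((H912.Bd.bd_psl (F := F) (r := ringChar K) hs hne (show 3 ≤ d by omega) hsc).congr e) _
        (pr_of hcard hker hs hsr')
      have h2 : 2 ≤ Fintype.card K := Fintype.one_lt_card
      have h3 : 2 ^ (d - 1) ≤ Fintype.card K ^ (d - 1) := Nat.pow_le_pow_left h2 _
      have h4 := (two_pow_gt (show 5 ≤ d by omega)).1
      have h6 : 2 ^ (d - 1) = 2 ^ (d - 2) * 2 := by
        rw [← pow_succ]; congr 1; omega
      omega
    rw [hsp] at hsc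
    exact ⟨K, inferInstance, inferInstance, d, hsc, hdn, h4, ⟨e⟩⟩
  · obtain ⟨K, _, _, d, q, hK, hd3, hodd, ⟨e⟩⟩ := h1
    right; left
    have h0 : ((2 : ℕ) : K) ≠ 0 := by
      intro h2
      have h3 : ringChar K ∣ 2 := (ringChar.spec K 2).1 h2
      have h4 : ringChar K = 2 :=
        (Nat.prime_dvd_prime_iff_eq (CharP.char_is_prime K (ringChar K)) Nat.prime_two).1 h3
      have h5 : 2 ∣ Fintype.card K := by
        rw [← h4]
        exact (CharP.cast_eq_zero_iff K (ringChar K) _).1 (FiniteField.cast_card_eq_zero K)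
      rw [hK] at h5
      have h6 := Nat.prime_two.dvd_of_dvd_pow h5
      rw [← Nat.not_even_iff_odd, even_iff_two_dvd] at hodd
      exact hodd h6
    obtain ⟨θ, hθ⟩ := (H917.natRep_psu hK hd3).congr e
    have hdn : 2 ^ k ≤ d := by
      have := natdim_le S h0 hk θ hθ
      rwa [Fintype.card_fin] at this
    have h4 : 4 ∣ q + 1 := by
      refine (order_dvd_of_cyc hPP hx4 (S2089.result d q hK hd3 (by omega) ?_) e).trans (Nat.gcd_dvd_right _ _)
      simp only [Set.mem_insert_iff, Prod.mk.injEq, Set.mem_singleton_iff]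
      omega
    have hsc : CharP K (ringChar K) := inferInstance
    obtain ⟨hs, hsr'⟩ := hsr K (ringChar K) hsc h0
    have hsp : ringChar K = p := by
      apply hchar _ hs
      by_contra hne
      have hb := (H175.BdSU.bd_psu (F := F) hs hK hd3 hne e) _ (pr_of hcard hker hs hsr')
      have hq2 : 2 ≤ q := by
        obtain ⟨j, hj⟩ := h4
        omega
      have h3 : 2 ^ (d - 2) ≤ q ^ (d - 2) := Nat.pow_le_pow_left hq2 _
      have h4 := (two_pow_gt (show 5 ≤ d by omega)).2
      have h6 : 1 * q ^ (d - 2) ≤ (q - 1) * q ^ (d - 2) := Nat.mul_le_mul_right _ (by omega)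
      omega
    rw [hsp] at hsc
    exact ⟨K, inferInstance, inferInstance, d, q, hK, hsc, hdn, h4, ⟨e⟩⟩
  · obtain ⟨K, _, _, l, hl5, hl, hodd, ⟨e⟩⟩ := h1
    right; right; left
    have h4' : 4 ∣ Fintype.card K ^ l - 1 :=
      (order_dvd_of_cyc hPP hx4 (S2096.result rfl l hl5 hl) e).trans (Nat.gcd_dvd_right _ _)
    have h4 : 4 ∣ Fintype.card K - 1 := dvd_of_odd_pow hl Fintype.card_pos h4'
    have hG : Good (plusForm l K) := by
      apply good_of_finite (nondeg_plusForm l K)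
      rw [Module.finrank_fintype_fun_eq_card, Fintype.card_sum, Fintype.card_fin]
      omega
    have hN := H917.natRep_pomega hG
    rw [coe_plusForm] at hN
    obtain ⟨θ, hθ⟩ := hN.congr e
    have hdn := natdim_le S (two_ne_of_sub h4) hk θ hθ
    rw [Fintype.card_sum, Fintype.card_fin] at hdn
    exact ⟨K, inferInstance, inferInstance, l, hl5, hl, h4, by omega, ⟨e⟩⟩
  · obtain ⟨K, _, _, l, a, c, hl5, hl, hodd, hac, ⟨e⟩⟩ := h1
    right; right; right
    have h4' : 4 ∣ Fintype.card K ^ l + 1 :=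
      (order_dvd_of_cyc hPP hx4 (S2099.result rfl l (by omega) a c hac) e).trans (Nat.gcd_dvd_right _ _)
    have h4 : 4 ∣ Fintype.card K + 1 := dvd_of_odd_pow_add hl h4'
    have hG : Good (minusForm (l - 1) K a c) := by
      apply good_of_finite (nondeg_minusForm (l - 1) K a c hac)
      rw [Module.finrank_fintype_fun_eq_card, Fintype.card_sum, Fintype.card_sum, Fintype.card_fin, Fintype.card_fin]
      omega
    have hN := H917.natRep_pomega hG
    rw [coe_minusForm] at hN
    obtain ⟨θ, hθ⟩ := hN.congr e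
    have hdn := natdim_le S (two_ne_of_add h4) hk θ hθ
    rw [Fintype.card_sum, Fintype.card_sum, Fintype.card_fin, Fintype.card_fin] at hdn
    exact ⟨K, inferInstance, inferInstance, l, a, c, hl5, hl, h4, by omega, hac, ⟨e⟩⟩

end main

end Cfsg.Agent.H878
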