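import Cfsg.Agent.H878.PStep

/-!
# Scalars in `NT1` (helper878)
-/

set_option autoImplicit false
set_option linter.unusedSimpArgs false
set_option linter.unusedSectionVars false

namespace Cfsg.Agent.H878

open Cfsg Cfsg.Geo Matrix
open scoped MatrixGroups

variable {ι : Type} [Fintype ι] [DecidableEq ι] {F : Type*} [Field F]

theorem smul_one_inj [Nonempty ι] {c d : F} (h : c • (1 : Matrix ι ι F) = d • 1) : c = d :=
  smul_left_injective F (one_ne_zero : (1 : Matrix ι ι F) ≠ 0) h

theorem scalar_pow_val {g : GL ι F} {c : F} (h : (g : Matrix ι ι F) = c • 1) (m : ℕ) :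
    ((g ^ m : GL ι F) : Matrix ι ι F) = c ^ m • 1 := by
  rw [Units.val_pow_eq_pow_val, h, smul_pow, one_pow]

section

variable {r : ℕ} [hr : Fact r.Prime] {V : Type*} [AddCommGroup V] [Module (ZMod r) V] [Finite V]
  {ψ : AddChar (ZMod r) F} {b : V →ₗ[ZMod r] V →ₗ[ZMod r] ZMod r} {X : V → GL ι F}

theorem psi_pow (ψ : AddChar (ZMod r) F) : ψ 1 ^ r = 1 := by
  rw [← AddChar.map_nsmul_eq_pow, nsmul_eq_mul, CharP.cast_eq_zero, zero_mul, AddChar.map_zero_eq_one]

theorem exists_hyp (h : Frame ψ b X) [Nontrivial V] : ∃ v w : V, b v w = 1 := by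
  obtain ⟨v, hv⟩ := exists_ne (0 : V)
  obtain ⟨w, hw⟩ : ∃ w, b v w ≠ 0 := by
    by_contra hcon
    push Not at hcon
    exact hv (h.nondeg v hcon)
  refine ⟨v, (b v w)⁻¹ • w, ?_⟩
  rw [map_smul, smul_eq_mul, inv_mul_cancel₀ hw]

/-- The commutator of two lifts. -/
theorem exists_psi_mem [Nonempty ι] [Nontrivial V] (h : Frame ψ b X) (hn : Normed r X) :
    ∃ g ∈ NT1 h, (g : Matrix ι ι F) = ψ 1 • 1 := by
  obtain ⟨v, w, hvw⟩ := exists_hyp h
  obtain ⟨x, hx, c, hc0, hc⟩ := X_mem_NT1 h hn v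
  obtain ⟨y, hy, d, hd0, hd⟩ := X_mem_NT1 h hn w
  refine ⟨x * y * x⁻¹ * y⁻¹, mul_mem (mul_mem (mul_mem hx hy) (inv_mem hx)) (inv_mem hy), ?_⟩
  have h1 : (x : Matrix ι ι F) * (y : Matrix ι ι F) = ψ 1 • ((y : Matrix ι ι F) * (x : Matrix ι ι F)) := by
    have := h.comm v w
    rw [hvw] at this
    rw [hc, hd, Matrix.smul_mul, Matrix.mul_smul, this, Matrix.smul_mul, Matrix.mul_smul, smul_comm d c,
      smul_comm d (ψ 1), smul_comm c (ψ 1)]
  have h2 : x * y * x⁻¹ * y⁻¹ = (x * y) * (y * x)⁻¹ := by group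
  rw [h2, Units.val_mul, Units.val_mul, h1, Matrix.smul_mul, ← Units.val_mul, ← Units.val_mul, mul_inv_cancel,
    Units.val_one]

theorem orderOf_psi [Nonempty ι] (h : Frame ψ b X) {g : GL ι F} (hg : (g : Matrix ι ι F) = ψ 1 • 1) :
    orderOf g = r := by
  rw [orderOf_eq_prime_iff]
  constructor
  · apply Units.ext
    rw [scalar_pow_val hg, psi_pow, one_smul, Units.val_one]
  · intro h1
    rw [h1, Units.val_one] at hg
    have h2 : (1 : F) • (1 : Matrix ι ι F) = ψ 1 • 1 := by rw [one_smul]; exact hg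
    have h3 := smul_one_inj h2
    have h4 := h.inj 1 h3.symm
    exact one_ne_zero h4

end

section two

variable {V : Type*} [AddCommGroup V] [Module (ZMod 2) V] [Finite V]
  {ψ : AddChar (ZMod 2) F} {b : V →ₗ[ZMod 2] V →ₗ[ZMod 2] ZMod 2} {X : V → GL ι F}

theorem psi_one_two (h : Frame ψ b X) : ψ 1 = -1 := by
  have h1 : ψ 1 * ψ 1 = 1 := by
    have := psi_pow ψ
    rwa [sq] at this
  rcases mul_self_eq_one_iff.1 h1 with h2 | h2
  · exact absurd (h.inj _ h2) (by decide)
  · exact h2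

/-- For `r = 2` the group `NT1` contains a scalar of order `4`. -/
theorem exists_i_mem [Nonempty ι] (h : Frame ψ b X) (hn : Normed 2 X)
    (hperf : commutator (TG b h.alt) = ⊤) (hV : 4 ≤ Module.finrank (ZMod 2) V) {m : ℕ}
    (hm : Fintype.card ι = 2 ^ m) :
    ∃ g ∈ NT1 h, ∃ c : F, c ^ 2 = -1 ∧ (g : Matrix ι ι F) = c • 1 := by
  classical
  have hX : ∀ v, (X v : Matrix ι ι F) * (X v : Matrix ι ι F) = -1 := by
    rcases hn with ⟨h1, _⟩ | ⟨_, h1⟩
    · exact absurd h1 (by decide)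
    · exact h1
  by_contra hcon
  push Not at hcon
  -- scalars in `NT1` are `± 1`
  have hZ : ∀ g ∈ NT1 h, ∀ c : F, (g : Matrix ι ι F) = c • 1 → c = 1 ∨ c = -1 := by
    intro g hg c hc
    have hdet : c ^ (2 ^ m) = 1 := by
      have h1 := NT1_le_SL h hg
      rw [specialLinear, MonoidHom.mem_ker] at h1
      have h2 := congrArg Units.val h1
      rw [Matrix.GeneralLinearGroup.val_det_apply, hc, Matrix.det_smul, Matrix.det_one, mul_one, hm,
        Units.val_one] at h2
      exact h2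
    by_contra hne
    push Not at hne
    -- minimal `j` with `c ^ 2 ^ j = 1`
    have hex : ∃ j, c ^ (2 ^ j) = 1 := ⟨m, hdet⟩
    set j := Nat.find hex with hj
    have hj1 : c ^ (2 ^ j) = 1 := Nat.find_spec hex
    have hj2 : 2 ≤ j := by
      by_contra hlt
      have : j = 0 ∨ j = 1 := by omega
      rcases this with h0 | h0
      · rw [h0, pow_zero, pow_one] at hj1
        exact hne.1 hj1
      · rw [h0, pow_one, sq] at hj1
        rcases mul_self_eq_one_iff.1 hj1 with h3 | h3
        · exact hne.1 h3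
        · exact hne.2 h3
    obtain ⟨i, hi⟩ : ∃ i, j = i + 2 := ⟨j - 2, by omega⟩
    have h3 : (c ^ (2 ^ i)) ^ 2 = -1 := by
      have h4 : (c ^ (2 ^ (i + 1))) * (c ^ (2 ^ (i + 1))) = 1 := by
        rw [← pow_add, ← two_mul, ← pow_succ', ← hi]
        exact hj1
      rcases mul_self_eq_one_iff.1 h4 with h5 | h5
      · exfalso
        exact Nat.find_min hex (m := i + 1) (by omega) h5
      · rw [← pow_mul, ← pow_succ]
        exact h5
    exact hcon (g ^ (2 ^ i)) (pow_mem hg _) (c ^ (2 ^ i)) h3 (scalar_pow_val hc _)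
  -- the lifts
  have hlift := fun v => X_mem_NT1 h hn v
  choose x hx c hc0 hc using hlift
  have hq : ∀ v, c v ^ 2 = 1 ∨ c v ^ 2 = -1 := by
    intro v
    have h1 : ((x v * x v : GL ι F) : Matrix ι ι F) = (-(c v ^ 2)) • 1 := by
      rw [Units.val_mul, hc v, Matrix.smul_mul, Matrix.mul_smul, smul_smul, hX, neg_smul, smul_neg, sq]
    rcases hZ _ (mul_mem (hx v) (hx v)) _ h1 with h2 | h2
    · right
      rw [← h2, neg_neg]
    · left
      exact neg_inj.1 h2
  -- the value does not depend on the lift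
  have huniq : ∀ v, ∀ g ∈ NT1 h, ∀ d : F, (g : Matrix ι ι F) = d • (X v : Matrix ι ι F) → d ^ 2 = c v ^ 2 := by
    intro v g hg d hd
    have h1 : ((g * (x v)⁻¹ : GL ι F) : Matrix ι ι F) = (d * (c v)⁻¹) • 1 := by
      have h2 : (g : Matrix ι ι F) = (d * (c v)⁻¹) • (x v : Matrix ι ι F) := by
        rw [hc v, smul_smul, mul_assoc, inv_mul_cancel₀ (hc0 v), mul_one, hd]
      rw [Units.val_mul, h2, Matrix.smul_mul, ← Units.val_mul, mul_inv_cancel, Units.val_one]
    have h3 : (d * (c v)⁻¹) ^ 2 = 1 := by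
      rcases hZ _ (mul_mem hg (inv_mem (hx v))) _ h1 with h2 | h2
      · rw [h2, one_pow]
      · rw [h2]; ring
    have h4 : d = (d * (c v)⁻¹) * c v := by rw [mul_assoc, inv_mul_cancel₀ (hc0 v), mul_one]
    rw [h4, mul_pow, h3, one_mul]
  -- the value is constant on nonzero vectors
  have hconst : ∀ v w : V, v ≠ 0 → w ≠ 0 → c v ^ 2 = c w ^ 2 := by
    intro v w hv hw
    obtain ⟨g, hg, γ, hγ, hγv⟩ := exists_NT1_map h hn hperf hv hw
    obtain ⟨d, hd0, hd⟩ := acts_iff.1 hγ v
    have hd2 := scal_pow (r := 2) hn hd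
    have h1 := huniq w (g * x v * g⁻¹) (mul_mem (mul_mem hg (hx v)) (inv_mem hg)) (c v * d) (by
      rw [Units.val_mul, Units.val_mul, hc v, Matrix.mul_smul, Matrix.smul_mul, hd, smul_smul, hγv])
    rw [← h1, mul_pow, hd2, mul_one]
  -- the product formula
  have hprod : ∀ v w : V, -(c (v + w) ^ 2) = ψ (b w v) * (c v ^ 2 * c w ^ 2) := by
    intro v w
    obtain ⟨e, he0, he⟩ := h.mul_ne v w
    have h1 : ((x v * x w : GL ι F) : Matrix ι ι F) = (c v * c w * e) • (X (v + w) : Matrix ι ι F) := by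
      rw [Units.val_mul, hc v, hc w, Matrix.smul_mul, Matrix.mul_smul, smul_smul, he, smul_smul]
    have h2 := huniq (v + w) (x v * x w) (mul_mem (hx v) (hx w)) _ h1
    rw [← h2]
    -- compute the square of `X v * X w`
    have h3 : ((X v : Matrix ι ι F) * (X w : Matrix ι ι F)) * ((X v : Matrix ι ι F) * (X w : Matrix ι ι F)) =
        ψ (b w v) • 1 := by
      calc ((X v : Matrix ι ι F) * (X w : Matrix ι ι F)) * ((X v : Matrix ι ι F) * (X w : Matrix ι ι F))
          = (X v : Matrix ι ι F) * ((X w : Matrix ι ι F) * (X v : Matrix ι ι F)) * (X w : Matrix ι ι F) := by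
            simp only [mul_assoc]
        _ = (X v : Matrix ι ι F) * (ψ (b w v) • ((X v : Matrix ι ι F) * (X w : Matrix ι ι F))) *
            (X w : Matrix ι ι F) := by rw [h.comm w v]
        _ = ψ (b w v) • (((X v : Matrix ι ι F) * (X v : Matrix ι ι F)) *
            ((X w : Matrix ι ι F) * (X w : Matrix ι ι F))) := by
            rw [Matrix.mul_smul, Matrix.smul_mul]; simp only [mul_assoc]
        _ = _ := by rw [hX, hX, neg_mul_neg, one_mul]
    rw [he, Matrix.smul_mul, Matrix.mul_smul, smul_smul, hX, smul_neg, ← neg_smul] at h3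
    have h4 := smul_one_inj h3
    rw [← h4]
    ring
  -- contradiction
  have hnt : Nontrivial V := Module.nontrivial_of_finrank_pos (R := ZMod 2) (by omega)
  obtain ⟨v, w, hvw⟩ := exists_hyp h
  have hv0 : v ≠ 0 := by
    rintro rfl
    rw [map_zero, LinearMap.zero_apply] at hvw
    exact absurd hvw (by decide)
  have hw0 : w ≠ 0 := by
    rintro rfl
    rw [map_zero] at hvw
    exact absurd hvw (by decide)
  have hs0 : v + w ≠ 0 := by
    intro h1
    have h2 : w = -v := (neg_eq_of_add_eq_zero_right h1).symm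
    rw [h2, map_neg, h.alt, neg_zero] at hvw
    exact absurd hvw (by decide)
  have hwv : b w v = 1 := by
    rw [b_skew b h.alt w v, hvw]; decide
  have e1 := hprod v w
  rw [hconst (v + w) v hs0 hv0, hconst w v hw0 hv0, hwv, psi_one_two h] at e1
  obtain ⟨u, hu, hu1⟩ := exists_perp (b := b) (x := v) (by omega)
  have hu0 : u ≠ 0 := by
    rintro rfl
    exact hu1 (Submodule.zero_mem _)
  have hvu0 : v + u ≠ 0 := by
    intro h1
    have h2 : u = -v := (neg_eq_of_add_eq_zero_right h1).symm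
    rw [h2] at hu1
    exact hu1 (Submodule.neg_mem _ (Submodule.mem_span_singleton_self v))
  have e2 := hprod v u
  rw [hconst (v + u) v hvu0 hv0, hconst u v hu0 hv0, b_skew b h.alt u v, hu, neg_zero,
    AddChar.map_zero_eq_one, one_mul] at e2
  have h2 : (2 : F) ≠ 0 := by
    have := h.r_ne_zero
    exact_mod_cast this
  rcases hq v with h1 | h1
  · rw [h1] at e2
    apply h2
    have : (-1 : F) = 1 := by rw [e2]; ring
    calc (2 : F) = 1 + 1 := by norm_num
      _ = -1 + 1 := by rw [this]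
      _ = 0 := by ring
  · rw [h1] at e1
    apply h2
    have : (1 : F) = -1 := by
      calc (1 : F) = -(-1) := by ring
        _ = -1 * (-1 * -1) := e1
        _ = -1 := by ring
    calc (2 : F) = 1 + 1 := by norm_num
      _ = -1 + 1 := by rw [← this]
      _ = 0 := by ring

end two

end Cfsg.Agent.H878
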